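/-
Membership test for the rank-24 lattice built from the length-24 code, its generators,
and the congruence and minimum properties of its squared lengths.
-/
import Cfsg.Prelude.Def_Spor_Conway
import Cfsg.Agent.Golay.Steiner

set_option autoImplicit false

namespace CfsgLib.Leech

open Cfsg CfsgLib.Golay

/-- The binary word formed by the bits of weight two of the coordinates. -/
def hi (x : GolayPt → ℤ) : GolayPt → ZMod 2 := fun i => ((x i / 2 : ℤ) : ZMod 2)

/-- The membership conditions of the lattice. -/
structure InLeech (x : GolayPt → ℤ) : Prop where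
  par : ∀ i, (2 : ℤ) ∣ x i - x none
  sum : (8 : ℤ) ∣ ∑ i, x i - 4 * x none
  code : hi x ∈ golayCode

theorem support₂_inj {v w : GolayPt → ZMod 2} (h : support₂ v = support₂ w) : v = w := by
  funext p
  have := Finset.ext_iff.mp h p
  simp only [support₂, Finset.mem_filter, Finset.mem_univ, true_and] at this
  revert this
  generalize v p = a
  generalize w p = b
  revert a b; decide

theorem one_mem_code : (1 : GolayPt → ZMod 2) ∈ golayCode :=
  Submodule.subset_span (Or.inr rfl)

theorem hi_apply_eq_one {x : GolayPt → ℤ} (i : GolayPt) :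
    hi x i = 1 ↔ x i % 4 = 2 ∨ x i % 4 = 3 := by
  show ((x i / 2 : ℤ) : ZMod 2) = ((1 : ℤ) : ZMod 2) ↔ _
  rw [ZMod.intCast_eq_intCast_iff']
  omega

theorem zmod2_ne_zero_iff (a : ZMod 2) : a ≠ 0 ↔ a = 1 := by revert a; decide

theorem inLeech_of_mem {x : GolayPt → ℤ} (hx : x ∈ leechSet) : InLeech x := by
  obtain ⟨m, hpar, hsum, hk⟩ := hx
  have h0 := hpar none
  refine ⟨fun i => ?_, ?_, ?_⟩
  · have := hpar i
    simp only [Int.ModEq] at this h0
    omega
  · simp only [Int.ModEq] at hsum h0
    omega
  · obtain ⟨w, hw, hws⟩ := hk (x none % 2 + 2)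
    have : w = hi x := by
      refine support₂_inj ?_
      rw [hws]
      ext i
      simp only [support₂, Finset.mem_filter, Finset.mem_univ, true_and, zmod2_ne_zero_iff,
        hi_apply_eq_one]
      have := hpar i
      simp only [Int.ModEq] at this h0 ⊢
      omega
    rwa [this] at hw

theorem mem_leechSet_of {x : GolayPt → ℤ} (h : InLeech x) : x ∈ leechSet := by
  refine ⟨x none, fun i => ?_, ?_, fun k => ?_⟩
  · have := h.par i
    simp only [Int.ModEq]
    omega
  · have := h.sum
    simp only [Int.ModEq]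
    omega
  · by_cases h2 : (2 : ℤ) ∣ k - x none
    · by_cases h4 : k % 4 = 2 ∨ k % 4 = 3
      · refine ⟨hi x, h.code, ?_⟩
        ext i
        have := h.par i
        simp only [support₂, Finset.mem_filter, Finset.mem_univ, true_and, zmod2_ne_zero_iff,
          hi_apply_eq_one]
        simp only [Int.ModEq]
        omega
      · refine ⟨hi x + 1, golayCode.add_mem h.code one_mem_code, ?_⟩
        ext i
        have := h.par i
        have he : (hi x i + 1 ≠ 0) ↔ ¬ hi x i = 1 := by
          generalize hi x i = a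
          revert a; decide
        simp only [support₂, Finset.mem_filter, Finset.mem_univ, true_and, Pi.add_apply,
          Pi.one_apply, he, hi_apply_eq_one]
        simp only [Int.ModEq]
        omega
    · refine ⟨0, golayCode.zero_mem, ?_⟩
      ext i
      have := h.par i
      simp only [support₂, Finset.mem_filter, Finset.mem_univ, true_and, Pi.zero_apply, ne_eq,
        not_true_eq_false, false_iff]
      simp only [Int.ModEq]
      omega

theorem hi_zero : hi 0 = 0 := by funext i; simp [hi]

theorem inLeech_zero : InLeech 0 :=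
  ⟨fun i => by simp, by simp, by rw [hi_zero]; exact golayCode.zero_mem⟩

theorem inLeech_add {x y : GolayPt → ℤ} (hx : InLeech x) (hy : InLeech y) : InLeech (x + y) := by
  refine ⟨fun i => ?_, ?_, ?_⟩
  · have := hx.par i; have := hy.par i
    simp only [Pi.add_apply]; omega
  · simp only [Pi.add_apply, Finset.sum_add_distrib]
    have := hx.sum; have := hy.sum
    omega
  · have key : hi (x + y) = hi x + hi y + (if x none % 2 = 1 ∧ y none % 2 = 1 then 1 else 0) := by
      funext i
      have := hx.par i; have := hy.par i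
      split
      · rename_i h
        simp only [hi, Pi.add_apply, Pi.one_apply]
        rw [show (1 : ZMod 2) = ((1 : ℤ) : ZMod 2) by simp, ← Int.cast_add, ← Int.cast_add,
          ZMod.intCast_eq_intCast_iff']
        omega
      · rename_i h
        simp only [hi, Pi.add_apply, Pi.zero_apply, add_zero]
        rw [← Int.cast_add, ZMod.intCast_eq_intCast_iff']
        omega
    rw [key]
    refine golayCode.add_mem (golayCode.add_mem hx.code hy.code) ?_
    split
    exacts [one_mem_code, golayCode.zero_mem]

theorem inLeech_neg {x : GolayPt → ℤ} (hx : InLeech x) : InLeech (-x) := by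
  refine ⟨fun i => ?_, ?_, ?_⟩
  · have := hx.par i
    simp only [Pi.neg_apply]; omega
  · simp only [Pi.neg_apply, Finset.sum_neg_distrib]
    have := hx.sum
    omega
  · have key : hi (-x) = hi x + (if x none % 2 = 1 then 1 else 0) := by
      funext i
      have := hx.par i
      split
      · simp only [hi, Pi.add_apply, Pi.one_apply, Pi.neg_apply]
        rw [show (1 : ZMod 2) = ((1 : ℤ) : ZMod 2) by simp, ← Int.cast_add,
          ZMod.intCast_eq_intCast_iff']
        omega
      · simp only [hi, Pi.add_apply, Pi.zero_apply, add_zero, Pi.neg_apply]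
        rw [ZMod.intCast_eq_intCast_iff']
        omega
    rw [key]
    refine golayCode.add_mem hx.code ?_
    split
    exacts [one_mem_code, golayCode.zero_mem]

/-- The defining set as an additive subgroup. -/
def leechGroup : AddSubgroup (GolayPt → ℤ) where
  carrier := leechSet
  zero_mem' := mem_leechSet_of inLeech_zero
  add_mem' hx hy := mem_leechSet_of (inLeech_add (inLeech_of_mem hx) (inLeech_of_mem hy))
  neg_mem' hx := mem_leechSet_of (inLeech_neg (inLeech_of_mem hx))

theorem leechLattice_eq : leechLattice = leechGroup := leechGroup.closure_eq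

theorem mem_leech_iff {x : GolayPt → ℤ} : x ∈ leechLattice ↔ InLeech x := by
  rw [leechLattice_eq]
  exact ⟨inLeech_of_mem, mem_leechSet_of⟩

theorem mem_leech {x : GolayPt → ℤ} (hx : x ∈ leechLattice) : InLeech x := mem_leech_iff.mp hx

/-- An even vector lies in the lattice iff its half reduces into the code and has sum divisible
by 4. -/
theorem two_mul_mem_iff (y : GolayPt → ℤ) :
    (fun i => 2 * y i) ∈ leechLattice ↔
      (fun i => ((y i : ℤ) : ZMod 2)) ∈ golayCode ∧ (4 : ℤ) ∣ ∑ i, y i := by
  rw [mem_leech_iff]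
  have key : hi (fun i => 2 * y i) = fun i => ((y i : ℤ) : ZMod 2) := by
    funext i; simp [hi]
  constructor
  · intro h
    refine ⟨key ▸ h.code, ?_⟩
    have := h.sum
    rw [← Finset.mul_sum] at this
    omega
  · rintro ⟨hc, hs⟩
    refine ⟨fun i => by omega, ?_, key ▸ hc⟩
    rw [← Finset.mul_sum]
    omega

/-- A vector four times an integer vector lies in the lattice iff that vector has even sum. -/
theorem four_mul_mem_iff (z : GolayPt → ℤ) :
    (fun i => 4 * z i) ∈ leechLattice ↔ (2 : ℤ) ∣ ∑ i, z i := by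
  have h : (fun i => 4 * z i) = fun i => 2 * (2 * z i) := by funext i; ring
  rw [h, two_mul_mem_iff, ← Finset.mul_sum]
  have hz : (fun i => ((2 * z i : ℤ) : ZMod 2)) = 0 := by
    funext i
    show _ = (0 : ZMod 2)
    rw [← Int.cast_zero (R := ZMod 2), ZMod.intCast_eq_intCast_iff']
    omega
  rw [hz]
  simp only [Submodule.zero_mem, true_and]
  omega

theorem dot_supports {v w : GolayPt → ZMod 2} (hv : v ∈ golayCode) (hw : w ∈ golayCode) :
    (2 : ℤ) ∣ ∑ i, ((v i).val : ℤ) * ((w i).val : ℤ) := by
  have h := dot_eq_zero hv hw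
  have : ((∑ i, ((v i).val : ℤ) * ((w i).val : ℤ) : ℤ) : ZMod 2) = 0 := by
    simp only [Int.cast_sum, Int.cast_mul, Int.cast_natCast, ZMod.natCast_zmod_val]
    exact h
  exact (ZMod.intCast_zmod_eq_zero_iff_dvd _ 2).mp this

theorem weight_dvd {w : GolayPt → ZMod 2} (hw : w ∈ golayCode) :
    (4 : ℤ) ∣ ∑ i, ((w i).val : ℤ) := by
  have : ∑ i, ((w i).val : ℤ) = (hammingNorm w : ℤ) := by
    rw [hammingNorm, Finset.card_filter, Nat.cast_sum]
    refine Finset.sum_congr rfl fun i _ => ?_
    generalize w i = a
    revert a; decide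
  rw [this]
  rcases hammingNorm_mem w hw with h | h | h | h | h <;> rw [h] <;> norm_num

theorem hi_val (x : GolayPt → ℤ) (i : GolayPt) : ((hi x i).val : ℤ) = x i / 2 % 2 := by
  rw [hi, ZMod.val_intCast]
  norm_num

/-- Modulo 4 a coordinate is the common parity plus twice the word's bit. -/
theorem coord_mod_four {x : GolayPt → ℤ} (hx : InLeech x) (i : GolayPt) :
    (4 : ℤ) ∣ x i - (x none % 2 + 2 * ((hi x i).val : ℤ)) := by
  have := hx.par i
  rw [hi_val]
  omega

/-- The sum over a word of the code, weighted by its bits, is divisible by 4. -/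
theorem word_sum_dvd {x : GolayPt → ℤ} (hx : InLeech x) {c : GolayPt → ZMod 2}
    (hc : c ∈ golayCode) : (4 : ℤ) ∣ ∑ i, ((c i).val : ℤ) * x i := by
  have h1 : (4 : ℤ) ∣ ∑ i, ((c i).val : ℤ) * (x i - (x none % 2 + 2 * ((hi x i).val : ℤ))) :=
    Finset.dvd_sum fun i _ => dvd_mul_of_dvd_right (coord_mod_four hx i) _
  have h2 : ∑ i, ((c i).val : ℤ) * (x i - (x none % 2 + 2 * ((hi x i).val : ℤ))) =
      ∑ i, ((c i).val : ℤ) * x i - (x none % 2) * ∑ i, ((c i).val : ℤ) -
        2 * ∑ i, ((c i).val : ℤ) * ((hi x i).val : ℤ) := by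
    simp only [Finset.mul_sum, ← Finset.sum_sub_distrib]
    exact Finset.sum_congr rfl fun i _ => by ring
  obtain ⟨a, ha⟩ := weight_dvd hc
  obtain ⟨b, hb⟩ := dot_supports hc hx.code
  rw [h2, ha, hb] at h1
  have h3 : x none % 2 * (4 * a) = 4 * (x none % 2 * a) := by ring
  rw [h3] at h1
  omega

theorem sq_mod_sixteen_even (t : ℤ) (h : t % 2 = 0) :
    (16 : ℤ) ∣ t ^ 2 - 4 * (t / 2 % 2) := by
  obtain ⟨k, rfl⟩ : ∃ k, t = 2 * k := ⟨t / 2, by omega⟩
  rcases Int.even_or_odd' k with ⟨j, rfl | rfl⟩
  · rw [show 2 * (2 * j) / 2 % 2 = 0 by omega]; exact ⟨j ^ 2, by ring⟩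
  · rw [show 2 * (2 * j + 1) / 2 % 2 = 1 by omega]
    obtain ⟨e, he⟩ : (2 : ℤ) ∣ j * (j + 1) := even_iff_two_dvd.mp (Int.even_mul_succ_self j)
    exact ⟨2 * e, by linear_combination (16 : ℤ) * he⟩

theorem sq_mod_sixteen_odd (t : ℤ) (h : t % 2 = 1) :
    (16 : ℤ) ∣ t ^ 2 - (2 * t + 4 * (t / 2 % 2) - 1) := by
  obtain ⟨j, rfl | rfl⟩ : ∃ j, t = 4 * j + 1 ∨ t = 4 * j + 3 := ⟨t / 4, by omega⟩
  · rw [show (4 * j + 1) / 2 % 2 = 0 by omega]; exact ⟨j ^ 2, by ring⟩
  · rw [show (4 * j + 3) / 2 % 2 = 1 by omega]
    exact ⟨j ^ 2 + j, by ring⟩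

/-- The squared length of a lattice vector is divisible by 16. -/
theorem sixteen_dvd_sqNorm {x : GolayPt → ℤ} (hx : x ∈ leechLattice) :
    (16 : ℤ) ∣ sqNorm x := by
  have h := mem_leech hx
  obtain ⟨a, ha⟩ := weight_dvd h.code
  simp only [hi_val] at ha
  rcases Int.emod_two_eq_zero_or_one (x none) with hp | hp
  · have h1 : (16 : ℤ) ∣ ∑ i, (x i ^ 2 - 4 * (x i / 2 % 2)) :=
      Finset.dvd_sum fun i _ => sq_mod_sixteen_even _ (by have := h.par i; omega)
    rw [Finset.sum_sub_distrib, ← Finset.mul_sum, ha] at h1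
    simp only [sqNorm]
    omega
  · have h1 : (16 : ℤ) ∣ ∑ i, (x i ^ 2 - (2 * x i + 4 * (x i / 2 % 2) - 1)) :=
      Finset.dvd_sum fun i _ => sq_mod_sixteen_odd _ (by have := h.par i; omega)
    have h2 := h.sum
    simp only [Finset.sum_sub_distrib, Finset.sum_add_distrib, ← Finset.mul_sum, ha,
      Finset.sum_const, Finset.card_univ, card_golayPt, nsmul_eq_mul, mul_one, Nat.cast_ofNat]
      at h1
    simp only [sqNorm]
    omega

theorem sum_eq_zero_of_code_zero {x : GolayPt → ℤ} (hx : InLeech x) (hp : x none % 2 = 0)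
    (hc : hi x = 0) (i : GolayPt) : (4 : ℤ) ∣ x i := by
  have h1 := hx.par i
  have h2 := hi_val x i
  rw [hc] at h2
  simp at h2
  omega

/-- A nonzero lattice vector has squared length at least 32. -/
theorem sqNorm_ge {x : GolayPt → ℤ} (hx : x ∈ leechLattice) (h0 : x ≠ 0) : 32 ≤ sqNorm x := by
  have h := mem_leech hx
  rcases Int.emod_two_eq_zero_or_one (x none) with hp | hp
  · by_cases hc : hi x = 0
    · -- all coordinates divisible by four
      have h4 : ∀ i, (4 : ℤ) ∣ x i := sum_eq_zero_of_code_zero h hp hc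
      obtain ⟨i, hi0⟩ := Function.ne_iff.mp h0
      simp only [Pi.zero_apply] at hi0
      by_cases h8 : (8 : ℤ) ∣ x i
      · have h64 : 64 ≤ x i ^ 2 := by
          obtain ⟨k, hk⟩ := h8
          have hk0 : k ≠ 0 := by intro e; rw [e] at hk; omega
          have : 0 < k ^ 2 := by positivity
          rw [hk]; nlinarith
        calc (32 : ℤ) ≤ x i ^ 2 := by linarith
          _ ≤ sqNorm x := Finset.single_le_sum (fun j _ => sq_nonneg (x j)) (Finset.mem_univ i)
      · have hsum := h.sum
        have hsplit := (Finset.add_sum_erase Finset.univ x (Finset.mem_univ i)).symm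
        obtain ⟨j, hj, hj0⟩ : ∃ j ∈ Finset.univ.erase i, x j ≠ 0 := by
          by_contra hne
          simp only [not_exists, not_and, not_not] at hne
          rw [Finset.sum_eq_zero hne, add_zero] at hsplit
          rw [hsplit] at hsum
          omega
        have hij : i ≠ j := (Finset.ne_of_mem_erase hj).symm
        have hb : ∀ l, x l ≠ 0 → 16 ≤ x l ^ 2 := by
          intro l hl
          obtain ⟨k, hk⟩ := h4 l
          have hk0 : k ≠ 0 := by intro e; rw [e] at hk; omega
          have : 0 < k ^ 2 := by positivity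
          rw [hk]; nlinarith
        calc (32 : ℤ) ≤ x i ^ 2 + x j ^ 2 := by linarith [hb i hi0, hb j hj0]
          _ = ∑ l ∈ ({i, j} : Finset GolayPt), x l ^ 2 :=
              (Finset.sum_pair (f := fun l => x l ^ 2) hij).symm
          _ ≤ sqNorm x := Finset.sum_le_sum_of_subset_of_nonneg (Finset.subset_univ _)
              fun l _ _ => sq_nonneg (x l)
    · have h8 : (8 : ℤ) ≤ ∑ i, ((hi x i).val : ℤ) := by
        have : ∑ i, ((hi x i).val : ℤ) = (hammingNorm (hi x) : ℤ) := by
          rw [hammingNorm, Finset.card_filter, Nat.cast_sum]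
          refine Finset.sum_congr rfl fun i _ => ?_
          generalize hi x i = a
          revert a; decide
        have hne : hammingNorm (hi x) ≠ 0 := by rwa [Ne, hammingNorm_eq_zero]
        rw [this]
        rcases hammingNorm_mem _ h.code with e | e | e | e | e <;> omega
      calc (32 : ℤ) ≤ ∑ i, 4 * ((hi x i).val : ℤ) := by rw [← Finset.mul_sum]; linarith
        _ ≤ sqNorm x := Finset.sum_le_sum fun i _ => by
            rw [hi_val]
            rcases Int.emod_two_eq_zero_or_one (x i / 2) with e | e
            · rw [e]; simpa using sq_nonneg (x i)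
            · rw [e]
              have hne : x i ≠ 0 := by intro hxi; rw [hxi] at e; simp at e
              have := h.par i
              rcases le_or_gt (x i) 0 with hle | hgt
              · nlinarith [show x i ≤ -2 by omega]
              · nlinarith [show x i ≥ 2 by omega]
  · have hodd : ∀ i, x i % 2 = 1 := fun i => by have := h.par i; omega
    obtain ⟨i, hi3⟩ : ∃ i, x i ≠ 1 ∧ x i ≠ -1 := by
      by_contra hne
      simp only [not_exists, not_and_or, not_not] at hne
      obtain ⟨a, ha⟩ := weight_dvd h.code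
      have hrel : ∑ i, x i = ∑ i, (1 - 2 * ((hi x i).val : ℤ)) :=
        Finset.sum_congr rfl fun i _ => by
          rw [hi_val]; rcases hne i with e | e <;> rw [e] <;> norm_num
      have hsum := h.sum
      rw [hrel, Finset.sum_sub_distrib, ← Finset.mul_sum, ha] at hsum
      simp at hsum
      omega
    have h1 : ∀ l, 1 ≤ x l ^ 2 := fun l => by
      have : x l ≠ 0 := by have := hodd l; omega
      have : 0 < x l ^ 2 := by positivity
      omega
    have h9 : 9 ≤ x i ^ 2 := by
      have := hodd i
      rcases le_or_gt (x i) 0 with hle | hgt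
      · nlinarith [show x i ≤ -3 by omega]
      · nlinarith [show x i ≥ 3 by omega]
    have h23 : (23 : ℤ) ≤ ∑ l ∈ Finset.univ.erase i, x l ^ 2 := by
      have := Finset.card_nsmul_le_sum (Finset.univ.erase i) (fun l => x l ^ 2) 1 fun l _ => h1 l
      simpa [Finset.card_erase_of_mem, card_golayPt] using this
    simp only [sqNorm]
    rw [← Finset.add_sum_erase Finset.univ (fun l => x l ^ 2) (Finset.mem_univ i)]
    linarith

end CfsgLib.Leech
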