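/-
An explicit spanning set of the rank-24 lattice, and a criterion for containing it.
-/
import Cfsg.Agent.Leech.Basic

set_option autoImplicit false

namespace CfsgLib.Leech

open Cfsg CfsgLib.Golay

/-- Twice the zero-one vector of a bit mask. -/
def twoVec (m : ℕ) : GolayPt → ℤ := fun p => if m.testBit (idx p) then 2 else 0

/-- Four at a point plus four at the extra point (eight if they coincide). -/
def fourPair (q : GolayPt) : GolayPt → ℤ :=
  fun p => (if p = q then 4 else 0) + (if p = none then 4 else 0)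

theorem vecV_mem : Spor.vecV ∈ leechLattice :=
  AddSubgroup.subset_closure Spor.vecV_mem_leechSet

theorem twoVec_half (m : ℕ) :
    twoVec m = fun i => 2 * (if m.testBit (idx i) then (1 : ℤ) else 0) := by
  funext i; simp only [twoVec]; split <;> rfl

theorem cast_bit (m : ℕ) :
    (fun i => ((if m.testBit (idx i) then (1 : ℤ) else 0 : ℤ) : ZMod 2)) = vec m := by
  funext i; simp only [vec]; split <;> simp

theorem twoVec_mem_of {m : ℕ} (h : vec m ∈ golayCode) : twoVec m ∈ leechLattice := by
  rw [twoVec_half, two_mul_mem_iff, cast_bit]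
  refine ⟨h, ?_⟩
  have h1 := weight_dvd h
  convert h1 using 1
  refine Finset.sum_congr rfl fun i _ => ?_
  simp only [vec]; split <;> rfl

theorem twoVec_rows_mem : ∀ r ∈ rows, twoVec r ∈ leechLattice := fun r hr => by
  refine twoVec_mem_of ?_
  rw [rows_spec, List.mem_map] at hr
  obtain ⟨k, -, rfl⟩ := hr
  exact vec_comb_mem _ genMasks vec_genMasks_mem k

theorem fourPair_eq (q : GolayPt) :
    fourPair q = fun p => 4 * ((if p = q then (1 : ℤ) else 0) + (if p = none then 1 else 0)) := by
  funext p; simp only [fourPair]; split <;> split <;> rfl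

theorem fourPair_mem (q : GolayPt) : fourPair q ∈ leechLattice := by
  rw [fourPair_eq, four_mul_mem_iff, Finset.sum_add_distrib]
  simp

theorem exists_lift (S : AddSubgroup (GolayPt → ℤ)) :
    ∀ L : List ℕ, (∀ r ∈ L, twoVec r ∈ S) → ∀ c, ∃ u : GolayPt → ℤ,
      (fun i => 2 * u i) ∈ S ∧ (fun i => ((u i : ℤ) : ZMod 2)) = vec (comb L c) := by
  intro L
  induction L with
  | nil =>
    intro _ c
    refine ⟨0, by
      convert S.zero_mem using 1; funext i; simp, ?_⟩
    funext i; simp [comb, vec]
  | cons r rs ih =>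
    intro h c
    obtain ⟨u, hu, huc⟩ := ih (fun x hx => h x (List.mem_cons_of_mem _ hx)) (c / 2)
    rw [comb, vec_xor, ← huc]
    split
    · refine ⟨(fun i => if r.testBit (idx i) then (1 : ℤ) else 0) + u, ?_, ?_⟩
      · have h2 := S.add_mem (h r List.mem_cons_self) hu
        rw [twoVec_half] at h2
        convert h2 using 1
        funext i; simp only [Pi.add_apply]; ring
      · rw [← cast_bit]
        funext i; simp
    · exact ⟨u, hu, by rw [vec_zero, zero_add]⟩

/-- A subgroup containing the listed vectors contains the lattice. -/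
theorem leech_le (S : AddSubgroup (GolayPt → ℤ)) (h1 : Spor.vecV ∈ S)
    (h2 : ∀ r ∈ rows, twoVec r ∈ S) (h4 : ∀ q, fourPair q ∈ S) : leechLattice ≤ S := by
  intro x hx
  set x' := x - (x none % 2) • Spor.vecV with hx'
  have hx'L : x' ∈ leechLattice :=
    leechLattice.sub_mem hx (leechLattice.zsmul_mem vecV_mem _)
  suffices x' ∈ S by
    have h := S.add_mem this (S.zsmul_mem h1 (x none % 2))
    rwa [hx', sub_add_cancel] at h
  have hev : ∀ i, (2 : ℤ) ∣ x' i := by
    intro i
    have ha := (mem_leech hx).par i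
    have hv : Spor.vecV i = -5 ∨ Spor.vecV i = -1 := by unfold Spor.vecV; split <;> simp
    simp only [hx', Pi.sub_apply, Pi.smul_apply, smul_eq_mul]
    rcases hv with e | e <;> rw [e] <;> omega
  have hy : (fun i => 2 * (x' i / 2)) = x' :=
    funext fun i => Int.mul_ediv_cancel' (hev i)
  have hyL : (fun i => 2 * (x' i / 2)) ∈ leechLattice := by rw [hy]; exact hx'L
  obtain ⟨hc, -⟩ := (two_mul_mem_iff _).mp hyL
  obtain ⟨c, -, hcw⟩ := (mem_code_iff _).mp hc
  obtain ⟨u, hu, huc⟩ := exists_lift (leechLattice ⊓ S) rows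
    (fun r hr => ⟨twoVec_rows_mem r hr, h2 r hr⟩) c
  set z := fun i => (x' i - 2 * u i) / 4 with hz
  have hz4 : (fun i => 4 * z i) = x' - fun i => 2 * u i := by
    funext i
    have h := congrFun (hcw.trans huc.symm) i
    simp only [ZMod.intCast_eq_intCast_iff', Nat.cast_ofNat] at h
    have := hev i
    simp only [hz, Pi.sub_apply]
    omega
  have hzL : (fun i => 4 * z i) ∈ leechLattice := hz4 ▸ leechLattice.sub_mem hx'L hu.1
  obtain ⟨k, hk⟩ := (four_mul_mem_iff z).mp hzL
  have key : (fun i => 4 * z i) = ∑ q, z q • fourPair q - k • fourPair none := by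
    funext p
    simp only [fourPair, Pi.sub_apply, Finset.sum_apply, Pi.smul_apply, smul_eq_mul, mul_add,
      Finset.sum_add_distrib, mul_ite, mul_zero, Finset.sum_ite_eq, Finset.mem_univ, if_true]
    by_cases hp : p = none
    · simp only [hp, if_true, ← Finset.sum_mul, hk]; ring
    · simp only [hp, if_false]; simp; ring
  have hzS : (fun i => 4 * z i) ∈ S := by
    rw [key]
    exact S.sub_mem (S.sum_mem fun q _ => S.zsmul_mem (h4 q) _) (S.zsmul_mem (h4 none) _)
  have := S.add_mem hzS hu.2
  rwa [hz4, sub_add_cancel] at this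

theorem eightVec_mem (q : GolayPt) : (Pi.single q 8 : GolayPt → ℤ) ∈ leechLattice := by
  have : (Pi.single q 8 : GolayPt → ℤ) = fun p => 4 * (if p = q then (2 : ℤ) else 0) := by
    funext p; by_cases h : p = q <;> simp [h]
  rw [this, four_mul_mem_iff]
  simp

end CfsgLib.Leech
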