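/-
Indices of the lattice and of a totally singular sublattice.
-/
import Cfsg.Agent.Leech.Span

set_option autoImplicit false

namespace CfsgLib.Leech

open Cfsg CfsgLib.Golay

/-- Reduction modulo 2, coordinatewise. -/
def red : (GolayPt → ℤ) →+ (GolayPt → ZMod 2) where
  toFun y i := (y i : ZMod 2)
  map_zero' := by funext i; simp
  map_add' y z := by funext i; simp

theorem red_apply (y : GolayPt → ℤ) : red y = fun i => ((y i : ℤ) : ZMod 2) := rfl

theorem red_surjective : Function.Surjective red := fun w =>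
  ⟨fun i => ((w i).val : ℤ), funext fun i => by simp [red_apply]⟩

/-- Multiplication by two. -/
def dbl : (GolayPt → ℤ) →+ (GolayPt → ℤ) where
  toFun y i := 2 * y i
  map_zero' := by funext i; simp
  map_add' y z := by funext i; simp [mul_add]

theorem dbl_apply (y : GolayPt → ℤ) : dbl y = fun i => 2 * y i := rfl

theorem dbl_range : dbl.range = red.ker := by
  ext y
  rw [AddMonoidHom.mem_range, AddMonoidHom.mem_ker, funext_iff]
  simp only [red_apply, Pi.zero_apply]
  constructor
  · rintro ⟨z, rfl⟩ i
    simp [dbl_apply, show (2 : ZMod 2) = 0 from rfl]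
  · intro h
    refine ⟨fun i => y i / 2, funext fun i => ?_⟩
    have := (ZMod.intCast_zmod_eq_zero_iff_dvd (y i) 2).mp (h i)
    simp only [dbl_apply]
    exact Int.mul_ediv_cancel' this

theorem card_words : Nat.card (GolayPt → ZMod 2) = 2 ^ 24 := by
  rw [Nat.card_pi]
  simp

theorem index_dbl_range : dbl.range.index = 2 ^ 24 := by
  rw [dbl_range, AddSubgroup.index_ker, AddMonoidHom.range_eq_top.mpr red_surjective,
    AddSubgroup.card_top, card_words]

theorem dbl_injective : Function.Injective dbl := fun y z h =>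
  funext fun i => mul_left_cancel₀ two_ne_zero (congrFun h i)

theorem index_dbl_map (N : AddSubgroup (GolayPt → ℤ)) :
    (N.map dbl).index = N.index * 2 ^ 24 := by
  rw [AddSubgroup.index_map, (AddMonoidHom.ker_eq_bot_iff dbl).mpr dbl_injective, sup_bot_eq,
    index_dbl_range]

/-- Vectors reducing into a binary subgroup with sum divisible by four. -/
def lift4 (C : AddSubgroup (GolayPt → ZMod 2)) : AddSubgroup (GolayPt → ℤ) where
  carrier := {y | red y ∈ C ∧ (4 : ℤ) ∣ ∑ i, y i}
  zero_mem' := ⟨by rw [map_zero]; exact C.zero_mem, by simp⟩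
  add_mem' ha hb := ⟨by rw [map_add]; exact C.add_mem ha.1 hb.1, by
    simp only [Pi.add_apply, Finset.sum_add_distrib]; exact dvd_add ha.2 hb.2⟩
  neg_mem' ha := ⟨by rw [map_neg]; exact C.neg_mem ha.1, by
    simp only [Pi.neg_apply, Finset.sum_neg_distrib]; exact ha.2.neg_right⟩

/-- Half the coordinate sum, modulo two. -/
def halfSum : (GolayPt → ℤ) →+ ZMod 4 where
  toFun y := ((∑ i, y i : ℤ) : ZMod 4)
  map_zero' := by simp
  map_add' y z := by simp [Finset.sum_add_distrib]

theorem halfSum_apply (y : GolayPt → ℤ) : halfSum y = ((∑ i, y i : ℤ) : ZMod 4) := rfl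

theorem index_lift4 (C : AddSubgroup (GolayPt → ZMod 2))
    (hC : ∀ w ∈ C, (2 : ℤ) ∣ ∑ i, ((w i).val : ℤ)) :
    (lift4 C).index = 2 * C.index := by
  have h1 : lift4 C = halfSum.ker ⊓ C.comap red := by
    ext y
    simp only [AddSubgroup.mem_inf, AddMonoidHom.mem_ker, AddSubgroup.mem_comap, halfSum_apply,
      ZMod.intCast_zmod_eq_zero_iff_dvd]
    exact ⟨fun h => ⟨h.2, h.1⟩, fun h => ⟨h.2, h.1⟩⟩
  have hle : lift4 C ≤ C.comap red := by rw [h1]; exact inf_le_right
  rw [← AddSubgroup.relIndex_mul_index hle, AddSubgroup.index_comap_of_surjective _ red_surjective]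
  congr 1
  rw [h1, AddSubgroup.inf_relIndex_right, AddSubgroup.relIndex_ker]
  have himg : ((AddSubgroup.map halfSum (C.comap red) : AddSubgroup (ZMod 4)) : Set (ZMod 4)) =
      {0, 2} := by
    ext r
    simp only [SetLike.mem_coe, AddSubgroup.mem_map, AddSubgroup.mem_comap, Set.mem_insert_iff,
      Set.mem_singleton_iff]
    constructor
    · rintro ⟨y, hy, rfl⟩
      have hpar : (2 : ℤ) ∣ ∑ i, y i := by
        have h2 : ∀ i, (2 : ℤ) ∣ y i - (((red y) i).val : ℤ) := fun i => by
          rw [red_apply, ZMod.val_intCast]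
          omega
        have h3 := Finset.dvd_sum fun i (_ : i ∈ Finset.univ) => h2 i
        rw [Finset.sum_sub_distrib] at h3
        have := hC _ hy
        omega
      rw [halfSum_apply]
      obtain ⟨k, hk⟩ := hpar
      rw [hk]
      push_cast
      generalize ((k : ℤ) : ZMod 4) = a
      revert a; decide
    · rintro (rfl | rfl)
      · exact ⟨0, by rw [map_zero]; exact C.zero_mem, map_zero _⟩
      · refine ⟨Pi.single none 2, ?_, ?_⟩
        · have : red (Pi.single none 2) = 0 := by
            funext i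
            rw [red_apply]
            by_cases h : i = none
            · subst h; simp; rfl
            · simp [Pi.single_eq_of_ne h]
          rw [this]; exact C.zero_mem
        · rw [halfSum_apply, Finset.sum_pi_single']
          simp
  rw [show Nat.card (AddSubgroup.map halfSum (C.comap red)) =
    Nat.card ({0, 2} : Set (ZMod 4)) from Nat.card_congr (Equiv.setCongr himg)]
  rw [Nat.card_coe_set_eq, Set.ncard_pair (by decide)]

/-- The code as an additive group. -/
def codeAdd : AddSubgroup (GolayPt → ZMod 2) := golayCode.toAddSubgroup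

theorem card_code : Nat.card codeAdd = 2 ^ 12 := by
  show Nat.card golayCode = 2 ^ 12
  rw [Module.natCard_eq_pow_finrank (K := ZMod 2), code_finrank, Nat.card_zmod]

theorem index_code : codeAdd.index = 2 ^ 12 := by
  have h := AddSubgroup.card_mul_index codeAdd
  rw [card_code, card_words] at h
  omega

/-- The even vectors of the lattice. -/
def leechEven : AddSubgroup (GolayPt → ℤ) := (lift4 codeAdd).map dbl

theorem mem_leechEven_iff (x : GolayPt → ℤ) :
    x ∈ leechEven ↔ x ∈ leechLattice ∧ (2 : ℤ) ∣ x none := by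
  constructor
  · rintro ⟨y, hy, rfl⟩
    exact ⟨(two_mul_mem_iff y).mpr ⟨hy.1, hy.2⟩, by simp [dbl_apply]⟩
  · rintro ⟨hx, h2⟩
    have hev : ∀ i, (2 : ℤ) ∣ x i := fun i => by have := (mem_leech hx).par i; omega
    have he : (fun i => 2 * (x i / 2)) = x := funext fun i => Int.mul_ediv_cancel' (hev i)
    have hx' : (fun i => 2 * (x i / 2)) ∈ leechLattice := by rw [he]; exact hx
    obtain ⟨h1, h4⟩ := (two_mul_mem_iff _).mp hx'
    exact ⟨fun i => x i / 2, ⟨h1, h4⟩, he⟩

theorem index_leechEven : leechEven.index = 2 ^ 37 := by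
  rw [leechEven, index_dbl_map, index_lift4, index_code]
  · norm_num
  · intro w hw
    exact dvd_trans (by norm_num) (weight_dvd hw)

/-- Parity of a vector at the extra point. -/
def parity : (GolayPt → ℤ) →+ ZMod 2 where
  toFun x := (x none : ZMod 2)
  map_zero' := by simp
  map_add' x y := by simp

theorem index_leech : leechLattice.index = 2 ^ 36 := by
  have heq : leechEven = parity.ker ⊓ leechLattice := by
    ext x
    rw [mem_leechEven_iff, AddSubgroup.mem_inf, AddMonoidHom.mem_ker]
    show _ ↔ ((x none : ℤ) : ZMod 2) = 0 ∧ _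
    rw [ZMod.intCast_zmod_eq_zero_iff_dvd]
    exact and_comm
  have hle : leechEven ≤ leechLattice := by rw [heq]; exact inf_le_right
  have h := AddSubgroup.relIndex_mul_index hle
  rw [index_leechEven, heq, AddSubgroup.inf_relIndex_right, AddSubgroup.relIndex_ker] at h
  have hcard : Nat.card (AddSubgroup.map parity leechLattice) = 2 := by
    have htop : AddSubgroup.map parity leechLattice = ⊤ := by
      rw [eq_top_iff]
      rintro r -
      rcases (by decide : ∀ a : ZMod 2, a = 0 ∨ a = 1) r with rfl | rfl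
      · exact zero_mem _
      · exact ⟨Spor.vecV, vecV_mem, by decide⟩
    rw [htop, AddSubgroup.card_top, Nat.card_zmod]
  rw [hcard] at h
  omega

/-- All coordinates even and congruent to one another modulo four. -/
def singularLattice : AddSubgroup (GolayPt → ℤ) :=
  (lift4 (AddSubgroup.zmultiples (1 : GolayPt → ZMod 2))).map dbl

theorem mem_one_span (w : GolayPt → ZMod 2) :
    w ∈ AddSubgroup.zmultiples (1 : GolayPt → ZMod 2) ↔ w = 0 ∨ w = 1 := by
  constructor
  · rintro ⟨k, rfl⟩
    show k • (1 : GolayPt → ZMod 2) = 0 ∨ k • (1 : GolayPt → ZMod 2) = 1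
    rcases Int.emod_two_eq_zero_or_one k with h | h
    · left; funext i; simp [(ZMod.intCast_zmod_eq_zero_iff_dvd k 2).mpr (Int.dvd_of_emod_eq_zero h)]
    · right; funext i
      have : ((k : ℤ) : ZMod 2) = ((1 : ℤ) : ZMod 2) := by
        rw [ZMod.intCast_eq_intCast_iff']; omega
      simpa using this
  · rintro (rfl | rfl)
    exacts [zero_mem _, AddSubgroup.mem_zmultiples _]

theorem index_singularLattice : singularLattice.index = 2 ^ 48 := by
  have hcard : Nat.card (AddSubgroup.zmultiples (1 : GolayPt → ZMod 2)) = 2 := by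
    rw [Nat.card_zmultiples]
    exact addOrderOf_eq_prime (by funext i; simp [show (2 : ZMod 2) = 0 from rfl]) one_ne_zero
  have hidx : (AddSubgroup.zmultiples (1 : GolayPt → ZMod 2)).index = 2 ^ 23 := by
    have h := AddSubgroup.card_mul_index (AddSubgroup.zmultiples (1 : GolayPt → ZMod 2))
    rw [hcard, card_words] at h
    omega
  rw [singularLattice, index_dbl_map, index_lift4, hidx]
  · norm_num
  · intro w hw
    rcases (mem_one_span w).mp hw with rfl | rfl
    · simp
    · simp [card_golayPt, show (1 : ZMod 2).val = 1 from rfl]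

theorem singularLattice_le : singularLattice ≤ leechLattice := by
  rintro _ ⟨y, hy, rfl⟩
  refine (two_mul_mem_iff y).mpr ⟨?_, hy.2⟩
  rcases (mem_one_span _).mp hy.1 with h | h <;> rw [← red_apply, h]
  exacts [golayCode.zero_mem, one_mem_code]

theorem two_smul_mem_singular {x : GolayPt → ℤ} (hx : x ∈ leechLattice) :
    (2 : ℤ) • x ∈ singularLattice := by
  refine ⟨x, ⟨?_, ?_⟩, funext fun i => by simp [dbl_apply]⟩
  · rw [mem_one_span]
    rcases Int.emod_two_eq_zero_or_one (x none) with h | h
    · left; funext i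
      have := (mem_leech hx).par i
      exact (ZMod.intCast_zmod_eq_zero_iff_dvd _ 2).mpr (by omega)
    · right; funext i
      have := (mem_leech hx).par i
      show ((x i : ℤ) : ZMod 2) = 1
      rw [show (1 : ZMod 2) = ((1 : ℤ) : ZMod 2) by simp, ZMod.intCast_eq_intCast_iff']
      omega
  · have := (mem_leech hx).sum
    omega

theorem thirtytwo_dvd_singular {x : GolayPt → ℤ} (hx : x ∈ singularLattice) :
    (32 : ℤ) ∣ sqNorm x := by
  obtain ⟨y, ⟨hy, hs⟩, rfl⟩ := hx
  have key : sqNorm (dbl y) = 4 * ∑ i, y i ^ 2 := by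
    rw [sqNorm, Finset.mul_sum]
    exact Finset.sum_congr rfl fun i _ => by simp only [dbl_apply]; ring
  suffices (8 : ℤ) ∣ ∑ i, y i ^ 2 by rw [key]; omega
  rcases (mem_one_span _).mp hy with h | h
  · have h2 : ∀ i, (8 : ℤ) ∣ y i ^ 2 - 2 * y i := fun i => by
      obtain ⟨k, hk⟩ := (ZMod.intCast_zmod_eq_zero_iff_dvd (y i) 2).mp (congrFun h i)
      obtain ⟨e, he⟩ : (2 : ℤ) ∣ (k - 1) * (k - 1 + 1) :=
        even_iff_two_dvd.mp (Int.even_mul_succ_self _)
      refine ⟨e, ?_⟩
      rw [hk]; push_cast; linear_combination (4 : ℤ) * he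
    have h3 := Finset.dvd_sum fun i (_ : i ∈ Finset.univ) => h2 i
    rw [Finset.sum_sub_distrib, ← Finset.mul_sum] at h3
    omega
  · have h2 : ∀ i, (8 : ℤ) ∣ y i ^ 2 - 1 := fun i => by
      have h1 : ((y i : ℤ) : ZMod 2) = ((1 : ℤ) : ZMod 2) := by
        rw [Int.cast_one]; exact congrFun h i
      rw [ZMod.intCast_eq_intCast_iff'] at h1
      obtain ⟨k, hk⟩ : ∃ k, y i = 2 * k + 1 := ⟨y i / 2, by omega⟩
      obtain ⟨e, he⟩ : (2 : ℤ) ∣ k * (k + 1) := even_iff_two_dvd.mp (Int.even_mul_succ_self _)
      refine ⟨e, ?_⟩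
      rw [hk]; linear_combination (4 : ℤ) * he
    have h3 := Finset.dvd_sum fun i (_ : i ∈ Finset.univ) => h2 i
    rw [Finset.sum_sub_distrib, Finset.sum_const, Finset.card_univ, card_golayPt] at h3
    simp only [nsmul_eq_mul, mul_one, Nat.cast_ofNat] at h3
    omega

end CfsgLib.Leech
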