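/-
The coordinate permutations from the group of the code and the sign changes on code words,
as automorphisms of the rank-24 lattice.
-/
import Cfsg.Agent.Leech.Basic
import Cfsg.Agent.Golay.M24

set_option autoImplicit false

namespace CfsgLib.Leech

open Cfsg CfsgLib.Golay
open scoped Pointwise

theorem M24_code {σ : Equiv.Perm GolayPt} (hσ : σ ∈ M24) {w : GolayPt → ZMod 2}
    (hw : w ∈ golayCode) : (fun i => w (σ i)) ∈ golayCode := by
  have hσ' : σ⁻¹ • supports (golayCode : Set (GolayPt → ZMod 2)) = supports golayCode :=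
    inv_mem hσ
  have hmem : σ⁻¹ • support₂ w ∈ supports (golayCode : Set (GolayPt → ZMod 2)) := by
    rw [← hσ']
    exact Set.smul_mem_smul_set ⟨w, hw, rfl⟩
  obtain ⟨v, hv, hvs⟩ := hmem
  have : v = fun i => w (σ i) := by
    refine support₂_inj ?_
    rw [hvs]
    ext q
    rw [Finset.mem_smul_finset]
    simp only [support₂, Finset.mem_filter, Finset.mem_univ, true_and]
    constructor
    · rintro ⟨p, hp, rfl⟩; simpa using hp
    · intro hq; exact ⟨σ q, hq, by simp⟩
  exact this ▸ hv

theorem perm_mem {σ : Equiv.Perm GolayPt} (hσ : σ ∈ M24) {x : GolayPt → ℤ}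
    (hx : x ∈ leechLattice) : (fun i => x (σ i)) ∈ leechLattice := by
  rw [mem_leech_iff] at hx ⊢
  have h0 := hx.par (σ none)
  refine ⟨fun i => ?_, ?_, M24_code hσ hx.code⟩
  · have := hx.par (σ i)
    omega
  · rw [Equiv.sum_comp σ x]
    have := hx.sum
    omega

/-- Change of sign on the support of a word. -/
def flipSign (w : GolayPt → ZMod 2) (x : GolayPt → ℤ) : GolayPt → ℤ :=
  fun i => if w i = 1 then -x i else x i

theorem flipSign_mem {w : GolayPt → ZMod 2} (hw : w ∈ golayCode) {x : GolayPt → ℤ}
    (hx : x ∈ leechLattice) : flipSign w x ∈ leechLattice := by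
  have hxc := mem_leech hx
  rw [mem_leech_iff]
  have hpn : (2 : ℤ) ∣ flipSign w x none - x none := by
    unfold flipSign; split <;> omega
  refine ⟨fun i => ?_, ?_, ?_⟩
  · have := hxc.par i
    have hi' : (2 : ℤ) ∣ flipSign w x i - x i := by
      unfold flipSign; split <;> omega
    omega
  · have hs : ∑ i, flipSign w x i = ∑ i, x i - 2 * ∑ i, ((w i).val : ℤ) * x i := by
      rw [Finset.mul_sum, ← Finset.sum_sub_distrib]
      refine Finset.sum_congr rfl fun i _ => ?_
      simp only [flipSign]
      rcases (by decide : ∀ a : ZMod 2, a = 0 ∨ a = 1) (w i) with h | h <;> rw [h]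
      · rw [show (0 : ZMod 2).val = 0 from rfl]; simp
      · rw [show (1 : ZMod 2).val = 1 from rfl]; simp; ring
    have h1 := word_sum_dvd hxc hw
    have h2 := hxc.sum
    omega
  · have key : hi (flipSign w x) = hi x + (if x none % 2 = 1 then w else 0) := by
      funext i
      have := hxc.par i
      rcases (by decide : ∀ a : ZMod 2, a = 0 ∨ a = 1) (w i) with h | h
      · have : flipSign w x i = x i := by simp [flipSign, h]
        split <;> simp [hi, this, h]
      · have h' : flipSign w x i = -x i := by simp [flipSign, h]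
        split
        · simp only [hi, Pi.add_apply, h', h]
          rw [show (1 : ZMod 2) = ((1 : ℤ) : ZMod 2) by simp, ← Int.cast_add,
            ZMod.intCast_eq_intCast_iff']
          omega
        · simp only [hi, Pi.add_apply, Pi.zero_apply, add_zero, h']
          rw [ZMod.intCast_eq_intCast_iff']
          omega
    rw [key]
    refine golayCode.add_mem hxc.code ?_
    split
    exacts [hw, golayCode.zero_mem]

/-- An additive bijection of the lattice preserving squared lengths, as an element of `Co0`. -/
def mkAut (e : leechLattice ≃+ leechLattice)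
    (h : ∀ v, sqNorm ((e v : leechLattice) : GolayPt → ℤ) = sqNorm (v : GolayPt → ℤ)) : Co0 :=
  ⟨e.toEquiv, fun v w => e.map_add v w, h⟩

@[simp] theorem mkAut_smul (e : leechLattice ≃+ leechLattice) (h) (v : leechLattice) :
    mkAut e h • v = e v := rfl

theorem smul_add' (g : Co0) (v w : leechLattice) : g • (v + w) = g • v + g • w := g.2.1 v w

theorem sqNorm_smul (g : Co0) (v : leechLattice) :
    sqNorm ((g • v : leechLattice) : GolayPt → ℤ) = sqNorm (v : GolayPt → ℤ) := g.2.2 v

/-- An element of `Co0` as an additive map of the lattice. -/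
def toAddHom (g : Co0) : leechLattice →+ leechLattice :=
  AddMonoidHom.mk' (fun v => g • v) (smul_add' g)

theorem smul_zero' (g : Co0) : g • (0 : leechLattice) = 0 := (toAddHom g).map_zero

theorem smul_neg' (g : Co0) (v : leechLattice) : g • (-v) = -(g • v) := (toAddHom g).map_neg v

theorem smul_sub' (g : Co0) (v w : leechLattice) : g • (v - w) = g • v - g • w :=
  (toAddHom g).map_sub v w

theorem smul_zsmul' (g : Co0) (k : ℤ) (v : leechLattice) : g • (k • v) = k • (g • v) :=
  map_zsmul (toAddHom g) k v

theorem smul_sum' (g : Co0) {ι : Type*} (s : Finset ι) (f : ι → leechLattice) :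
    g • (∑ i ∈ s, f i) = ∑ i ∈ s, g • f i := map_sum (toAddHom g) f s

theorem ext_co0 {g h : Co0} (H : ∀ v : leechLattice, g • v = h • v) : g = h :=
  Subtype.ext (Equiv.ext H)

/-- The automorphism moving the coordinate at `i` to `σ i`. -/
def permEquiv (σ : M24) : leechLattice ≃+ leechLattice where
  toFun v := ⟨fun i => (v : GolayPt → ℤ) ((σ : Equiv.Perm GolayPt)⁻¹ i),
    perm_mem (inv_mem σ.2) v.2⟩
  invFun v := ⟨fun i => (v : GolayPt → ℤ) ((σ : Equiv.Perm GolayPt) i), perm_mem σ.2 v.2⟩
  left_inv v := Subtype.ext (funext fun i => by simp)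
  right_inv v := Subtype.ext (funext fun i => by simp)
  map_add' _ _ := Subtype.ext rfl

theorem permEquiv_sqNorm (σ : M24) (v : leechLattice) :
    sqNorm ((permEquiv σ v : leechLattice) : GolayPt → ℤ) = sqNorm (v : GolayPt → ℤ) :=
  Equiv.sum_comp (σ : Equiv.Perm GolayPt)⁻¹ fun i => (v : GolayPt → ℤ) i ^ 2

/-- The group of the code inside the automorphism group of the lattice. -/
def permHom : M24 →* Co0 where
  toFun σ := mkAut (permEquiv σ) (permEquiv_sqNorm σ)
  map_one' := ext_co0 fun v => Subtype.ext (funext fun i => rfl)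
  map_mul' σ τ := ext_co0 fun v => Subtype.ext (funext fun i => by
    simp [mkAut, permEquiv, mul_smul])

theorem permHom_apply (σ : M24) (v : leechLattice) (i : GolayPt) :
    ((permHom σ • v : leechLattice) : GolayPt → ℤ) i =
      (v : GolayPt → ℤ) ((σ : Equiv.Perm GolayPt)⁻¹ i) := rfl

theorem flipSign_flipSign (w : GolayPt → ZMod 2) (x : GolayPt → ℤ) :
    flipSign w (flipSign w x) = x := by
  funext i; simp only [flipSign]; split <;> simp

/-- The sign change on a code word as an automorphism. -/
def signEquiv (w : golayCode) : leechLattice ≃+ leechLattice where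
  toFun v := ⟨flipSign w v, flipSign_mem w.2 v.2⟩
  invFun v := ⟨flipSign w v, flipSign_mem w.2 v.2⟩
  left_inv v := Subtype.ext (flipSign_flipSign _ _)
  right_inv v := Subtype.ext (flipSign_flipSign _ _)
  map_add' a b := Subtype.ext (funext fun i => by
    show flipSign _ ((a : GolayPt → ℤ) + (b : GolayPt → ℤ)) i =
      flipSign _ (a : GolayPt → ℤ) i + flipSign _ (b : GolayPt → ℤ) i
    simp only [flipSign, Pi.add_apply]
    split <;> ring)

theorem signEquiv_sqNorm (w : golayCode) (v : leechLattice) :
    sqNorm ((signEquiv w v : leechLattice) : GolayPt → ℤ) = sqNorm (v : GolayPt → ℤ) := by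
  refine Finset.sum_congr rfl fun i _ => ?_
  show flipSign _ _ i ^ 2 = _
  simp only [flipSign]
  split <;> ring

/-- The sign change on a code word in `Co0`. -/
def signAut (w : golayCode) : Co0 := mkAut (signEquiv w) (signEquiv_sqNorm w)

theorem signAut_apply (w : golayCode) (v : leechLattice) :
    ((signAut w • v : leechLattice) : GolayPt → ℤ) = flipSign w v := rfl

/-- Negation of the lattice. -/
def negAut : Co0 :=
  mkAut (AddEquiv.neg leechLattice) fun v => by
    refine Finset.sum_congr rfl fun i _ => ?_
    show (-((v : GolayPt → ℤ) i)) ^ 2 = _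
    ring

theorem negAut_smul (v : leechLattice) : negAut • v = -v := rfl

theorem negAut_central : negAut ∈ Subgroup.center Co0 := by
  rw [Subgroup.mem_center_iff]
  intro g
  refine ext_co0 fun v => ?_
  rw [mul_smul, mul_smul, negAut_smul, negAut_smul, smul_neg']

theorem negAut_sq : negAut * negAut = 1 := ext_co0 fun v => by
  rw [mul_smul, negAut_smul, negAut_smul, neg_neg, one_smul]

end CfsgLib.Leech
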