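/-
An automorphism of the lattice that is not monomial: on each tetrad of a fixed sextet reflect in
the hyperplane orthogonal to the all-ones vector, and change sign on one tetrad.
-/
import Cfsg.Agent.Leech.Span
import Cfsg.Agent.Leech.Monomial

set_option autoImplicit false

namespace CfsgLib.Leech

open Cfsg CfsgLib.Golay

/-- The six tetrads of a sextet, one after another. -/
def sextetList : List ℕ :=
  [0, 1, 2, 23, 3, 5, 14, 17, 8, 11, 12, 18, 9, 10, 15, 20, 6, 7, 19, 21, 4, 13, 16, 22]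

/-- The tetrad of each position. -/
def tetradList : List ℕ :=
  [0, 0, 0, 1, 5, 1, 4, 4, 2, 3, 3, 2, 2, 5, 1, 3, 5, 1, 2, 4, 3, 4, 5, 0]

/-- The point `b` of tetrad `a`. -/
def tetPt (a : Fin 6) (b : Fin 4) : GolayPt := pt (sextetList.getD (4 * a.val + b.val) 0)

/-- The tetrad containing a point. -/
def tetOf (p : GolayPt) : Fin 6 := Fin.ofNat 6 (tetradList.getD (idx p) 0)

/-- The place of a point in its tetrad. -/
def posOf (p : GolayPt) : Fin 4 := Fin.ofNat 4 (sextetList.idxOf (idx p))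

theorem tetPt_tetOf : ∀ p, tetPt (tetOf p) (posOf p) = p := by decide +kernel

theorem tetOf_tetPt : ∀ a b, tetOf (tetPt a b) = a ∧ posOf (tetPt a b) = b := by decide +kernel

/-- Points as tetrad and place. -/
def tetEquiv : Fin 6 × Fin 4 ≃ GolayPt where
  toFun ab := tetPt ab.1 ab.2
  invFun p := (tetOf p, posOf p)
  left_inv ab := Prod.ext (tetOf_tetPt _ _).1 (tetOf_tetPt _ _).2
  right_inv := tetPt_tetOf

/-- Sum of the coordinates in a tetrad. -/
def tetSum (x : GolayPt → ℤ) (a : Fin 6) : ℤ := ∑ b, x (tetPt a b)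

/-- The sign of a tetrad. -/
def tetSign (a : Fin 6) : ℤ := if a = 0 then -1 else 1

/-- The reflection in every tetrad, one of them negated. -/
def xi (x : GolayPt → ℤ) : GolayPt → ℤ :=
  fun p => tetSign (tetOf p) * (x p - tetSum x (tetOf p) / 2)

theorem tetSign_sq (a : Fin 6) : tetSign a * tetSign a = 1 := by
  unfold tetSign; split <;> norm_num

theorem tetSum_even {x : GolayPt → ℤ} (hx : x ∈ leechLattice) (a : Fin 6) :
    (2 : ℤ) ∣ tetSum x a := by
  have h := fun b => (mem_leech hx).par (tetPt a b)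
  have h0 := h 0; have h1 := h 1; have h2 := h 2; have h3 := h 3
  simp only [tetSum, Fin.sum_univ_four]
  omega

theorem xi_add {x y : GolayPt → ℤ} (hx : x ∈ leechLattice) :
    xi (x + y) = xi x + xi y := by
  funext p
  simp only [xi, Pi.add_apply, tetSum, Finset.sum_add_distrib]
  rw [Int.add_ediv_of_dvd_left (show (2 : ℤ) ∣ ∑ b, x (tetPt (tetOf p) b) from tetSum_even hx _)]
  ring

theorem xi_zero : xi 0 = 0 := by
  funext p; simp [xi, tetSum]

/-- The lattice vectors whose image is again in the lattice. -/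
def xiGood : AddSubgroup (GolayPt → ℤ) where
  carrier := {x | x ∈ leechLattice ∧ xi x ∈ leechLattice}
  zero_mem' := ⟨leechLattice.zero_mem, by rw [xi_zero]; exact leechLattice.zero_mem⟩
  add_mem' hx hy := ⟨leechLattice.add_mem hx.1 hy.1,
    by rw [xi_add hx.1]; exact leechLattice.add_mem hx.2 hy.2⟩
  neg_mem' {x} hx := by
    refine ⟨leechLattice.neg_mem hx.1, ?_⟩
    have : xi (-x) = -xi x := by
      refine eq_neg_of_add_eq_zero_left ?_
      rw [← xi_add (leechLattice.neg_mem hx.1), neg_add_cancel, xi_zero]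
    rw [this]; exact leechLattice.neg_mem hx.2

/-- The mask of the bits of weight two of a vector. -/
def hiMask (x : GolayPt → ℤ) : ℕ :=
  ((List.range 24).map fun i => if x (pt i) / 2 % 2 = 1 then 2 ^ i else 0).sum

/-- A decidable sufficient condition for membership. -/
def LeechTest (x : GolayPt → ℤ) : Prop :=
  (∀ i, (x i - x none) % 2 = 0) ∧ (∑ i, x i - 4 * x none) % 8 = 0 ∧
    ∀ i, hi x i = vec (word (hiMask x % 4096)) i

instance (x : GolayPt → ℤ) : Decidable (LeechTest x) := by unfold LeechTest; infer_instance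

theorem mem_of_test {x : GolayPt → ℤ} (h : LeechTest x) : x ∈ leechLattice := by
  rw [mem_leech_iff]
  refine ⟨fun i => Int.dvd_of_emod_eq_zero (h.1 i), Int.dvd_of_emod_eq_zero h.2.1, ?_⟩
  rw [show hi x = _ from funext h.2.2]
  exact vec_word_mem _

theorem xi_test_vecV : LeechTest (xi Spor.vecV) := by decide +kernel

theorem xi_test_rows : ∀ r ∈ rows, LeechTest (xi (twoVec r)) := by decide +kernel

theorem xi_test_four : ∀ q, LeechTest (xi (fourPair q)) := by decide +kernel

theorem xi_mem {x : GolayPt → ℤ} (hx : x ∈ leechLattice) : xi x ∈ leechLattice :=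
  ((leech_le xiGood ⟨vecV_mem, mem_of_test xi_test_vecV⟩
    (fun r hr => ⟨twoVec_rows_mem r hr, mem_of_test (xi_test_rows r hr)⟩)
    (fun q => ⟨fourPair_mem q, mem_of_test (xi_test_four q)⟩)) hx).2

theorem tetSum_xi {x : GolayPt → ℤ} (hx : x ∈ leechLattice) (a : Fin 6) :
    tetSum (xi x) a = -(tetSign a * tetSum x a) := by
  obtain ⟨k, hk⟩ := tetSum_even hx a
  have h1 : ∀ b, xi x (tetPt a b) = tetSign a * (x (tetPt a b) - k) := fun b => by
    simp only [xi, (tetOf_tetPt a b).1, hk]
    rw [Int.mul_ediv_cancel_left k two_ne_zero]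
  rw [tetSum, Finset.sum_congr rfl fun b _ => h1 b, ← Finset.mul_sum,
    Finset.sum_sub_distrib, show ∑ b, x (tetPt a b) = tetSum x a from rfl, hk]
  simp only [Finset.sum_const, Finset.card_univ, Fintype.card_fin, nsmul_eq_mul, Nat.cast_ofNat]
  ring

theorem xi_xi {x : GolayPt → ℤ} (hx : x ∈ leechLattice) : xi (xi x) = x := by
  funext p
  obtain ⟨k, hk⟩ := tetSum_even hx (tetOf p)
  have hs := tetSign_sq (tetOf p)
  have h1 : tetSum (xi x) (tetOf p) = 2 * (-(tetSign (tetOf p) * k)) := by
    rw [tetSum_xi hx, hk]; ring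
  show tetSign (tetOf p) * (xi x p - tetSum (xi x) (tetOf p) / 2) = x p
  rw [h1, Int.mul_ediv_cancel_left _ two_ne_zero]
  simp only [xi, hk]
  rw [Int.mul_ediv_cancel_left k two_ne_zero]
  linear_combination (x p) * hs

theorem sum_tetrads (f : GolayPt → ℤ) : ∑ p, f p = ∑ a, ∑ b, f (tetPt a b) := by
  rw [← Equiv.sum_comp tetEquiv f, Fintype.sum_prod_type]
  rfl

theorem xi_sqNorm {x : GolayPt → ℤ} (hx : x ∈ leechLattice) : sqNorm (xi x) = sqNorm x := by
  simp only [sqNorm]
  rw [sum_tetrads, sum_tetrads (fun p => x p ^ 2)]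
  refine Finset.sum_congr rfl fun a _ => ?_
  obtain ⟨k, hk⟩ := tetSum_even hx a
  have h1 : ∀ b, xi x (tetPt a b) ^ 2 = x (tetPt a b) ^ 2 - 2 * k * x (tetPt a b) + k ^ 2 :=
    fun b => by
      simp only [xi, (tetOf_tetPt a b).1, hk]
      rw [Int.mul_ediv_cancel_left k two_ne_zero]
      linear_combination (x (tetPt a b) - k) ^ 2 * tetSign_sq a
  rw [Finset.sum_congr rfl fun b _ => h1 b, Finset.sum_add_distrib, Finset.sum_sub_distrib,
    ← Finset.mul_sum, show ∑ b, x (tetPt a b) = tetSum x a from rfl, hk]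
  simp
  ring

/-- The reflection as an additive bijection of the lattice. -/
def xiEquiv : leechLattice ≃+ leechLattice where
  toFun v := ⟨xi v, xi_mem v.2⟩
  invFun v := ⟨xi v, xi_mem v.2⟩
  left_inv v := Subtype.ext (xi_xi v.2)
  right_inv v := Subtype.ext (xi_xi v.2)
  map_add' a b := Subtype.ext (xi_add (y := (b : GolayPt → ℤ)) a.2)

/-- The reflection in `Co0`. -/
def xiAut : Co0 := mkAut xiEquiv fun v => xi_sqNorm v.2

theorem xiAut_apply (v : leechLattice) :
    ((xiAut • v : leechLattice) : GolayPt → ℤ) = xi v := rfl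

theorem xiAut_sq : xiAut * xiAut = 1 := ext_co0 fun v => by
  rw [mul_smul, one_smul]
  exact Subtype.ext (xi_xi v.2)

end CfsgLib.Leech
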