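/-
The automorphism group of the lattice is transitive on its shortest vectors.
-/
import Cfsg.Agent.Leech.Xi
import Cfsg.Agent.Golay.M24Basics

set_option autoImplicit false

namespace CfsgLib.Leech

open Cfsg CfsgLib.Golay

/-- Two coordinates four in absolute value, the others zero. -/
def ShapeA (x : GolayPt → ℤ) : Prop :=
  ∃ i j, i ≠ j ∧ (x i = 4 ∨ x i = -4) ∧ (x j = 4 ∨ x j = -4) ∧ ∀ p, p ≠ i → p ≠ j → x p = 0

/-- Two in absolute value on an octad, zero elsewhere. -/
def ShapeB (x : GolayPt → ℤ) : Prop :=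
  ∃ o ∈ octads, (∀ p ∈ o, x p = 2 ∨ x p = -2) ∧ ∀ p ∉ o, x p = 0

/-- One coordinate three in absolute value, the others one. -/
def ShapeC (x : GolayPt → ℤ) : Prop :=
  ∃ i, (x i = 3 ∨ x i = -3) ∧ ∀ p, p ≠ i → x p = 1 ∨ x p = -1

theorem sq_eq_iff_abs {t a : ℤ} (h : t ^ 2 = a ^ 2) : t = a ∨ t = -a := by
  exact sq_eq_sq_iff_eq_or_eq_neg.mp h

theorem min_shape {x : GolayPt → ℤ} (hx : x ∈ leechLattice) (h32 : sqNorm x = 32) :
    ShapeA x ∨ ShapeB x ∨ ShapeC x := by
  have h := mem_leech hx
  have hsum : ∑ p, x p ^ 2 = 32 := h32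
  rcases Int.emod_two_eq_zero_or_one (x none) with hp | hp
  · by_cases hc : hi x = 0
    · left
      have h4 : ∀ i, (4 : ℤ) ∣ x i := sum_eq_zero_of_code_zero h hp hc
      choose z hz using h4
      have hz2 : ∑ p, z p ^ 2 = 2 := by
        have : ∑ p, x p ^ 2 = 16 * ∑ p, z p ^ 2 := by
          rw [Finset.mul_sum]; exact Finset.sum_congr rfl fun p _ => by rw [hz p]; ring
        omega
      have hle : ∀ p, z p ^ 2 ≤ 1 := by
        intro p
        by_contra hp1
        have h2 := Finset.single_le_sum (fun q _ => sq_nonneg (z q)) (Finset.mem_univ p)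
        have : z p ≤ -2 ∨ 2 ≤ z p := by
          by_contra hh
          have : z p = -1 ∨ z p = 0 ∨ z p = 1 := by omega
          rcases this with e | e | e <;> rw [e] at hp1 <;> norm_num at hp1
        rcases this with e | e <;> nlinarith
      have hsq : ∀ p, z p ^ 2 = if z p ≠ 0 then 1 else 0 := by
        intro p
        split
        · rename_i hne
          have : 0 < z p ^ 2 := by positivity
          have := hle p
          omega
        · rename_i hne; simp only [ne_eq, not_not] at hne; rw [hne]; norm_num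
      rw [Finset.sum_congr rfl fun p _ => hsq p, Finset.sum_boole] at hz2
      obtain ⟨i, j, hij, hs⟩ := Finset.card_eq_two.mp (show (Finset.univ.filter fun p => z p ≠ 0).card = 2 by exact_mod_cast hz2)
      have hval : ∀ p, z p ≠ 0 → x p = 4 ∨ x p = -4 := by
        intro p hp0
        have := hsq p
        rw [if_pos hp0] at this
        rcases sq_eq_iff_abs (a := 1) (by rw [this]; norm_num) with e | e <;> rw [hz p, e] <;>
          norm_num
      have hmem : ∀ p, z p ≠ 0 ↔ p = i ∨ p = j := fun p => by
        have := Finset.ext_iff.mp hs p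
        simpa using this
      refine ⟨i, j, hij, hval i ((hmem i).mpr (Or.inl rfl)), hval j ((hmem j).mpr (Or.inr rfl)),
        fun p hpi hpj => ?_⟩
      have : z p = 0 := by
        by_contra hne
        rcases (hmem p).mp hne with e | e <;> contradiction
      rw [hz p, this, mul_zero]
    · right; left
      set o := support₂ (hi x) with ho
      have hge : ∀ p ∈ o, 4 ≤ x p ^ 2 := by
        intro p hpo
        simp only [ho, support₂, Finset.mem_filter, Finset.mem_univ, true_and, zmod2_ne_zero_iff,
          hi_apply_eq_one] at hpo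
        have := h.par p
        rcases le_or_gt (x p) 0 with hle | hgt
        · nlinarith [show x p ≤ -2 by omega]
        · nlinarith [show x p ≥ 2 by omega]
      have hcard : o.card = 8 := by
        have h4 : (4 : ℤ) * o.card ≤ ∑ p ∈ o, x p ^ 2 := by
          have := Finset.card_nsmul_le_sum o (fun p => x p ^ 2) 4 hge
          rw [nsmul_eq_mul] at this
          linarith
        have h5 : ∑ p ∈ o, x p ^ 2 ≤ 32 := hsum ▸
          Finset.sum_le_sum_of_subset_of_nonneg (Finset.subset_univ _) fun p _ _ => sq_nonneg (x p)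
        have hne : hammingNorm (hi x) ≠ 0 := by rwa [Ne, hammingNorm_eq_zero]
        have heq := hammingNorm_eq (hi x)
        rcases hammingNorm_mem _ h.code with e | e | e | e | e <;> rw [← ho] at heq <;> omega
      have hout : ∑ p ∈ o, (x p ^ 2 - 4) + ∑ p ∈ oᶜ, x p ^ 2 = 0 := by
        rw [Finset.sum_sub_distrib, Finset.sum_const, hcard]
        rw [← Finset.sum_add_sum_compl o] at hsum
        simp only [nsmul_eq_mul]
        push_cast
        omega
      have hn1 : 0 ≤ ∑ p ∈ o, (x p ^ 2 - 4) :=
        Finset.sum_nonneg fun p hp => by linarith [hge p hp]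
      have hn2 : 0 ≤ ∑ p ∈ oᶜ, x p ^ 2 := Finset.sum_nonneg fun p _ => sq_nonneg _
      refine ⟨o, ⟨⟨hi x, h.code, rfl⟩, hcard⟩, fun p hpo => ?_, fun p hpo => ?_⟩
      · have := (Finset.sum_eq_zero_iff_of_nonneg fun q hq => by linarith [hge q hq]).mp
          (show ∑ p ∈ o, (x p ^ 2 - 4) = 0 by omega) p hpo
        exact sq_eq_iff_abs (by simp only [Int.reducePow, Int.reduceNeg]; omega)
      · have := (Finset.sum_eq_zero_iff_of_nonneg fun q _ => sq_nonneg (x q)).mp
          (show ∑ p ∈ oᶜ, x p ^ 2 = 0 by omega) p (Finset.mem_compl.mpr hpo)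
        exact pow_eq_zero_iff two_ne_zero |>.mp this
  · right; right
    have hodd : ∀ p, x p % 2 = 1 := fun p => by have := h.par p; omega
    have h1 : ∀ p, 0 ≤ x p ^ 2 - 1 := fun p => by
      have : x p ≠ 0 := by have := hodd p; omega
      have : 0 < x p ^ 2 := by positivity
      omega
    have htot : ∑ p, (x p ^ 2 - 1) = 8 := by
      rw [Finset.sum_sub_distrib, Finset.sum_const, Finset.card_univ, card_golayPt, hsum]
      norm_num
    have hbig : ∀ p, (x p ≠ 1 ∧ x p ≠ -1) → 8 ≤ x p ^ 2 - 1 := by
      intro p hp1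
      have := hodd p
      rcases le_or_gt (x p) 0 with hle | hgt
      · nlinarith [show x p ≤ -3 by omega]
      · nlinarith [show x p ≥ 3 by omega]
    obtain ⟨i, hi1⟩ : ∃ i, x i ≠ 1 ∧ x i ≠ -1 := by
      by_contra hne
      simp only [not_exists, not_and_or, not_not] at hne
      rw [Finset.sum_eq_zero fun p _ => by rcases hne p with e | e <;> rw [e] <;> norm_num] at htot
      norm_num at htot
    have hsplit := (Finset.add_sum_erase Finset.univ (fun p => x p ^ 2 - 1) (Finset.mem_univ i))
    rw [htot] at hsplit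
    have hn : 0 ≤ ∑ p ∈ Finset.univ.erase i, (x p ^ 2 - 1) := Finset.sum_nonneg fun p _ => h1 p
    have hi8 := hbig i hi1
    refine ⟨i, sq_eq_iff_abs (by simp only [Int.reducePow, Int.reduceNeg]; omega), fun p hpi => ?_⟩
    have := (Finset.sum_eq_zero_iff_of_nonneg fun q _ => h1 q).mp
      (show ∑ p ∈ Finset.univ.erase i, (x p ^ 2 - 1) = 0 by omega) p
      (Finset.mem_erase.mpr ⟨hpi, Finset.mem_univ p⟩)
    exact sq_eq_iff_abs (by simp only [Int.reducePow, Int.reduceNeg]; omega)

/-- Being in one orbit of the automorphism group. -/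
def SameOrbit (v w : leechLattice) : Prop := ∃ g : Co0, g • v = w

theorem SameOrbit.refl' (v : leechLattice) : SameOrbit v v := ⟨1, one_smul _ _⟩

theorem SameOrbit.symm' {v w : leechLattice} : SameOrbit v w → SameOrbit w v := by
  rintro ⟨g, rfl⟩; exact ⟨g⁻¹, inv_smul_smul g v⟩

theorem SameOrbit.trans' {u v w : leechLattice} : SameOrbit u v → SameOrbit v w → SameOrbit u w := by
  rintro ⟨g, rfl⟩ ⟨h, rfl⟩; exact ⟨h * g, mul_smul h g u⟩

/-- Code words separating ordered pairs of points. -/
def sepList : List ℕ := [1, 12, 22, 96, 123, 384, 464, 466, 467, 468, 469, 470, 482, 488, 512, 513,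
  514, 516, 520, 544, 640, 768, 1024, 1025, 1026, 1028, 1032, 2048, 2049, 2050, 2056]

theorem sepList_spec : ∀ i j, i ≠ j →
    ∃ c ∈ sepList, vec (word c) i = 1 ∧ vec (word c) j = 0 := by decide +kernel

theorem exists_separate {i j : GolayPt} (h : i ≠ j) :
    ∃ w ∈ golayCode, w i = 1 ∧ w j = 0 := by
  obtain ⟨c, -, hi, hj⟩ := sepList_spec i j h
  exact ⟨_, vec_word_mem c, hi, hj⟩

theorem exists_mem_map_two {i j : GolayPt} (h : i ≠ j) :
    ∃ g : M24, (g : Equiv.Perm GolayPt) (bp 0) = i ∧ (g : Equiv.Perm GolayPt) (bp 1) = j := by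
  obtain ⟨g, hg, hgx⟩ := exists_mem_map_base 2 (by norm_num)
    (fun k => if k = 0 then i else j) (by
      intro a ha b hb hab
      interval_cases a <;> interval_cases b <;> simp_all)
  exact ⟨⟨g, hg⟩, by simpa using hgx 0 (by norm_num), by simpa using hgx 1 (by norm_num)⟩

/-- Four at two points, zero elsewhere. -/
def stdA (i j : GolayPt) : GolayPt → ℤ :=
  fun p => if p = i ∨ p = j then 4 else 0

theorem shapeA_orbit {v : leechLattice} (hv : ShapeA (v : GolayPt → ℤ)) :
    SameOrbit v Spor.leechU := by
  obtain ⟨i, j, hij, hi4, hj4, hrest⟩ := hv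
  obtain ⟨g, hgi, hgj⟩ := exists_mem_map_two hij
  obtain ⟨w₁, hw₁, hw₁i, hw₁j⟩ := exists_separate hij
  obtain ⟨w₂, hw₂, hw₂j, hw₂i⟩ := exists_separate hij.symm
  let w : golayCode := ⟨(if (v : GolayPt → ℤ) i = -4 then w₁ else 0) +
    (if (v : GolayPt → ℤ) j = -4 then w₂ else 0), golayCode.add_mem
      (by split; exacts [hw₁, golayCode.zero_mem]) (by split; exacts [hw₂, golayCode.zero_mem])⟩
  refine ⟨(permHom g)⁻¹ * signAut w, ?_⟩
  rw [mul_smul, inv_smul_eq_iff]
  refine Subtype.ext (funext fun p => ?_)
  rw [signAut_apply, permHom_apply]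
  show flipSign _ _ p = Spor.vecU _
  have hb0 : bp 0 = none := by decide +kernel
  have hb1 : bp 1 = some 0 := by decide +kernel
  have hU : Spor.vecU ((g : Equiv.Perm GolayPt)⁻¹ p) = stdA i j p := by
    simp only [Spor.vecU, stdA]
    simp only [← hb0, ← hb1, Equiv.Perm.inv_def, Equiv.symm_apply_eq, hgi, hgj]
  rw [hU]
  simp only [flipSign, stdA, w, Pi.add_apply]
  by_cases hpi : p = i
  · subst hpi
    rcases hi4 with e | e <;> rcases hj4 with e' | e' <;> simp [e, e', hw₁i, hw₂i, hij]
  · by_cases hpj : p = j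
    · subst hpj
      rcases hi4 with e | e <;> rcases hj4 with e' | e' <;> simp [e, e', hw₁j, hw₂j, hij.symm]
    · rw [hrest p hpi hpj]; simp [hpi, hpj]

/-- Code words meeting the base octad in a pair containing its first point. -/
def pairList : List ℕ :=
  [0, 19, 85, 73, 0, 33, 0, 0, 0, 0, 0, 0, 0, 0, 17, 0, 0, 65, 0, 0, 0, 0, 0, 81]

/-- The code word meeting the base octad in the given pair. -/
def pairWord (i j : GolayPt) : GolayPt → ZMod 2 :=
  vec (word (pairList.getD (idx i) 0 ^^^ pairList.getD (idx j) 0))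

/-- The two members of the pair and no others, on the base octad. -/
def pairOK (i j p : GolayPt) : Bool :=
  !baseOctad.testBit (idx i) || !baseOctad.testBit (idx j) || decide (i = j) ||
    !baseOctad.testBit (idx p) || (decide (pairWord i j p = 1) == decide (p = i ∨ p = j))

theorem pairOK_all : ∀ i j p, pairOK i j p = true := by decide +kernel

theorem pairWord_spec (i j : GolayPt) (hi : baseOctad.testBit (idx i))
    (hj : baseOctad.testBit (idx j)) (hij : i ≠ j) (p : GolayPt)
    (hp : baseOctad.testBit (idx p)) : pairWord i j p = 1 ↔ p = i ∨ p = j := by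
  have := pairOK_all i j p
  simp only [pairOK, hi, hj, hij, hp, Bool.not_true, decide_false, Bool.false_or, beq_iff_eq,
    decide_eq_decide] at this
  exact this

theorem exists_word_on_base : ∀ n (T : Finset GolayPt), T.card = 2 * n → T ⊆ pts baseOctad →
    ∃ w ∈ golayCode, ∀ p ∈ pts baseOctad, (w p = 1 ↔ p ∈ T) := by
  intro n
  induction n with
  | zero =>
    intro T hT _
    rw [mul_zero, Finset.card_eq_zero] at hT
    subst hT
    exact ⟨0, golayCode.zero_mem, fun p _ => by simp⟩
  | succ n ih =>
    intro T hT hsub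
    obtain ⟨i, hi⟩ := Finset.card_pos.mp (show 0 < T.card by omega)
    have hc1 : (T.erase i).card = 2 * n + 1 := by rw [Finset.card_erase_of_mem hi]; omega
    obtain ⟨j, hj⟩ := Finset.card_pos.mp (show 0 < (T.erase i).card by omega)
    obtain ⟨w, hw, hwT⟩ := ih ((T.erase i).erase j)
      (by rw [Finset.card_erase_of_mem hj]; omega)
      (((Finset.erase_subset _ _).trans (Finset.erase_subset _ _)).trans hsub)
    have hbit : ∀ {p}, p ∈ pts baseOctad → baseOctad.testBit (idx p) := fun hp =>
      (Finset.mem_filter.mp hp).2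
    refine ⟨w + pairWord i j, golayCode.add_mem hw (vec_word_mem _), fun p hp => ?_⟩
    have h1 := pairWord_spec i j (hbit (hsub hi)) (hbit (hsub (Finset.mem_of_mem_erase hj)))
      (Finset.ne_of_mem_erase hj).symm p (hbit hp)
    have h2 := hwT p hp
    simp only [Finset.mem_erase] at h2 hj
    simp only [Pi.add_apply]
    by_cases hpi : p = i
    · subst hpi
      have : w p = 0 := by
        rcases (by decide : ∀ a : ZMod 2, a = 0 ∨ a = 1) (w p) with e | e
        · exact e
        · exact absurd (h2.mp e).2.1 (by simp)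
      simp [this, h1.mpr (Or.inl rfl), hi]
    · by_cases hpj : p = j
      · subst hpj
        have : w p = 0 := by
          rcases (by decide : ∀ a : ZMod 2, a = 0 ∨ a = 1) (w p) with e | e
          · exact e
          · exact absurd (h2.mp e).1 (by simp)
        simp [this, h1.mpr (Or.inr rfl), hj.2]
      · have : pairWord i j p = 0 := by
          rcases (by decide : ∀ a : ZMod 2, a = 0 ∨ a = 1) (pairWord i j p) with e | e
          · exact e
          · exact absurd (h1.mp e) (by simp [hpi, hpj])
        simp [this, h2, hpi, hpj]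

/-- Twice the base octad. -/
def stdB : leechLattice :=
  ⟨twoVec baseOctad, twoVec_mem_of (by rw [← baseOctad_spec.1]; exact vec_word_mem _)⟩

theorem shapeB_orbit {v : leechLattice} (hv : ShapeB (v : GolayPt → ℤ)) : SameOrbit v stdB := by
  obtain ⟨o, ho, hon, hoff⟩ := hv
  obtain ⟨g, hg, hgo⟩ := exists_map_baseOctad ho
  refine (show SameOrbit v ((permHom ⟨g, hg⟩)⁻¹ • v) from ⟨_, rfl⟩).trans' ?_
  set u : leechLattice := (permHom ⟨g, hg⟩)⁻¹ • v with hu
  have hub : ∀ q, (u : GolayPt → ℤ) q = (v : GolayPt → ℤ) (g q) := by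
    intro q
    have : permHom ⟨g, hg⟩ • u = v := smul_inv_smul _ _
    rw [← this, permHom_apply]
    simp
  have huin : ∀ q ∈ pts baseOctad, (u : GolayPt → ℤ) q = 2 ∨ (u : GolayPt → ℤ) q = -2 :=
    fun q hq => by rw [hub]; exact hon _ (hgo ▸ Finset.mem_image_of_mem g hq)
  have huout : ∀ q, q ∉ pts baseOctad → (u : GolayPt → ℤ) q = 0 := by
    intro q hq
    rw [hub]
    refine hoff _ fun hm => hq ?_
    rw [← hgo, Finset.mem_image] at hm
    obtain ⟨r, hr, hrq⟩ := hm
    rwa [← g.injective hrq]
  set T := (pts baseOctad).filter fun q => (u : GolayPt → ℤ) q = -2 with hT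
  have hb8 : (pts baseOctad).card = 8 := octad_card pts_baseOctad_mem
  have hpar : 2 ∣ T.card := by
    have hs := (mem_leech u.2).sum
    have hnone : (u : GolayPt → ℤ) none % 2 = 0 := by
      by_cases hq : none ∈ pts baseOctad
      · rcases huin _ hq with e | e <;> rw [e] <;> rfl
      · rw [huout _ hq]; rfl
    have hsum : ∑ q, (u : GolayPt → ℤ) q = 16 - 4 * (T.card : ℤ) := by
      rw [← Finset.sum_subset (Finset.subset_univ (pts baseOctad)) fun q _ hq => huout q hq]
      have : ∀ q ∈ pts baseOctad, (u : GolayPt → ℤ) q =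
          2 - 4 * (if (u : GolayPt → ℤ) q = -2 then 1 else 0) := fun q hq => by
        rcases huin q hq with e | e <;> rw [e] <;> norm_num
      rw [Finset.sum_congr rfl this, Finset.sum_sub_distrib, ← Finset.mul_sum, Finset.sum_boole,
        Finset.sum_const, hb8]
      norm_num
      rfl
    omega
  obtain ⟨n, hn⟩ := hpar
  obtain ⟨w, hw, hwT⟩ := exists_word_on_base n T hn (Finset.filter_subset _ _)
  refine ⟨signAut ⟨w, hw⟩, Subtype.ext (funext fun q => ?_)⟩
  rw [signAut_apply]
  show flipSign w _ q = twoVec baseOctad q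
  have hmem : baseOctad.testBit (idx q) = true ↔ q ∈ pts baseOctad := by simp [pts]
  by_cases hq : q ∈ pts baseOctad
  · simp only [flipSign, twoVec, hmem.mpr hq, if_true, hwT q hq, hT, Finset.mem_filter, hq,
      true_and]
    rcases huin q hq with e | e <;> rw [e] <;> simp
  · have : ¬ baseOctad.testBit (idx q) = true := fun h => hq (hmem.mp h)
    simp [flipSign, twoVec, huout q hq, this]

/-- Minus three at a point, one elsewhere. -/
def stdC (i : GolayPt) : GolayPt → ℤ := fun p => if p = i then -3 else 1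

theorem stdC_mem (i : GolayPt) : stdC i ∈ leechLattice := by
  refine AddSubgroup.subset_closure (Spor.mem_leechSet_of_const_mod_four _ 1 1 rfl (fun p => ?_) ?_)
  · unfold stdC; split <;> decide
  · have : ∑ p, stdC i p = 20 := by
      rw [← Finset.add_sum_erase Finset.univ _ (Finset.mem_univ i),
        Finset.sum_congr rfl (g := fun _ => (1 : ℤ)) fun p hp => by
          simp [stdC, Finset.ne_of_mem_erase hp]]
      simp [stdC, Finset.card_erase_of_mem]
    rw [this]; decide

theorem shapeC_orbit {v : leechLattice} (hv : ShapeC (v : GolayPt → ℤ)) :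
    SameOrbit v ⟨stdC none, stdC_mem none⟩ := by
  obtain ⟨i, hi3, hrest⟩ := hv
  have h := mem_leech v.2
  have hodd : ∀ p, (v : GolayPt → ℤ) p % 2 = 1 := fun p => by
    by_cases hp : p = i
    · subst hp; rcases hi3 with e | e <;> rw [e] <;> rfl
    · rcases hrest p hp with e | e <;> rw [e] <;> rfl
  refine (show SameOrbit v ⟨stdC i, stdC_mem i⟩ from
    ⟨signAut ⟨hi v, h.code⟩, Subtype.ext (funext fun p => ?_)⟩).trans' ?_
  · rw [signAut_apply]
    show flipSign _ _ p = stdC i p
    simp only [flipSign, hi_apply_eq_one, stdC]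
    by_cases hp : p = i
    · subst hp; rcases hi3 with e | e <;> simp [e]
    · rcases hrest p hp with e | e <;> simp [e, hp]
  · obtain ⟨g, hg, hgx⟩ := exists_mem_map_base 1 (by norm_num) (fun _ => i)
      (fun a ha b hb _ => by omega)
    refine ⟨(permHom ⟨g, hg⟩)⁻¹, ?_⟩
    rw [inv_smul_eq_iff]
    refine Subtype.ext (funext fun p => ?_)
    rw [permHom_apply]
    show stdC i p = stdC none (g⁻¹ p)
    have hb0 : bp 0 = none := by decide +kernel
    have := hgx 0 (by norm_num)
    rw [hb0] at this
    simp only [stdC, Equiv.Perm.inv_def, Equiv.symm_apply_eq, this]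

theorem witness_AB : ∃ p, (xi (fourPair (pt 3))) p % 4 = 2 := ⟨pt 3, by decide +kernel⟩

theorem witness_BC : (xi (twoVec (word 2))) none % 2 = 1 := by decide +kernel

theorem sqNorm_fourPair : sqNorm (fourPair (pt 3)) = 32 := by decide +kernel

theorem sqNorm_twoVec_two : sqNorm (twoVec (word 2)) = 32 := by decide +kernel

theorem min_orbit {v : leechLattice} (hv : sqNorm (v : GolayPt → ℤ) = 32) :
    SameOrbit v Spor.leechU := by
  have hB : SameOrbit stdB Spor.leechU := by
    let a : leechLattice := ⟨fourPair (pt 3), fourPair_mem _⟩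
    have hA : ShapeA (a : GolayPt → ℤ) :=
      ⟨none, pt 3, by decide +kernel, Or.inl (by decide +kernel), Or.inl (by decide +kernel),
        by decide +kernel⟩
    obtain ⟨p, hp⟩ := witness_AB
    rcases min_shape (xiAut • a).2 (by rw [sqNorm_smul]; exact sqNorm_fourPair) with h | h | h
    · obtain ⟨i, j, -, hi4, hj4, hr⟩ := h
      rw [xiAut_apply] at hi4 hj4 hr
      by_cases hpi : p = i
      · subst hpi; rcases hi4 with e | e <;> rw [e] at hp <;> norm_num at hp
      · by_cases hpj : p = j
        · subst hpj; rcases hj4 with e | e <;> rw [e] at hp <;> norm_num at hp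
        · rw [hr p hpi hpj] at hp; norm_num at hp
    · exact (shapeB_orbit h).symm'.trans'
        ((show SameOrbit a (xiAut • a) from ⟨_, rfl⟩).symm'.trans' (shapeA_orbit hA))
    · obtain ⟨i, hi3, hr⟩ := h
      rw [xiAut_apply] at hi3 hr
      by_cases hpi : p = i
      · subst hpi; rcases hi3 with e | e <;> rw [e] at hp <;> norm_num at hp
      · rcases hr p hpi with e | e <;> rw [e] at hp <;> norm_num at hp
  have hC : SameOrbit ⟨stdC none, stdC_mem none⟩ Spor.leechU := by
    let b : leechLattice := ⟨twoVec (word 2), twoVec_mem_of (vec_word_mem 2)⟩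
    have hbB : ShapeB (b : GolayPt → ℤ) :=
      ⟨pts (word 2), (mem_octads_iff _).mpr ⟨2, by norm_num, by decide +kernel, rfl⟩,
        fun p hp => Or.inl (by simp only [pts, Finset.mem_filter] at hp; simp [b, twoVec, hp.2]),
        fun p hp => by simp only [pts, Finset.mem_filter, Finset.mem_univ, true_and] at hp
                       simp [b, twoVec, hp]⟩
    rcases min_shape (xiAut • b).2 (by rw [sqNorm_smul]; exact sqNorm_twoVec_two) with h | h | h
    · obtain ⟨i, j, -, hi4, hj4, hr⟩ := h
      rw [xiAut_apply] at hi4 hj4 hr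
      have hp := witness_BC
      by_cases hpi : none = i
      · subst hpi; rcases hi4 with e | e <;> rw [e] at hp <;> norm_num at hp
      · by_cases hpj : none = j
        · subst hpj; rcases hj4 with e | e <;> rw [e] at hp <;> norm_num at hp
        · rw [hr none hpi hpj] at hp; norm_num at hp
    · obtain ⟨o, -, hon, hoff⟩ := h
      rw [xiAut_apply] at hon hoff
      have hp := witness_BC
      by_cases hpo : none ∈ o
      · rcases hon none hpo with e | e <;> rw [e] at hp <;> norm_num at hp
      · rw [hoff none hpo] at hp; norm_num at hp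
    · exact (shapeC_orbit h).symm'.trans'
        ((show SameOrbit b (xiAut • b) from ⟨_, rfl⟩).symm'.trans'
          ((shapeB_orbit hbB).trans' hB))
  rcases min_shape v.2 hv with h | h | h
  · exact shapeA_orbit h
  · exact (shapeB_orbit h).trans' hB
  · exact (shapeC_orbit h).trans' hC

theorem min_transitive {v w : leechLattice} (hv : sqNorm (v : GolayPt → ℤ) = 32)
    (hw : sqNorm (w : GolayPt → ℤ) = 32) : ∃ g : Co0, g • v = w :=
  (min_orbit hv).trans' (min_orbit hw).symm'

end CfsgLib.Leech
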