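/-
Automorphisms of the lattice as linear maps: inner products, the integer matrix of an
automorphism, the centre, and congruence modulo twice the lattice among short vectors.
-/
import Cfsg.Agent.Leech.MinVectors

set_option autoImplicit false

namespace CfsgLib.Leech

open Cfsg CfsgLib.Golay

theorem sqNorm_add (x y : GolayPt → ℤ) :
    sqNorm (x + y) = sqNorm x + sqNorm y + 2 * dotInt x y := by
  simp only [sqNorm, dotInt, Finset.mul_sum, ← Finset.sum_add_distrib, Pi.add_apply]
  exact Finset.sum_congr rfl fun i _ => by ring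

theorem sqNorm_sub (x y : GolayPt → ℤ) :
    sqNorm (x - y) = sqNorm x + sqNorm y - 2 * dotInt x y := by
  simp only [sqNorm, dotInt, Finset.mul_sum, ← Finset.sum_add_distrib, ← Finset.sum_sub_distrib,
    Pi.sub_apply]
  exact Finset.sum_congr rfl fun i _ => by ring

theorem sqNorm_smul_two (x : GolayPt → ℤ) : sqNorm (2 • x) = 4 * sqNorm x := by
  simp only [sqNorm, Finset.mul_sum, Pi.smul_apply, nsmul_eq_mul, Nat.cast_ofNat]
  exact Finset.sum_congr rfl fun i _ => by ring

theorem dot_smul' (g : Co0) (v w : leechLattice) :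
    dotInt ((g • v : leechLattice) : GolayPt → ℤ) ((g • w : leechLattice) : GolayPt → ℤ) =
      dotInt (v : GolayPt → ℤ) (w : GolayPt → ℤ) := by
  have h1 := sqNorm_smul g (v + w)
  rw [smul_add'] at h1
  simp only [AddSubgroup.coe_add, sqNorm_add, sqNorm_smul] at h1
  omega

/-- The inner product of lattice vectors is divisible by 8. -/
theorem eight_dvd_dot {x y : GolayPt → ℤ} (hx : x ∈ leechLattice) (hy : y ∈ leechLattice) :
    (8 : ℤ) ∣ dotInt x y := by
  have h1 := sixteen_dvd_sqNorm (leechLattice.add_mem hx hy)
  have h2 := sixteen_dvd_sqNorm hx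
  have h3 := sixteen_dvd_sqNorm hy
  rw [sqNorm_add] at h1
  omega

/-- Eight at one point, as a lattice vector. -/
def eightAt (q : GolayPt) : leechLattice := ⟨Pi.single q 8, eightVec_mem q⟩

theorem eightAt_apply (q p : GolayPt) :
    (eightAt q : GolayPt → ℤ) p = if p = q then 8 else 0 := Pi.single_apply q 8 p

theorem sum_eightAt (v : leechLattice) :
    ∑ q, (v : GolayPt → ℤ) q • eightAt q = (8 : ℤ) • v := by
  refine Subtype.ext (funext fun p => ?_)
  simp only [AddSubgroup.coe_zsmul, AddSubmonoidClass.coe_finsetSum, Finset.sum_apply,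
    Pi.smul_apply, eightAt_apply, smul_eq_mul, mul_ite, mul_zero, Finset.sum_ite_eq,
    Finset.mem_univ, if_true]
  ring

theorem sqNorm_eightAt (q : GolayPt) : sqNorm (eightAt q : GolayPt → ℤ) = 64 := by
  simp [sqNorm, eightAt_apply, ite_pow]

/-- The integer matrix of an automorphism, scaled by eight. -/
def mat (g : Co0) (p q : GolayPt) : ℤ := ((g • eightAt q : leechLattice) : GolayPt → ℤ) p

theorem mat_mul_vec (g : Co0) (v : leechLattice) (p : GolayPt) :
    8 * ((g • v : leechLattice) : GolayPt → ℤ) p = ∑ q, mat g p q * (v : GolayPt → ℤ) q := by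
  have h := congrArg (fun u : leechLattice => (g • u : leechLattice)) (sum_eightAt v)
  simp only [smul_sum', smul_zsmul'] at h
  have h2 := congrFun (congrArg Subtype.val h) p
  simp only [AddSubgroup.coe_zsmul, AddSubmonoidClass.coe_finsetSum, Finset.sum_apply,
    Pi.smul_apply, smul_eq_mul] at h2
  rw [← h2]
  exact Finset.sum_congr rfl fun q _ => mul_comm _ _

theorem eq_of_mat_eq {g h : Co0} (H : ∀ p q, mat g p q = mat h p q) : g = h := by
  refine ext_co0 fun v => Subtype.ext (funext fun p => ?_)
  have h1 := mat_mul_vec g v p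
  have h2 := mat_mul_vec h v p
  simp only [H] at h1
  omega

theorem permHom_eightAt (σ : M24) (q : GolayPt) :
    permHom σ • eightAt q = eightAt ((σ : Equiv.Perm GolayPt) q) := by
  refine Subtype.ext (funext fun p => ?_)
  rw [permHom_apply, eightAt_apply, eightAt_apply]
  simp only [Equiv.Perm.inv_def, Equiv.symm_apply_eq]

/-- An element commuting with the monomial group is plus or minus one. -/
theorem eq_one_or_neg {g : Co0} (hs : ∀ w : golayCode, g * signAut w = signAut w * g)
    (hp : ∀ σ : M24, g * permHom σ = permHom σ * g) : g = 1 ∨ g = negAut := by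
  have hoff : ∀ p q, p ≠ q → mat g p q = 0 := by
    intro p q hpq
    obtain ⟨w, hw, hwp, hwq⟩ := exists_separate hpq
    have hfix : signAut ⟨w, hw⟩ • eightAt q = eightAt q := by
      refine Subtype.ext (funext fun r => ?_)
      rw [signAut_apply]
      show flipSign w _ r = _
      simp only [flipSign, eightAt_apply]
      by_cases hr : r = q
      · subst hr; simp [hwq]
      · simp [hr]
    have h := congrArg (fun k : Co0 => k • eightAt q) (hs ⟨w, hw⟩)
    simp only [mul_smul, hfix] at h
    have h2 := congrFun (congrArg Subtype.val h) p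
    rw [signAut_apply] at h2
    simp only [flipSign, hwp, if_true] at h2
    show ((g • eightAt q : leechLattice) : GolayPt → ℤ) p = 0
    omega
  have hdiag : ∀ q, mat g q q = mat g none none := by
    intro q
    obtain ⟨σ, hσ, hσx⟩ := exists_mem_map_base 1 (by norm_num) (fun _ => q)
      (fun a ha b hb _ => by omega)
    have hb0 : bp 0 = none := by decide +kernel
    have hσq : σ none = q := by rw [← hb0]; exact hσx 0 (by norm_num)
    have h := congrArg (fun k : Co0 => k • eightAt none) (hp ⟨σ, hσ⟩)
    simp only [mul_smul, permHom_eightAt, hσq] at h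
    have h2 := congrFun (congrArg Subtype.val h) q
    rw [permHom_apply] at h2
    simp only [Equiv.Perm.inv_def] at h2
    rw [(Equiv.symm_apply_eq σ).mpr hσq.symm] at h2
    exact h2
  have hsq : mat g none none ^ 2 = 8 ^ 2 := by
    have h := sqNorm_smul g (eightAt none)
    rw [sqNorm_eightAt] at h
    simp only [sqNorm] at h
    rw [Finset.sum_eq_single none (fun p _ hp0 => by
      rw [show ((g • eightAt none : leechLattice) : GolayPt → ℤ) p = 0 from hoff p none hp0]
      norm_num) (by simp)] at h
    simpa [mat] using h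
  rcases sq_eq_iff_abs hsq with e | e
  · left
    refine eq_of_mat_eq fun p q => ?_
    by_cases hpq : p = q
    · subst hpq; rw [hdiag, e]; simp [mat, eightAt_apply]
    · rw [hoff p q hpq]; simp [mat, eightAt_apply, hpq]
  · right
    refine eq_of_mat_eq fun p q => ?_
    by_cases hpq : p = q
    · subst hpq; rw [hdiag, e]; simp [mat, negAut_smul, eightAt_apply]
    · rw [hoff p q hpq]; simp [mat, negAut_smul, eightAt_apply, hpq]

theorem negAut_ne_one : negAut ≠ 1 := by
  intro h
  have h2 := congrFun (congrArg Subtype.val (congrArg (fun k : Co0 => k • eightAt none) h)) none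
  simp [negAut_smul, eightAt_apply] at h2

theorem center_eq : (Subgroup.center Co0 : Set Co0) = {1, negAut} := by
  ext g
  simp only [SetLike.mem_coe, Set.mem_insert_iff, Set.mem_singleton_iff]
  constructor
  · intro hg
    exact eq_one_or_neg (fun w => (Subgroup.mem_center_iff.mp hg _).symm)
      (fun σ => (Subgroup.mem_center_iff.mp hg _).symm)
  · rintro (rfl | rfl)
    exacts [one_mem _, negAut_central]

theorem card_center : Nat.card (Subgroup.center Co0) = 2 := by
  show Nat.card (Subgroup.center Co0 : Set Co0) = 2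
  rw [center_eq, Nat.card_coe_set_eq, Set.ncard_pair negAut_ne_one.symm]

/-- Two distinct vectors of squared length at most 64 congruent modulo twice the lattice are
opposite or orthogonal of squared length 64. -/
theorem short_congr {x y : GolayPt → ℤ} (hy : y ∈ leechLattice) (hxy : x ≠ y)
    (hxn : sqNorm x ≤ 64) (hyn : sqNorm y ≤ 64)
    (hc : ∃ z ∈ leechLattice, x - y = 2 • z) :
    x = -y ∨ (sqNorm x = 64 ∧ sqNorm y = 64 ∧ dotInt x y = 0) := by
  obtain ⟨z, hz, hxz⟩ := hc
  by_cases hneg : x = -y
  · exact Or.inl hneg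
  right
  have hz0 : z ≠ 0 := by
    rintro rfl
    rw [smul_zero, sub_eq_zero] at hxz
    exact hxy hxz
  have hzy : z + y ≠ 0 := by
    intro h
    refine hneg ?_
    have : z = -y := eq_neg_of_add_eq_zero_left h
    subst this
    funext i
    have := congrFun hxz i
    simp only [Pi.sub_apply, Pi.smul_apply, Pi.neg_apply, nsmul_eq_mul, Nat.cast_ofNat] at this
    simp only [Pi.neg_apply]
    omega
  have hsum : x + y = 2 • (z + y) := by
    funext i
    have := congrFun hxz i
    simp only [Pi.sub_apply, Pi.smul_apply, nsmul_eq_mul, Nat.cast_ofNat] at this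
    simp only [Pi.add_apply, Pi.smul_apply, nsmul_eq_mul, Nat.cast_ofNat]
    omega
  have h1 : 128 ≤ sqNorm (x - y) := by
    rw [hxz, sqNorm_smul_two]; linarith [sqNorm_ge hz hz0]
  have h2 : 128 ≤ sqNorm (x + y) := by
    rw [hsum, sqNorm_smul_two]; linarith [sqNorm_ge (leechLattice.add_mem hz hy) hzy]
  rw [sqNorm_sub] at h1
  rw [sqNorm_add] at h2
  omega

end CfsgLib.Leech
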