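/-
Counting integer points of a box with prescribed total weight and residue of the sum, by a table
computed one coordinate at a time.
-/
import Mathlib

set_option autoImplicit false

namespace CfsgLib.Leech.BoxCount

variable (N m : ℕ) (wt : ℤ → ℕ)

/-- One further coordinate with values in `A`. -/
def step (A : Finset ℤ) (T : List ℕ) : List ℕ :=
  (List.range ((N + 1) * m)).map fun k =>
    ∑ v ∈ A, if wt v ≤ k / m then T.getD ((k / m - wt v) * m + ((((k % m : ℕ) : ℤ) - v) % (m : ℤ)).toNat) 0
      else 0

/-- The table of the empty box. -/
def base : List ℕ := (List.range ((N + 1) * m)).map fun k => if k = 0 then 1 else 0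

variable {ι : Type*} [Fintype ι] [DecidableEq ι]

/-- The box over a set of coordinates, zero elsewhere. -/
def box (alph : ι → Finset ℤ) (s : Finset ι) : Finset (ι → ℤ) :=
  Fintype.piFinset fun i => if i ∈ s then alph i else {0}

/-- Total weight and residue of the sum of a point. -/
def key (f : ι → ℤ) : ℕ × ℤ := (∑ i, wt (f i), (∑ i, f i) % (m : ℤ))

/-- The number of points of the box with the given key. -/
def cnt (alph : ι → Finset ℤ) (s : Finset ι) (n r : ℕ) : ℕ :=
  ((box alph s).filter fun f => key m wt f = (n, (r : ℤ))).card

/-- A table is right for a box. -/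
def Correct (alph : ι → Finset ℤ) (s : Finset ι) (T : List ℕ) : Prop :=
  ∀ n ≤ N, ∀ r < m, T.getD (n * m + r) 0 = cnt m wt alph s n r

variable {N m wt}

theorem index_lt {n r : ℕ} (hn : n ≤ N) (hr : r < m) : n * m + r < (N + 1) * m := by
  calc n * m + r < n * m + m := by omega
    _ = (n + 1) * m := by ring
    _ ≤ (N + 1) * m := Nat.mul_le_mul_right m (by omega)

theorem div_index {n r : ℕ} (hr : r < m) : (n * m + r) / m = n := by
  rw [Nat.add_comm, Nat.add_mul_div_right _ _ (by omega), Nat.div_eq_of_lt hr, zero_add]

theorem mod_index {n r : ℕ} (hr : r < m) : (n * m + r) % m = r := by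
  rw [Nat.add_comm, Nat.add_mul_mod_self_right, Nat.mod_eq_of_lt hr]

theorem correct_base (hw : wt 0 = 0) (alph : ι → Finset ℤ) :
    Correct N m wt alph ∅ (base N m) := by
  intro n hn r hr
  have hbox : box alph (∅ : Finset ι) = {0} := by
    ext f
    simp [box, funext_iff]
  have hkey : key m wt (0 : ι → ℤ) = (0, 0) := by simp [key, hw]
  rw [cnt, hbox, Finset.filter_singleton, hkey]
  simp only [base, List.getD_eq_getElem?_getD, List.getElem?_map,
    List.getElem?_range (index_lt hn hr), Option.map_some, Option.getD_some]
  by_cases h : n = 0 ∧ r = 0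
  · simp [h.1, h.2]
  · have h1 : ¬ (n * m + r = 0) := by
      intro e
      have : m ≠ 0 := by omega
      simp only [Nat.add_eq_zero_iff, mul_eq_zero, this, or_false] at e
      exact h e
    have h2 : ¬ ((0, 0) = ((n, (r : ℤ)) : ℕ × ℤ)) := by
      intro e
      simp only [Prod.mk.injEq] at e
      exact h ⟨e.1.symm, by omega⟩
    rw [if_neg h1, if_neg h2, Finset.card_empty]

theorem box_insert (alph : ι → Finset ℤ) {s : Finset ι} {i : ι} (hi : i ∉ s) :
    box alph (insert i s) =
      (alph i).biUnion fun v => (box alph s).image fun f => Function.update f i v := by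
  ext g
  simp only [box, Fintype.mem_piFinset, Finset.mem_biUnion, Finset.mem_image]
  constructor
  · intro h
    refine ⟨g i, by simpa using h i, Function.update g i 0, fun j => ?_, ?_⟩
    · by_cases hj : j = i
      · subst hj; simp [hi]
      · simpa [hj] using h j
    · simp
  · rintro ⟨v, hv, f, hf, rfl⟩ j
    by_cases hj : j = i
    · subst hj; simpa using hv
    · simpa [hj] using hf j

theorem key_update (hw : wt 0 = 0) {f : ι → ℤ} {i : ι} (hfi : f i = 0) (v : ℤ) :
    key m wt (Function.update f i v) =
      (wt v + (key m wt f).1, (v + (key m wt f).2) % (m : ℤ)) := by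
  have h1 : ∀ (g : ℤ → ℤ), g 0 = 0 →
      ∑ j, g (Function.update f i v j) = g v + ∑ j, g (f j) := by
    intro g hg
    rw [← Finset.add_sum_erase Finset.univ (fun j => g (f j)) (Finset.mem_univ i), hfi, hg,
      zero_add, ← Finset.add_sum_erase Finset.univ _ (Finset.mem_univ i), Function.update_self]
    congr 1
    exact Finset.sum_congr rfl fun j hj => by
      rw [Function.update_of_ne (Finset.ne_of_mem_erase hj)]
  have h2 : ∑ j, wt (Function.update f i v j) = wt v + ∑ j, wt (f j) := by
    have := h1 (fun z => (wt z : ℤ)) (by simp [hw])
    exact_mod_cast this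
  have h3 := h1 id rfl
  simp only [id] at h3
  simp only [key, h2, h3, Prod.mk.injEq, true_and]
  exact (Int.add_emod_emod _ _ _).symm

theorem correct_step (hw : wt 0 = 0) (alph : ι → Finset ℤ) {s : Finset ι} {i : ι} (hi : i ∉ s)
    {T : List ℕ} (hT : Correct N m wt alph s T) :
    Correct N m wt alph (insert i s) (step N m wt (alph i) T) := by
  intro n hn r hr
  have hzero : ∀ f ∈ box alph s, f i = 0 := fun f hf => by
    simpa [hi] using (Fintype.mem_piFinset.mp hf) i
  rw [cnt, box_insert alph hi, Finset.filter_biUnion, Finset.card_biUnion]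
  · simp only [step, List.getD_eq_getElem?_getD, List.getElem?_map,
      List.getElem?_range (index_lt hn hr), Option.map_some, Option.getD_some, div_index hr,
      mod_index hr]
    refine Finset.sum_congr rfl fun v _ => ?_
    rw [Finset.filter_image, Finset.card_image_of_injOn]
    swap
    · intro f hf g hg h
      simp only [Finset.coe_filter, Set.mem_ofPred_eq] at hf hg
      funext j
      by_cases hj : j = i
      · subst hj; rw [hzero f hf.1, hzero g hg.1]
      · simpa [hj] using congrFun h j
    split
    · rename_i hle
      set r' := (((r : ℕ) : ℤ) - v) % (m : ℤ) with hr'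
      have hm : (m : ℤ) ≠ 0 := by omega
      have h0 : 0 ≤ r' := Int.emod_nonneg _ hm
      have hlt : r' < m := Int.emod_lt_of_pos _ (by omega)
      rw [← List.getD_eq_getElem?_getD, hT (n - wt v) (by omega) r'.toNat (by omega), cnt]
      refine congrArg Finset.card (Finset.filter_congr fun f hf => ?_)
      rw [key_update hw (hzero f hf)]
      simp only [key, Prod.mk.injEq, Int.toNat_of_nonneg h0]
      constructor
      · rintro ⟨e1, e2⟩
        refine ⟨by omega, ?_⟩
        rw [e2, hr']
        show (v + ((r : ℤ) - v) % m) % m = r
        rw [Int.add_emod_emod, add_sub_cancel, Int.emod_eq_of_lt (by omega) (by omega)]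
      · rintro ⟨e1, e2⟩
        refine ⟨by omega, ?_⟩
        rw [hr']
        show (∑ j, f j) % (m : ℤ) = ((r : ℤ) - v) % m
        have e3 : (v + (∑ j, f j) % (m : ℤ)) % m = r := e2
        rw [Int.add_emod_emod] at e3
        rw [← e3, Int.emod_sub_emod, add_sub_cancel_left]
    · rename_i hle
      rw [eq_comm, Finset.card_eq_zero, Finset.filter_eq_empty_iff]
      intro f hf e
      rw [key_update hw (hzero f hf)] at e
      simp only [Prod.mk.injEq] at e
      omega
  · intro a _ b _ hab
    rw [Function.onFun, Finset.disjoint_left]
    intro g hga hgb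
    simp only [Finset.mem_filter, Finset.mem_image] at hga hgb
    obtain ⟨⟨f, -, hf⟩, -⟩ := hga
    obtain ⟨⟨f', -, hf'⟩, -⟩ := hgb
    have := congrFun (hf.trans hf'.symm) i
    simp at this
    exact hab this

/-- With two alphabets the table depends only on the sizes of the two parts. -/
theorem correct_two (hw : wt 0 = 0) (s : Finset ι) (A B : Finset ℤ) :
    Correct N m wt (fun i => if i ∈ s then A else B) Finset.univ
      ((step N m wt A)^[s.card] ((step N m wt B)^[sᶜ.card] (base N m))) := by
  set alph : ι → Finset ℤ := fun i => if i ∈ s then A else B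
  have h1 : ∀ u : Finset ι, u ⊆ sᶜ →
      Correct N m wt alph u ((step N m wt B)^[u.card] (base N m)) := by
    intro u
    induction u using Finset.induction_on with
    | empty => intro _; exact correct_base hw alph
    | insert i u hi ih =>
      intro hu
      rw [Finset.card_insert_of_notMem hi, Function.iterate_succ_apply']
      have : alph i = B := if_neg (Finset.mem_compl.mp (hu (Finset.mem_insert_self i u)))
      conv => arg 6; rw [← this]
      exact correct_step hw alph hi (this ▸ ih ((Finset.subset_insert i u).trans hu))
  have h2 : ∀ u : Finset ι, u ⊆ s → Correct N m wt alph (sᶜ ∪ u)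
      ((step N m wt A)^[u.card] ((step N m wt B)^[sᶜ.card] (base N m))) := by
    intro u
    induction u using Finset.induction_on with
    | empty => intro _; rw [Finset.union_empty]; exact h1 _ subset_rfl
    | insert i u hi ih =>
      intro hu
      have his : i ∈ s := hu (Finset.mem_insert_self i u)
      rw [Finset.card_insert_of_notMem hi, Function.iterate_succ_apply', Finset.union_insert]
      have : alph i = A := if_pos his
      have hni : i ∉ sᶜ ∪ u := by simp [his, hi]
      have h := correct_step hw alph hni (ih ((Finset.subset_insert i u).trans hu))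
      rw [this] at h
      exact h
  have := h2 s subset_rfl
  rwa [Finset.union_comm, Finset.union_compl] at this

end CfsgLib.Leech.BoxCount
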