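/-
The numbers of lattice vectors of squared length 32, 48 and 64.
-/
import Cfsg.Agent.Leech.Monomial
import Cfsg.Agent.Leech.BoxCount

set_option autoImplicit false
set_option linter.constructorNameAsVariable false

namespace CfsgLib.Leech

open Cfsg CfsgLib.Golay

/-- Squares as natural numbers. -/
def sqWt (v : ℤ) : ℕ := (v * v).natAbs

/-- An eighth of the excess of `(1 + 4t)²` over one. -/
def oddWt (t : ℤ) : ℕ := (t * (2 * t + 1)).natAbs

theorem sqWt_cast (v : ℤ) : (sqWt v : ℤ) = v ^ 2 := by
  rw [sqWt, Int.natCast_natAbs, abs_of_nonneg (mul_self_nonneg v), sq]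

theorem oddWt_cast (t : ℤ) : 8 * (oddWt t : ℤ) = (1 + 4 * t) ^ 2 - 1 := by
  have h : 0 ≤ t * (2 * t + 1) := by
    rcases le_or_gt 0 t with h | h
    · positivity
    · exact mul_nonneg_of_nonpos_of_nonpos h.le (by omega)
  rw [oddWt, Int.natCast_natAbs, abs_of_nonneg h]
  ring

/-- Odd half coordinates. -/
def oddHalf : Finset ℤ := {-3, -1, 1, 3}

/-- Even half coordinates. -/
def evenHalf : Finset ℤ := {0, -2, 2, -4, 4}

/-- Quarter offsets of odd coordinates. -/
def quarters : Finset ℤ := {0, -1, 1, -2}

/-- Halves of even vectors with given word and squared length `4 * k`. -/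
def halfBox (c : GolayPt → ZMod 2) (k : ℕ) : Finset (GolayPt → ℤ) :=
  (BoxCount.box (fun i => if i ∈ support₂ c then oddHalf else evenHalf) Finset.univ).filter
    fun y => BoxCount.key 4 sqWt y = (k, ((0 : ℕ) : ℤ))

/-- Quarters of normalised odd vectors of squared length `24 + 8 * k`. -/
def quarterBox (k : ℕ) : Finset (GolayPt → ℤ) :=
  (BoxCount.box (fun i => if i ∈ (∅ : Finset GolayPt) then quarters else quarters)
    Finset.univ).filter fun t => BoxCount.key 2 oddWt t = (k, ((1 : ℕ) : ℤ))

/-- The table for a word of the given weight. -/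
def halfTable (w : ℕ) : List ℕ :=
  (BoxCount.step 16 4 sqWt oddHalf)^[w]
    ((BoxCount.step 16 4 sqWt evenHalf)^[24 - w] (BoxCount.base 16 4))

/-- The table for odd vectors. -/
def quarterTable : List ℕ :=
  (BoxCount.step 5 2 oddWt quarters)^[24] (BoxCount.base 5 2)

theorem card_halfBox (c : GolayPt → ZMod 2) {k : ℕ} (hk : k ≤ 16) :
    (halfBox c k).card = (halfTable (support₂ c).card).getD (k * 4) 0 := by
  have h := BoxCount.correct_two (N := 16) (m := 4) (wt := sqWt) rfl (support₂ c) oddHalf evenHalf
    k hk 0 (by norm_num)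
  rw [Finset.card_compl, card_golayPt] at h
  exact h.symm

theorem card_quarterBox {k : ℕ} (hk : k ≤ 5) :
    (quarterBox k).card = quarterTable.getD (k * 2 + 1) 0 := by
  have h := BoxCount.correct_two (N := 5) (m := 2) (wt := oddWt) rfl (∅ : Finset GolayPt)
    quarters quarters k hk 1 (by norm_num)
  rw [Finset.card_compl, card_golayPt, Finset.card_empty] at h
  exact h.symm

/-- The code as a finite set. -/
def codeFinset : Finset (GolayPt → ZMod 2) :=
  (Finset.range 4096).image fun c => vec (word c)

theorem card_codeFinset : codeFinset.card = 4096 := by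
  refine (Finset.card_image_of_injOn ?_).trans (Finset.card_range _)
  intro a ha b hb h
  have := congrArg support₂ h
  rw [support_vec, support_vec] at this
  exact word_inj (Finset.mem_range.mp ha) (Finset.mem_range.mp hb) this

theorem mem_codeFinset {w : GolayPt → ZMod 2} : w ∈ codeFinset ↔ w ∈ golayCode := by
  rw [mem_code_iff, codeFinset, Finset.mem_image]
  simp only [Finset.mem_range]
  exact ⟨fun ⟨c, h1, h2⟩ => ⟨c, h1, h2.symm⟩, fun ⟨c, h1, h2⟩ => ⟨c, h1, h2.symm⟩⟩

theorem sum_codeFinset (F : ℕ → ℕ) :
    ∑ w ∈ codeFinset, F (support₂ w).card =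
      F 0 + 759 * F 8 + 2576 * F 12 + 759 * F 16 + F 24 := by
  rw [codeFinset, Finset.sum_image fun a ha b hb h => by
    have := congrArg support₂ h
    rw [support_vec, support_vec] at this
    exact word_inj (Finset.mem_range.mp ha) (Finset.mem_range.mp hb) this]
  simp only [support_vec, card_pts]
  rw [← Finset.sum_fiberwise_of_maps_to (t := ({0, 8, 12, 16, 24} : Finset ℕ))
    (g := fun c => wt 24 (word c)) (fun c hc => by
      rcases weights c (Finset.mem_range.mp hc) with h | h | h | h | h <;> simp [h])]
  have hf : ∀ n, ∑ c ∈ (Finset.range 4096).filter (fun c => wt 24 (word c) = n),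
      F (wt 24 (word c)) = ((Finset.range 4096).filter fun c => wt 24 (word c) = n).card * F n :=
    fun n => by
      rw [Finset.sum_congr rfl (g := fun _ => F n) fun c hc => by rw [(Finset.mem_filter.mp hc).2],
        Finset.sum_const, smul_eq_mul]
  have hc : ∀ n : ℕ, ((Finset.range 4096).filter fun c => wt 24 (word c) = n).card =
      ∑ a ∈ Finset.range 64, ((Finset.range 64).filter fun b => wt 24 (word (64 * a + b)) = n).card :=
    fun n => card_filter_range_mul (fun c => wt 24 (word c) = n) 64 64
  rw [Finset.sum_insert (by decide), Finset.sum_insert (by decide), Finset.sum_insert (by decide),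
    Finset.sum_insert (by decide), Finset.sum_singleton]
  simp only [hf, hc]
  rw [show (∑ a ∈ Finset.range 64, ((Finset.range 64).filter
        fun b => wt 24 (word (64 * a + b)) = 0).card) = 1 by decide +kernel,
    show (∑ a ∈ Finset.range 64, ((Finset.range 64).filter
        fun b => wt 24 (word (64 * a + b)) = 8).card) = 759 by decide +kernel,
    show (∑ a ∈ Finset.range 64, ((Finset.range 64).filter
        fun b => wt 24 (word (64 * a + b)) = 12).card) = 2576 by decide +kernel,
    show (∑ a ∈ Finset.range 64, ((Finset.range 64).filter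
        fun b => wt 24 (word (64 * a + b)) = 16).card) = 759 by decide +kernel,
    show (∑ a ∈ Finset.range 64, ((Finset.range 64).filter
        fun b => wt 24 (word (64 * a + b)) = 24).card) = 1 by decide +kernel]
  ring

/-- The even lattice vectors of squared length `4 * k` with a given word. -/
def evenFib (k : ℕ) (c : GolayPt → ZMod 2) : Finset (GolayPt → ℤ) :=
  (halfBox c k).image fun y i => 2 * y i

/-- The odd lattice vectors of squared length `24 + 8 * k` with a given word. -/
def oddFib (k : ℕ) (c : GolayPt → ZMod 2) : Finset (GolayPt → ℤ) :=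
  (quarterBox k).image fun t => flipSign c fun i => 1 + 4 * t i

theorem two_mul_injective : Function.Injective fun (y : GolayPt → ℤ) i => 2 * y i :=
  fun y z h => funext fun i => mul_left_cancel₀ two_ne_zero (congrFun h i)

theorem quarter_injective (c : GolayPt → ZMod 2) :
    Function.Injective fun t : GolayPt → ℤ => flipSign c fun i => 1 + 4 * t i := fun s t h => by
  have h' := congrArg (flipSign c) h
  simp only [flipSign_flipSign] at h'
  funext i
  have := congrFun h' i
  omega

theorem mem_evenFib {k : ℕ} (hk : k ≤ 16) {c : GolayPt → ZMod 2} (hc : c ∈ golayCode)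
    (x : GolayPt → ℤ) : x ∈ evenFib k c ↔
      x ∈ leechLattice ∧ sqNorm x = 4 * k ∧ (2 : ℤ) ∣ x none ∧ hi x = c := by
  simp only [evenFib, halfBox, Finset.mem_image, Finset.mem_filter, BoxCount.box,
    Fintype.mem_piFinset, Finset.mem_univ, if_true, BoxCount.key, Prod.mk.injEq]
  constructor
  · rintro ⟨y, ⟨hy, hn, hs⟩, rfl⟩
    have hpar : (fun i => ((y i : ℤ) : ZMod 2)) = c := by
      funext i
      have := hy i
      split_ifs at this with h
      · simp only [support₂, Finset.mem_filter, Finset.mem_univ, true_and,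
          zmod2_ne_zero_iff] at h
        simp only [oddHalf, Finset.mem_insert, Finset.mem_singleton] at this
        rw [h]
        rcases this with e | e | e | e <;> rw [e] <;> rfl
      · simp only [support₂, Finset.mem_filter, Finset.mem_univ, true_and, ne_eq, not_not] at h
        simp only [evenHalf, Finset.mem_insert, Finset.mem_singleton] at this
        rw [h]
        rcases this with e | e | e | e | e <;> rw [e] <;> rfl
    refine ⟨(two_mul_mem_iff y).mpr ⟨hpar ▸ hc, ?_⟩, ?_, dvd_mul_right _ _, ?_⟩
    · simp only [Nat.cast_ofNat, Nat.cast_zero] at hs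
      exact Int.dvd_of_emod_eq_zero hs
    · have h4 : ∑ i, y i ^ 2 = k := by
        have := congrArg (Nat.cast (R := ℤ)) hn
        simp only [Nat.cast_sum, sqWt_cast] at this
        exact this
      simp only [sqNorm, mul_pow, ← Finset.mul_sum, h4]
      norm_num
    · rw [← hpar]; funext i; simp [hi]
  · rintro ⟨hx, hn, h2, rfl⟩
    have hev : ∀ i, x i = 2 * (x i / 2) := fun i => by
      have := (mem_leech hx).par i
      omega
    have hx' : (fun i => 2 * (x i / 2)) ∈ leechLattice := by
      rwa [show (fun i => 2 * (x i / 2)) = x from funext fun i => (hev i).symm]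
    refine ⟨fun i => x i / 2, ⟨fun i => ?_, ?_, ?_⟩, funext fun i => (hev i).symm⟩
    · have hle : x i ^ 2 ≤ 64 := by
        have := Finset.single_le_sum (fun j _ => sq_nonneg (x j)) (Finset.mem_univ i)
        simp only [sqNorm] at hn
        omega
      have h1 : x i / 2 ≤ 4 := by nlinarith [hev i]
      have h2 : -4 ≤ x i / 2 := by nlinarith [hev i]
      have hv : ((x i / 2 : ℤ) : ZMod 2) = hi x i := rfl
      split_ifs with h
      · simp only [support₂, Finset.mem_filter, Finset.mem_univ, true_and, zmod2_ne_zero_iff,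
          hi_apply_eq_one] at h
        simp only [oddHalf, Finset.mem_insert, Finset.mem_singleton]
        omega
      · simp only [support₂, Finset.mem_filter, Finset.mem_univ, true_and, zmod2_ne_zero_iff,
          hi_apply_eq_one] at h
        have := hev i
        simp only [evenHalf, Finset.mem_insert, Finset.mem_singleton]
        omega
    · have h4 : ∑ i, (sqWt (x i / 2) : ℤ) = k := by
        have : sqNorm x = 4 * ∑ i, (sqWt (x i / 2) : ℤ) := by
          rw [sqNorm, Finset.mul_sum]
          refine Finset.sum_congr rfl fun i _ => ?_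
          rw [sqWt_cast]
          conv_lhs => rw [hev i]
          ring
        omega
      rw [← Nat.cast_sum] at h4
      exact Int.ofNat.inj h4
    · simp only [Nat.cast_ofNat, Nat.cast_zero]
      exact Int.emod_eq_zero_of_dvd ((two_mul_mem_iff _).mp hx').2

theorem mem_oddFib {k : ℕ} (hk : k ≤ 5) {c : GolayPt → ZMod 2} (hc : c ∈ golayCode)
    (x : GolayPt → ℤ) : x ∈ oddFib k c ↔
      x ∈ leechLattice ∧ sqNorm x = 24 + 8 * k ∧ ¬ (2 : ℤ) ∣ x none ∧ hi x = c := by
  simp only [oddFib, quarterBox, Finset.mem_image, Finset.mem_filter, BoxCount.box,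
    Fintype.mem_piFinset, Finset.mem_univ, if_true, ite_self, BoxCount.key, Prod.mk.injEq,
    Nat.cast_ofNat, Nat.cast_one]
  have hsq : ∀ (t : GolayPt → ℤ), sqNorm (flipSign c fun i => 1 + 4 * t i) =
      24 + 8 * ∑ i, (oddWt (t i) : ℤ) := by
    intro t
    rw [Finset.mul_sum]
    simp only [oddWt_cast, Finset.sum_sub_distrib]
    simp only [sqNorm, Finset.sum_const, Finset.card_univ, card_golayPt, nsmul_eq_mul, mul_one,
      Nat.cast_ofNat, add_sub_cancel]
    refine Finset.sum_congr rfl fun i _ => ?_
    simp only [flipSign]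
    split <;> ring
  have hsum : ∀ (t : GolayPt → ℤ), ∑ i, (1 + 4 * t i) = 24 + 4 * ∑ i, t i := by
    intro t
    rw [Finset.sum_add_distrib, ← Finset.mul_sum, Finset.sum_const, Finset.card_univ, card_golayPt]
    norm_num
  constructor
  · rintro ⟨t, ⟨-, hn, hs⟩, rfl⟩
    have hy : (fun i => 1 + 4 * t i) ∈ leechLattice := by
      refine AddSubgroup.subset_closure (Spor.mem_leechSet_of_const_mod_four _ 1 1 rfl
        (fun i => ?_) ?_)
      · simp only [Int.ModEq]; omega
      · rw [hsum]; simp only [Int.ModEq]; omega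
    refine ⟨flipSign_mem hc hy, ?_, ?_, ?_⟩
    · rw [hsq, show (∑ i, (oddWt (t i) : ℤ)) = k by rw [← hn, Nat.cast_sum]]
    · simp only [flipSign]; split <;> omega
    · funext i
      have hv : hi (flipSign c fun j => 1 + 4 * t j) i = 1 ↔ c i = 1 := by
        rw [hi_apply_eq_one]
        simp only [flipSign]
        split_ifs with h <;> simp only [h, iff_true, iff_false] <;> omega
      revert hv
      generalize hi (flipSign c fun j => 1 + 4 * t j) i = a
      generalize c i = b
      revert a b; decide
  · rintro ⟨hx, hn, h2, rfl⟩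
    have hfl : ∀ i, flipSign (hi x) x i % 4 = 1 := fun i => by
      have := (mem_leech hx).par i
      simp only [flipSign, hi_apply_eq_one]
      split <;> omega
    have hx' : (fun i => 1 + 4 * ((flipSign (hi x) x i - 1) / 4)) = flipSign (hi x) x :=
      funext fun i => by have := hfl i; omega
    have heq : flipSign (hi x) (fun i => 1 + 4 * ((flipSign (hi x) x i - 1) / 4)) = x := by
      rw [hx', flipSign_flipSign]
    have hn' := hsq fun i => (flipSign (hi x) x i - 1) / 4
    rw [heq, hn] at hn'
    refine ⟨fun i => (flipSign (hi x) x i - 1) / 4, ⟨fun i => ?_, ?_, ?_⟩, heq⟩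
    · have hle : x i ^ 2 ≤ 64 := by
        have := Finset.single_le_sum (fun j _ => sq_nonneg (x j)) (Finset.mem_univ i)
        simp only [sqNorm] at hn
        omega
      have hab : flipSign (hi x) x i = x i ∨ flipSign (hi x) x i = -x i := by
        simp only [flipSign]; split <;> simp
      have h1 : x i ≤ 8 := by nlinarith
      have h2 : -8 ≤ x i := by nlinarith
      have := hfl i
      simp only [quarters, Finset.mem_insert, Finset.mem_singleton]
      omega
    · have e : (∑ i, (oddWt ((flipSign (hi x) x i - 1) / 4) : ℤ)) = k := by omega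
      rw [← Nat.cast_sum] at e
      exact Int.ofNat.inj e
    · have hL := flipSign_mem (mem_leech hx).code hx
      have hs := (mem_leech hL).sum
      have hsum' := hsum fun i => (flipSign (hi x) x i - 1) / 4
      rw [hx'] at hsum'
      have := hfl none
      rw [hsum'] at hs
      show (∑ i, (flipSign (hi x) x i - 1) / 4) % 2 = 1
      omega

/-- The finite set of lattice vectors of squared length `4 * k`. -/
def shortVecs (k : ℕ) : Finset (GolayPt → ℤ) :=
  (codeFinset.biUnion (evenFib k)) ∪ (codeFinset.biUnion (oddFib ((k - 6) / 2)))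

theorem mem_shortVecs {k : ℕ} (hk : k = 8 ∨ k = 12 ∨ k = 16) (x : GolayPt → ℤ) :
    x ∈ shortVecs k ↔ x ∈ leechLattice ∧ sqNorm x = 4 * k := by
  simp only [shortVecs, Finset.mem_union, Finset.mem_biUnion, mem_codeFinset]
  have h1 : k ≤ 16 := by omega
  have h2 : (k - 6) / 2 ≤ 5 := by omega
  have h3 : (24 + 8 * (((k - 6) / 2 : ℕ) : ℤ)) = 4 * (k : ℤ) := by omega
  constructor
  · rintro (⟨c, hc, hx⟩ | ⟨c, hc, hx⟩)
    · obtain ⟨a, b, -, -⟩ := (mem_evenFib h1 hc x).mp hx
      exact ⟨a, b⟩
    · obtain ⟨a, b, -, -⟩ := (mem_oddFib h2 hc x).mp hx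
      exact ⟨a, b.trans h3⟩
  · rintro ⟨hx, hn⟩
    by_cases hp : (2 : ℤ) ∣ x none
    · exact Or.inl ⟨hi x, (mem_leech hx).code,
        (mem_evenFib h1 (mem_leech hx).code x).mpr ⟨hx, hn, hp, rfl⟩⟩
    · exact Or.inr ⟨hi x, (mem_leech hx).code,
        (mem_oddFib h2 (mem_leech hx).code x).mpr ⟨hx, hn.trans h3.symm, hp, rfl⟩⟩

theorem card_shortVecs {k : ℕ} (hk : k = 8 ∨ k = 12 ∨ k = 16) :
    (shortVecs k).card = (halfTable 0).getD (k * 4) 0 + 759 * (halfTable 8).getD (k * 4) 0 +
      2576 * (halfTable 12).getD (k * 4) 0 + 759 * (halfTable 16).getD (k * 4) 0 +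
      (halfTable 24).getD (k * 4) 0 + 4096 * quarterTable.getD ((k - 6) / 2 * 2 + 1) 0 := by
  have h1 : k ≤ 16 := by omega
  have h2 : (k - 6) / 2 ≤ 5 := by omega
  rw [shortVecs, Finset.card_union_of_disjoint, Finset.card_biUnion, Finset.card_biUnion]
  · rw [Finset.sum_congr rfl (g := fun c => (halfTable (support₂ c).card).getD (k * 4) 0)
        fun c _ => by rw [evenFib, Finset.card_image_of_injective _ two_mul_injective,
          card_halfBox c h1],
      sum_codeFinset fun w => (halfTable w).getD (k * 4) 0,
      Finset.sum_congr rfl (g := fun _ => quarterTable.getD ((k - 6) / 2 * 2 + 1) 0)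
        fun c _ => by rw [oddFib, Finset.card_image_of_injective _ (quarter_injective c),
          card_quarterBox h2],
      Finset.sum_const, smul_eq_mul, card_codeFinset]
  · intro a ha b hb hab
    rw [Function.onFun, Finset.disjoint_left]
    intro x hxa hxb
    rw [Finset.mem_coe, mem_codeFinset] at ha hb
    exact hab (((mem_oddFib h2 ha x).mp hxa).2.2.2.symm.trans ((mem_oddFib h2 hb x).mp hxb).2.2.2)
  · intro a ha b hb hab
    rw [Function.onFun, Finset.disjoint_left]
    intro x hxa hxb
    rw [Finset.mem_coe, mem_codeFinset] at ha hb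
    exact hab (((mem_evenFib h1 ha x).mp hxa).2.2.2.symm.trans ((mem_evenFib h1 hb x).mp hxb).2.2.2)
  · rw [Finset.disjoint_left]
    intro x hxa hxb
    simp only [Finset.mem_biUnion, mem_codeFinset] at hxa hxb
    obtain ⟨a, ha, hxa⟩ := hxa
    obtain ⟨b, hb, hxb⟩ := hxb
    exact ((mem_oddFib h2 hb x).mp hxb).2.2.1 ((mem_evenFib h1 ha x).mp hxa).2.2.1

theorem shortVecs_coe {k : ℕ} (hk : k = 8 ∨ k = 12 ∨ k = 16) :
    {x : GolayPt → ℤ | x ∈ leechLattice ∧ sqNorm x = 4 * k} = (shortVecs k : Set (GolayPt → ℤ)) :=
  Set.ext fun x => (mem_shortVecs hk x).symm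

theorem tables_even : (halfTable 0).getD 32 0 + 759 * (halfTable 8).getD 32 0 +
      2576 * (halfTable 12).getD 32 0 + 759 * (halfTable 16).getD 32 0 +
      (halfTable 24).getD 32 0 + 4096 * quarterTable.getD 3 0 = 196560 ∧
    (halfTable 0).getD 48 0 + 759 * (halfTable 8).getD 48 0 +
      2576 * (halfTable 12).getD 48 0 + 759 * (halfTable 16).getD 48 0 +
      (halfTable 24).getD 48 0 + 4096 * quarterTable.getD 7 0 = 16773120 ∧
    (halfTable 0).getD 64 0 + 759 * (halfTable 8).getD 64 0 +
      2576 * (halfTable 12).getD 64 0 + 759 * (halfTable 16).getD 64 0 +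
      (halfTable 24).getD 64 0 + 4096 * quarterTable.getD 11 0 = 398034000 := by decide +kernel

theorem card_min : (shortVecs 8).card = 196560 := by
  rw [card_shortVecs (Or.inl rfl)]; exact tables_even.1

theorem card_mid : (shortVecs 12).card = 16773120 := by
  rw [card_shortVecs (Or.inr (Or.inl rfl))]; exact tables_even.2.1

theorem card_frame : (shortVecs 16).card = 398034000 := by
  rw [card_shortVecs (Or.inr (Or.inr rfl))]; exact tables_even.2.2

theorem ncard_norm_32 :
    {x : GolayPt → ℤ | x ∈ leechLattice ∧ sqNorm x = 32}.ncard = 196560 := by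
  have h := shortVecs_coe (k := 8) (Or.inl rfl)
  norm_num at h
  rw [h, Set.ncard_coe_finset, card_min]

theorem ncard_norm_48 :
    {x : GolayPt → ℤ | x ∈ leechLattice ∧ sqNorm x = 48}.ncard = 16773120 := by
  have h := shortVecs_coe (k := 12) (Or.inr (Or.inl rfl))
  norm_num at h
  rw [h, Set.ncard_coe_finset, card_mid]

theorem ncard_norm_64 :
    {x : GolayPt → ℤ | x ∈ leechLattice ∧ sqNorm x = 64}.ncard = 398034000 := by
  have h := shortVecs_coe (k := 16) (Or.inr (Or.inr rfl))
  norm_num at h
  rw [h, Set.ncard_coe_finset, card_frame]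

end CfsgLib.Leech
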