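/-
The classes of the lattice modulo twice itself: each contains a vector of squared length at most
64, and a class of squared length 64 contains exactly 48 of them.
-/
import Cfsg.Agent.Leech.Linear
import Cfsg.Agent.Leech.Index
import Cfsg.Agent.Leech.ShortCount

set_option autoImplicit false
set_option linter.constructorNameAsVariable false

namespace CfsgLib.Leech

open Cfsg CfsgLib.Golay

attribute [local irreducible] shortVecs halfTable quarterTable codeFinset

/-- Twice the lattice. -/
def twoLeech : AddSubgroup (GolayPt → ℤ) := leechLattice.map dbl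

theorem mem_twoLeech_iff (x : GolayPt → ℤ) :
    x ∈ twoLeech ↔ ∃ z ∈ leechLattice, x = 2 • z := by
  constructor
  · rintro ⟨z, hz, rfl⟩
    exact ⟨z, hz, funext fun i => by simp [dbl_apply]⟩
  · rintro ⟨z, hz, rfl⟩
    exact ⟨z, hz, funext fun i => by simp [dbl_apply]⟩

theorem twoLeech_le : twoLeech ≤ leechLattice := fun x hx => by
  obtain ⟨z, hz, rfl⟩ := (mem_twoLeech_iff x).mp hx
  exact leechLattice.nsmul_mem hz 2

theorem relIndex_twoLeech : twoLeech.relIndex leechLattice = 2 ^ 24 := by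
  have h := AddSubgroup.relIndex_mul_index twoLeech_le
  rw [twoLeech, index_dbl_map, index_leech] at h
  exact Nat.eq_of_mul_eq_mul_right (Nat.two_pow_pos 36) (h.trans (mul_comm _ _))

theorem index_twoLeech : twoLeech.index = 2 ^ 60 := by
  rw [twoLeech, index_dbl_map, index_leech, ← pow_add]

/-- The class of a vector modulo twice the lattice. -/
def cls (x : GolayPt → ℤ) : (GolayPt → ℤ) ⧸ twoLeech := QuotientAddGroup.mk x

noncomputable instance decEqClass : DecidableEq ((GolayPt → ℤ) ⧸ twoLeech) := Classical.decEq _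

theorem cls_eq_iff (x y : GolayPt → ℤ) :
    cls x = cls y ↔ ∃ z ∈ leechLattice, x - y = 2 • z := by
  rw [cls, cls, QuotientAddGroup.eq_iff_sub_mem, mem_twoLeech_iff]

/-- The classes of lattice vectors. -/
def classSet : AddSubgroup ((GolayPt → ℤ) ⧸ twoLeech) :=
  leechLattice.map (QuotientAddGroup.mk' twoLeech)

theorem card_classSet : Nat.card classSet = 2 ^ 24 := by
  rw [classSet, ← AddSubgroup.relIndex_ker, QuotientAddGroup.ker_mk', relIndex_twoLeech]

/-- Pairwise opposite or orthogonal vectors of squared length 64 number at most 48. -/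
theorem card_frame_le {F : Finset (GolayPt → ℤ)} (h64 : ∀ x ∈ F, sqNorm x = 64)
    (hpair : ∀ x ∈ F, ∀ y ∈ F, x = y ∨ x = -y ∨ dotInt x y = 0) : F.card ≤ 48 := by
  have hS : ∀ i, ∑ x ∈ F, x i ^ 2 ≤ 128 := by
    intro i
    set S := ∑ x ∈ F, x i ^ 2 with hSdef
    set w : GolayPt → ℤ := ∑ x ∈ F, x i • x with hw
    have hterm : ∀ x ∈ F, ∀ y ∈ F, x i * y i * dotInt x y ≤
        64 * x i ^ 2 * ((if y = x then 1 else 0) + (if y = -x then 1 else 0)) := by
      intro x hx y hy
      have hxx : dotInt x x = 64 := by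
        rw [← h64 x hx]
        exact Finset.sum_congr rfl fun j _ => (sq (x j)).symm
      have hne : x ≠ -x := by
        intro e
        have h0 : x = 0 := funext fun j => by
          have := congrFun e j
          simp only [Pi.neg_apply] at this
          show x j = 0
          omega
        have := h64 x hx
        rw [h0] at this
        simp [sqNorm] at this
      rcases hpair y hy x hx with rfl | rfl | h0
      · rw [if_pos rfl, if_neg hne, hxx]; nlinarith
      · rw [if_neg hne.symm, if_pos rfl]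
        have : dotInt x (-x) = -64 := by
          rw [← hxx]; simp [dotInt]
        rw [this, Pi.neg_apply]; nlinarith
      · have : dotInt x y = 0 := by
          rw [← h0]; exact Finset.sum_congr rfl fun j _ => mul_comm _ _
        rw [this, mul_zero]
        split_ifs <;> nlinarith [sq_nonneg (x i)]
    have hcnt : ∀ x : GolayPt → ℤ,
        ∑ y ∈ F, (((if y = x then 1 else 0) + (if y = -x then 1 else 0)) : ℤ) ≤ 2 := by
      intro x
      rw [Finset.sum_add_distrib, Finset.sum_ite_eq', Finset.sum_ite_eq']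
      split_ifs <;> norm_num
    have hww : sqNorm w ≤ 128 * S := by
      have : sqNorm w = ∑ x ∈ F, ∑ y ∈ F, x i * y i * dotInt x y := by
        simp only [sqNorm, hw, Finset.sum_apply, Pi.smul_apply, smul_eq_mul, sq,
          Finset.sum_mul, Finset.mul_sum, dotInt]
        rw [Finset.sum_comm]
        refine Finset.sum_congr rfl fun x _ => ?_
        rw [Finset.sum_comm]
        exact Finset.sum_congr rfl fun y _ => Finset.sum_congr rfl fun j _ => by ring
      rw [this, hSdef, Finset.mul_sum]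
      refine Finset.sum_le_sum fun x hx => (Finset.sum_le_sum (hterm x hx)).trans ?_
      rw [← Finset.mul_sum]
      nlinarith [hcnt x, sq_nonneg (x i)]
    have hwi : w i = S := by
      simp only [hw, hSdef, Finset.sum_apply, Pi.smul_apply, smul_eq_mul, sq]
    have hexp : sqNorm (Pi.single i 128 - w) = 128 ^ 2 - 256 * S + sqNorm w := by
      rw [sqNorm_sub]
      have h1 : sqNorm (Pi.single i 128 : GolayPt → ℤ) = 128 ^ 2 := by
        rw [sqNorm, Finset.sum_eq_single i (fun j _ hj => by simp [hj]) (by simp)]; simp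
      have h2 : dotInt (Pi.single i 128) w = 128 * S := by
        rw [dotInt, Finset.sum_eq_single i (fun j _ hj => by simp [hj]) (by simp)]; simp [hwi]
      rw [h1, h2]; ring
    have hnn : 0 ≤ sqNorm (Pi.single i 128 - w) := Finset.sum_nonneg fun j _ => sq_nonneg _
    linarith
  have h1 : ∑ i, ∑ x ∈ F, x i ^ 2 = 64 * F.card := by
    rw [Finset.sum_comm]
    exact (Finset.sum_congr rfl h64).trans (by rw [Finset.sum_const, nsmul_eq_mul, mul_comm])
  have h2 : ∑ i, ∑ x ∈ F, x i ^ 2 ≤ ∑ _i : GolayPt, (128 : ℤ) := Finset.sum_le_sum fun i _ => hS i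
  rw [Finset.sum_const, Finset.card_univ, card_golayPt, h1, nsmul_eq_mul] at h2
  norm_num at h2
  omega

theorem mem_classSet {x : GolayPt → ℤ} (hx : x ∈ leechLattice) : cls x ∈ classSet :=
  ⟨x, hx, rfl⟩

theorem norm_of_mem_shortVecs {k : ℕ} (hk : k = 8 ∨ k = 12 ∨ k = 16) {x : GolayPt → ℤ}
    (hx : x ∈ shortVecs k) : x ∈ leechLattice ∧ sqNorm x = 4 * k := (mem_shortVecs hk x).mp hx

theorem fiber_le_two {k : ℕ} (hk : k = 8 ∨ k = 12) (q : (GolayPt → ℤ) ⧸ twoLeech) :
    ((shortVecs k).filter fun x => cls x = q).card ≤ 2 := by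
  rcases ((shortVecs k).filter fun x => cls x = q).eq_empty_or_nonempty with h | ⟨a, ha⟩
  · simp [h]
  have hk' : k = 8 ∨ k = 12 ∨ k = 16 := by omega
  have ha' := Finset.mem_filter.mp ha
  obtain ⟨-, han⟩ := norm_of_mem_shortVecs hk' ha'.1
  refine le_trans (Finset.card_le_card (t := {a, -a}) fun y hy => ?_) (Finset.card_le_two)
  have hy' := Finset.mem_filter.mp hy
  obtain ⟨hyL, hyn⟩ := norm_of_mem_shortVecs hk' hy'.1
  simp only [Finset.mem_insert, Finset.mem_singleton]
  by_cases hay : a = y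
  · exact Or.inl hay.symm
  rcases short_congr hyL hay (by omega) (by omega)
      ((cls_eq_iff _ _).mp (ha'.2.trans hy'.2.symm)) with h | ⟨h, -, -⟩
  · exact Or.inr (by rw [h, neg_neg])
  · omega

theorem fiber_le_frame (q : (GolayPt → ℤ) ⧸ twoLeech) :
    ((shortVecs 16).filter fun x => cls x = q).card ≤ 48 := by
  refine card_frame_le (fun x hx => ?_) fun x hx y hy => ?_
  · have := (norm_of_mem_shortVecs (Or.inr (Or.inr rfl)) (Finset.mem_filter.mp hx).1).2
    norm_num at this
    exact this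
  · have hx' := Finset.mem_filter.mp hx
    have hy' := Finset.mem_filter.mp hy
    obtain ⟨-, hxn⟩ := norm_of_mem_shortVecs (Or.inr (Or.inr rfl)) hx'.1
    obtain ⟨hyL, hyn⟩ := norm_of_mem_shortVecs (Or.inr (Or.inr rfl)) hy'.1
    norm_num at hxn hyn
    by_cases hxy : x = y
    · exact Or.inl hxy
    rcases short_congr hyL hxy hxn.le hyn.le ((cls_eq_iff _ _).mp (hx'.2.trans hy'.2.symm))
      with h | ⟨-, -, h⟩
    exacts [Or.inr (Or.inl h), Or.inr (Or.inr h)]

theorem classes_count (S₂ S₃ S₄ : Finset (GolayPt → ℤ)) (hc₂ : S₂.card = 196560)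
    (hc₃ : S₃.card = 16773120) (hc₄ : S₄.card = 398034000)
    (hm₂ : ∀ x ∈ S₂, x ∈ leechLattice ∧ sqNorm x = 32)
    (hm₃ : ∀ x ∈ S₃, x ∈ leechLattice ∧ sqNorm x = 48)
    (hm₄ : ∀ x ∈ S₄, x ∈ leechLattice ∧ sqNorm x = 64)
    (hf₂ : ∀ q, (S₂.filter fun x => cls x = q).card ≤ 2)
    (hf₃ : ∀ q, (S₃.filter fun x => cls x = q).card ≤ 2)
    (hf₄ : ∀ q, (S₄.filter fun x => cls x = q).card ≤ 48) :
    (∀ q ∈ classSet, q = cls 0 ∨ q ∈ (S₂.image cls ∪ S₃.image cls) ∪ S₄.image cls) ∧
      (S₄.image cls).card = 8292375 ∧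
      ∀ v ∈ S₄, (S₄.filter fun x => cls x = cls v).card = 48 := by
  classical
  set A := S₂.image cls with hA
  set B := S₃.image cls with hB
  set C := S₄.image cls with hC
  have hA2 := Finset.card_le_mul_card_image (f := cls) S₂ 2 fun q _ => hf₂ q
  have hB2 := Finset.card_le_mul_card_image (f := cls) S₃ 2 fun q _ => hf₃ q
  have hC2 := Finset.card_le_mul_card_image (f := cls) S₄ 48 fun q _ => hf₄ q
  rw [hc₂, ← hA] at hA2
  rw [hc₃, ← hB] at hB2
  rw [hc₄, ← hC] at hC2
  have hdisj : ∀ (S T : Finset (GolayPt → ℤ)) (n m : ℤ),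
      (∀ x ∈ S, x ∈ leechLattice ∧ sqNorm x = n) → (∀ x ∈ T, x ∈ leechLattice ∧ sqNorm x = m) →
      n ≤ 64 → m ≤ 64 → n ≠ m → Disjoint (S.image cls) (T.image cls) := by
    intro S T n m hS hT hn hm hnm
    rw [Finset.disjoint_left]
    intro q hq1 hq2
    obtain ⟨x, hx, rfl⟩ := Finset.mem_image.mp hq1
    obtain ⟨y, hy, hyx⟩ := Finset.mem_image.mp hq2
    obtain ⟨hxL, hxn⟩ := hS x hx
    obtain ⟨-, hyn⟩ := hT y hy
    have hne : y ≠ x := by rintro rfl; omega
    rcases short_congr hxL hne (by omega) (by omega) ((cls_eq_iff _ _).mp hyx) with h | ⟨h1, h2, -⟩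
    · have : sqNorm y = sqNorm x := by
        rw [h]; exact Finset.sum_congr rfl fun j _ => by simp
      omega
    · omega
  have h0 : ∀ (S : Finset (GolayPt → ℤ)) (n : ℤ),
      (∀ x ∈ S, x ∈ leechLattice ∧ sqNorm x = n) → 0 < n → n ≤ 64 → cls 0 ∉ S.image cls := by
    intro S n hS hn hn' hq
    obtain ⟨x, hx, hx0⟩ := Finset.mem_image.mp hq
    obtain ⟨-, hxn⟩ := hS x hx
    have hne : x ≠ 0 := by rintro rfl; simp [sqNorm] at hxn; omega
    rcases short_congr leechLattice.zero_mem hne (by omega) (by simp [sqNorm])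
      ((cls_eq_iff _ _).mp hx0) with h | ⟨-, h, -⟩
    · exact hne (by rw [h, neg_zero])
    · simp [sqNorm] at h
  set T : Finset ((GolayPt → ℤ) ⧸ twoLeech) := insert (cls 0) ((A ∪ B) ∪ C) with hT
  have hTcard : T.card = 1 + A.card + B.card + C.card := by
    rw [hT, Finset.card_insert_of_notMem, Finset.card_union_of_disjoint,
      Finset.card_union_of_disjoint
        (hdisj _ _ 32 48 hm₂ hm₃ (by norm_num) (by norm_num) (by norm_num))]
    · ring
    · rw [Finset.disjoint_union_left]
      exact ⟨hdisj _ _ 32 64 hm₂ hm₄ (by norm_num) (by norm_num) (by norm_num),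
        hdisj _ _ 48 64 hm₃ hm₄ (by norm_num) (by norm_num) (by norm_num)⟩
    · rw [Finset.mem_union, Finset.mem_union]
      rintro ((h | h) | h)
      exacts [h0 _ 32 hm₂ (by norm_num) (by norm_num) h, h0 _ 48 hm₃ (by norm_num) (by norm_num) h,
        h0 _ 64 hm₄ (by norm_num) le_rfl h]
  have hTsub : (T : Set ((GolayPt → ℤ) ⧸ twoLeech)) ⊆ classSet := by
    intro q hq
    simp only [hT, hA, hB, hC, Finset.coe_insert, Finset.coe_union, Finset.coe_image,
      Set.mem_insert_iff, Set.mem_union, Set.mem_image, Finset.mem_coe] at hq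
    rcases hq with rfl | (⟨x, hx, rfl⟩ | ⟨x, hx, rfl⟩) | ⟨x, hx, rfl⟩
    exacts [mem_classSet leechLattice.zero_mem, mem_classSet (hm₂ x hx).1,
      mem_classSet (hm₃ x hx).1, mem_classSet (hm₄ x hx).1]
  have hn : (classSet : Set ((GolayPt → ℤ) ⧸ twoLeech)).ncard = 2 ^ 24 := by
    rw [← Nat.card_coe_set_eq]; exact card_classSet
  have hfin : (classSet : Set ((GolayPt → ℤ) ⧸ twoLeech)).Finite :=
    Set.finite_of_ncard_ne_zero (by rw [hn]; exact (Nat.two_pow_pos 24).ne')
  have hle := Set.ncard_le_ncard hTsub hfin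
  rw [Set.ncard_coe_finset, hTcard, hn] at hle
  norm_num at hle
  have hC3 : C.card = 8292375 := by omega
  refine ⟨fun q hq => ?_, hC3, fun v hv => le_antisymm (hf₄ _) ?_⟩
  · have heq : (T : Set ((GolayPt → ℤ) ⧸ twoLeech)) = classSet :=
      Set.eq_of_subset_of_ncard_le hTsub (by
        rw [Set.ncard_coe_finset, hTcard, hn]; norm_num; omega) hfin
    have : q ∈ (T : Set ((GolayPt → ℤ) ⧸ twoLeech)) := heq ▸ hq
    exact Finset.mem_insert.mp this
  · by_contra hlt
    rw [not_le] at hlt
    have hlt' : ∑ q ∈ C, (S₄.filter fun x => cls x = q).card < ∑ _q ∈ C, 48 :=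
      Finset.sum_lt_sum (fun q _ => hf₄ q) ⟨cls v, Finset.mem_image_of_mem cls hv, hlt⟩
    rw [Finset.sum_const, smul_eq_mul, hC3, hC, ← Finset.card_eq_sum_card_image, hc₄] at hlt'
    omega

theorem image_classes_spec : (∀ q ∈ classSet, q = cls 0 ∨
      q ∈ ((shortVecs 8).image cls ∪ (shortVecs 12).image cls) ∪ (shortVecs 16).image cls) ∧
    ((shortVecs 16).image cls).card = 8292375 ∧
    ∀ v ∈ shortVecs 16, ((shortVecs 16).filter fun x => cls x = cls v).card = 48 :=
  classes_count _ _ _ card_min card_mid card_frame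
    (fun x hx => by
      obtain ⟨h1, h2⟩ := norm_of_mem_shortVecs (Or.inl rfl) hx
      exact ⟨h1, h2.trans (by norm_num)⟩)
    (fun x hx => by
      obtain ⟨h1, h2⟩ := norm_of_mem_shortVecs (Or.inr (Or.inl rfl)) hx
      exact ⟨h1, h2.trans (by norm_num)⟩)
    (fun x hx => by
      obtain ⟨h1, h2⟩ := norm_of_mem_shortVecs (Or.inr (Or.inr rfl)) hx
      exact ⟨h1, h2.trans (by norm_num)⟩)
    (fiber_le_two (Or.inl rfl)) (fiber_le_two (Or.inr rfl)) fiber_le_frame

/-- Every class modulo twice the lattice has a representative of squared length at most 64. -/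
theorem exists_short_rep {v : GolayPt → ℤ} (hv : v ∈ leechLattice) :
    ∃ w ∈ leechLattice, cls w = cls v ∧
      (w = 0 ∨ sqNorm w = 32 ∨ sqNorm w = 48 ∨ sqNorm w = 64) := by
  rcases image_classes_spec.1 _ (mem_classSet hv) with h | h
  · exact ⟨0, leechLattice.zero_mem, h.symm, Or.inl rfl⟩
  · simp only [Finset.mem_union, Finset.mem_image] at h
    rcases h with (⟨x, hx, he⟩ | ⟨x, hx, he⟩) | ⟨x, hx, he⟩
    · obtain ⟨hxL, hn⟩ := norm_of_mem_shortVecs (Or.inl rfl) hx
      exact ⟨x, hxL, he, Or.inr (Or.inl (by norm_num at hn; exact hn))⟩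
    · obtain ⟨hxL, hn⟩ := norm_of_mem_shortVecs (Or.inr (Or.inl rfl)) hx
      exact ⟨x, hxL, he, Or.inr (Or.inr (Or.inl (by norm_num at hn; exact hn)))⟩
    · obtain ⟨hxL, hn⟩ := norm_of_mem_shortVecs (Or.inr (Or.inr rfl)) hx
      exact ⟨x, hxL, he, Or.inr (Or.inr (Or.inr (by norm_num at hn; exact hn)))⟩

theorem card_frame_classes : ((shortVecs 16).image cls).card = 8292375 := image_classes_spec.2.1

/-- A class of squared length 64 contains exactly 48 such vectors. -/
theorem card_frame_class {v : GolayPt → ℤ} (hv : v ∈ shortVecs 16) :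
    ((shortVecs 16).filter fun x => cls x = cls v).card = 48 := image_classes_spec.2.2 v hv

/-- A vector of squared length 64 is the sum of two orthogonal shortest vectors. -/
theorem exists_split {v : GolayPt → ℤ} (hv : v ∈ leechLattice) (hn : sqNorm v = 64) :
    ∃ a ∈ leechLattice, ∃ b ∈ leechLattice,
      v = a + b ∧ sqNorm a = 32 ∧ sqNorm b = 32 ∧ dotInt a b = 0 := by
  have hvm : v ∈ shortVecs 16 := (mem_shortVecs (Or.inr (Or.inr rfl)) v).mpr
    ⟨hv, by rw [hn]; norm_num⟩
  set F := (shortVecs 16).filter fun x => cls x = cls v with hF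
  obtain ⟨y, hy, hyv⟩ : ∃ y ∈ F, y ∉ ({v, -v} : Finset (GolayPt → ℤ)) := by
    by_contra hne
    simp only [not_exists, not_and, not_not] at hne
    have := Finset.card_le_card (fun y hy => hne y hy : F ⊆ {v, -v})
    rw [card_frame_class hvm] at this
    have := this.trans Finset.card_le_two
    omega
  obtain ⟨hy1, hy2⟩ := Finset.mem_filter.mp hy
  obtain ⟨hyL, hyn⟩ := norm_of_mem_shortVecs (Or.inr (Or.inr rfl)) hy1
  norm_num at hyn
  simp only [Finset.mem_insert, Finset.mem_singleton, not_or] at hyv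
  have hc := (cls_eq_iff v y).mp hy2.symm
  rcases short_congr hyL (Ne.symm hyv.1) hn.le hyn.le hc with h | ⟨-, -, hd⟩
  · exact absurd (by rw [h, neg_neg]) hyv.2
  obtain ⟨b, hb, hvb⟩ := hc
  have hab : v - b = y + b := by
    funext i
    have := congrFun hvb i
    simp only [Pi.sub_apply, Pi.smul_apply, nsmul_eq_mul, Nat.cast_ofNat] at this
    simp only [Pi.sub_apply, Pi.add_apply]
    omega
  have h1 : 4 * sqNorm b = 128 := by
    rw [← sqNorm_smul_two, ← hvb, sqNorm_sub, hn, hyn, hd]; norm_num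
  have h2 : 4 * sqNorm (v - b) = 128 := by
    have e : 2 • (v - b) = v + y := by
      funext i
      have := congrFun hvb i
      simp only [Pi.sub_apply, Pi.smul_apply, Pi.add_apply, nsmul_eq_mul, Nat.cast_ofNat] at this ⊢
      omega
    rw [← sqNorm_smul_two, e, sqNorm_add, hn, hyn, hd]; norm_num
  refine ⟨v - b, leechLattice.sub_mem hv hb, b, hb, (sub_add_cancel v b).symm, by omega, by omega, ?_⟩
  have h3 := sqNorm_add (v - b) b
  rw [sub_add_cancel, hn] at h3
  omega

end CfsgLib.Leech
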