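/-
The automorphism group is transitive on the lattice vectors of squared length 64.
-/
import Cfsg.Agent.Leech.Classes

set_option autoImplicit false
set_option linter.constructorNameAsVariable false

namespace CfsgLib.Leech

open Cfsg CfsgLib.Golay

theorem eq_zero_or_one (a : ZMod 2) : a = 0 ∨ a = 1 := by revert a; decide

theorem bp_values : bp 0 = none ∧ bp 1 = some 0 ∧ bp 2 = pt 1 ∧ bp 3 = pt 2 := by decide +kernel

theorem pts_distinct : (pt 1 ≠ none ∧ pt 1 ≠ some 0) ∧ (pt 2 ≠ none ∧ pt 2 ≠ some 0) ∧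
    pt 1 ≠ pt 2 := by decide +kernel

/-- An element of the group of the code moving four base points to given ones. -/
theorem exists_mem_map_four {a b c d : GolayPt} (hab : a ≠ b) (hac : a ≠ c) (had : a ≠ d)
    (hbc : b ≠ c) (hbd : b ≠ d) (hcd : c ≠ d) :
    ∃ g : M24, (g : Equiv.Perm GolayPt) none = a ∧ (g : Equiv.Perm GolayPt) (some 0) = b ∧
      (g : Equiv.Perm GolayPt) (pt 1) = c ∧ (g : Equiv.Perm GolayPt) (pt 2) = d := by
  obtain ⟨g, hg, hgx⟩ := exists_mem_map_base 4 (by norm_num) (fun k => [a, b, c, d].getD k a) (by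
    intro i hi j hj h
    interval_cases i <;> interval_cases j <;> simp_all [eq_comm])
  refine ⟨⟨g, hg⟩, ?_, ?_, ?_, ?_⟩
  · rw [← bp_values.1]; simpa using hgx 0 (by norm_num)
  · rw [← bp_values.2.1]; simpa using hgx 1 (by norm_num)
  · rw [← bp_values.2.2.1]; simpa using hgx 2 (by norm_num)
  · rw [← bp_values.2.2.2]; simpa using hgx 3 (by norm_num)

theorem permHom_inv_apply (σ : M24) (v : leechLattice) (i : GolayPt) :
    (((permHom σ)⁻¹ • v : leechLattice) : GolayPt → ℤ) i =
      (v : GolayPt → ℤ) ((σ : Equiv.Perm GolayPt) i) := by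
  rw [← map_inv, permHom_apply]
  simp

theorem leechU_apply (p : GolayPt) :
    (Spor.leechU : GolayPt → ℤ) p = if p = none ∨ p = some 0 then 4 else 0 := rfl

theorem xiU_apply : xi Spor.vecU (pt 1) = 4 ∧ xi Spor.vecU (pt 2) = 4 ∧
    ∀ q, q ≠ pt 1 → q ≠ pt 2 → xi Spor.vecU q = 0 := by decide +kernel

theorem tetOf_pt_one : tetOf (pt 1) = 0 := by decide +kernel

theorem xi_at_one (x : GolayPt → ℤ) :
    xi x (pt 1) = -(x (pt 1) - (x none + x (some 0) + x (pt 1) + x (pt 2)) / 2) := by
  have h : tetPt 0 0 = some 0 ∧ tetPt 0 1 = pt 1 ∧ tetPt 0 2 = pt 2 ∧ tetPt 0 3 = none := by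
    decide +kernel
  simp only [xi, tetOf_pt_one, tetSum, Fin.sum_univ_four, h.1, h.2.1, h.2.2.1, h.2.2.2, tetSign,
    if_true]
  rw [show x (some 0) + x (pt 1) + x (pt 2) + x none =
    x none + x (some 0) + x (pt 1) + x (pt 2) by ring]
  ring

/-- Moving a vector off the even coordinates while fixing the standard shortest vector. -/
theorem exists_fix_odd {b : leechLattice} {p q : GolayPt} (hpq : p ≠ q)
    (hp : p ≠ none ∧ p ≠ some 0) (hq : q ≠ none ∧ q ≠ some 0) {e : ℤ} (he : e % 2 = 1)
    (hval : (b : GolayPt → ℤ) p - (b : GolayPt → ℤ) q -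
      ((b : GolayPt → ℤ) none + (b : GolayPt → ℤ) (some 0)) = 2 * e) :
    ∃ h : Co0, h • Spor.leechU = Spor.leechU ∧
      ¬ (2 : ℤ) ∣ ((h • b : leechLattice) : GolayPt → ℤ) none := by
  obtain ⟨π, h1, h2, h3, h4⟩ := exists_mem_map_four (a := none) (b := some 0) (c := p) (d := q)
    (by simp) hp.1.symm hq.1.symm hp.2.symm hq.2.symm hpq
  obtain ⟨τ, t1, t2⟩ := exists_mem_map_two pts_distinct.2.2
  rw [bp_values.1] at t1
  rw [bp_values.2.1] at t2
  refine ⟨(permHom τ)⁻¹ * xiAut * (permHom π)⁻¹, ?_, ?_⟩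
  · have hU : (permHom π)⁻¹ • Spor.leechU = Spor.leechU := by
      refine Subtype.ext (funext fun i => ?_)
      rw [permHom_inv_apply, leechU_apply, leechU_apply]
      refine if_congr ?_ rfl rfl
      constructor
      · rintro (h | h)
        · exact Or.inl ((π : Equiv.Perm GolayPt).injective (h.trans h1.symm))
        · exact Or.inr ((π : Equiv.Perm GolayPt).injective (h.trans h2.symm))
      · rintro (rfl | rfl)
        exacts [Or.inl h1, Or.inr h2]
    rw [mul_smul, mul_smul, hU]
    refine Subtype.ext (funext fun i => ?_)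
    rw [permHom_inv_apply, xiAut_apply, leechU_apply]
    show xi Spor.vecU _ = _
    by_cases hi1 : i = none
    · subst hi1; rw [t1, xiU_apply.1]; simp
    by_cases hi0 : i = some 0
    · subst hi0; rw [t2, xiU_apply.2.1]; simp
    rw [xiU_apply.2.2 _ (fun h => hi1 ((τ : Equiv.Perm GolayPt).injective (h.trans t1.symm)))
      (fun h => hi0 ((τ : Equiv.Perm GolayPt).injective (h.trans t2.symm)))]
    simp [hi1, hi0]
  · rw [mul_smul, mul_smul, permHom_inv_apply, t1, xiAut_apply, xi_at_one]
    simp only [permHom_inv_apply, h1, h2, h3, h4]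
    omega

theorem stdC_eq_flip {i : GolayPt} {x : GolayPt → ℤ} (hi3 : x i = 3 ∨ x i = -3)
    (hrest : ∀ p, p ≠ i → x p = 1 ∨ x p = -1) : x = flipSign (hi x) (stdC i) := by
  funext p
  simp only [flipSign, hi_apply_eq_one, stdC]
  by_cases hp : p = i
  · subst hp; rcases hi3 with e | e <;> simp [e]
  · rcases hrest p hp with e | e <;> simp [e, hp]

/-- A signed vector of the odd minimal shape. -/
def signedC (c : golayCode) (i : GolayPt) : leechLattice :=
  ⟨flipSign c (stdC i), flipSign_mem c.2 (stdC_mem i)⟩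

theorem signedC_to_target (b : leechLattice) {i : GolayPt}
    (hi3 : (b : GolayPt → ℤ) i = 3 ∨ (b : GolayPt → ℤ) i = -3)
    (hrest : ∀ p, p ≠ i → (b : GolayPt → ℤ) p = 1 ∨ (b : GolayPt → ℤ) p = -1)
    (c : golayCode) (h0 : hi (b : GolayPt → ℤ) none = (c : GolayPt → ZMod 2) none)
    (h1 : hi (b : GolayPt → ℤ) (some 0) = (c : GolayPt → ZMod 2) (some 0)) :
    ∃ h : Co0, h • Spor.leechU = Spor.leechU ∧ h • b = signedC c i := by
  let w : golayCode := ⟨hi (b : GolayPt → ℤ) + (c : GolayPt → ZMod 2),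
    golayCode.add_mem (mem_leech b.2).code c.2⟩
  have hself : ∀ a : ZMod 2, a + a = 0 := by decide
  refine ⟨signAut w, Subtype.ext (funext fun p => ?_), Subtype.ext (funext fun p => ?_)⟩
  · rw [signAut_apply]
    show (if (w : GolayPt → ZMod 2) p = 1 then -Spor.vecU p else Spor.vecU p) = Spor.vecU p
    by_cases hp : p = none ∨ p = some 0
    · have : (w : GolayPt → ZMod 2) p = 0 := by
        show hi (b : GolayPt → ℤ) p + (c : GolayPt → ZMod 2) p = 0
        rcases hp with rfl | rfl
        · rw [h0, hself]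
        · rw [h1, hself]
      simp [this]
    · simp [Spor.vecU, hp]
  · rw [signAut_apply]
    show flipSign _ _ p = flipSign c (stdC i) p
    conv_lhs => rw [stdC_eq_flip hi3 hrest]
    simp only [flipSign, w, Pi.add_apply]
    rcases eq_zero_or_one (hi (b : GolayPt → ℤ) p) with e | e <;>
      rcases eq_zero_or_one ((c : GolayPt → ZMod 2) p) with e' | e' <;>
      simp [e, e']

theorem perm_fix_U {σ : M24} (h1 : (σ : Equiv.Perm GolayPt) none = none)
    (h2 : (σ : Equiv.Perm GolayPt) (some 0) = some 0) :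
    (permHom σ)⁻¹ • Spor.leechU = Spor.leechU := by
  refine Subtype.ext (funext fun i => ?_)
  rw [permHom_inv_apply, leechU_apply, leechU_apply]
  refine if_congr ?_ rfl rfl
  constructor
  · rintro (h | h)
    · exact Or.inl ((σ : Equiv.Perm GolayPt).injective (h.trans h1.symm))
    · exact Or.inr ((σ : Equiv.Perm GolayPt).injective (h.trans h2.symm))
  · rintro (rfl | rfl)
    exacts [Or.inl h1, Or.inr h2]

/-- A vector of the odd minimal shape with the three away from the standard pair, normalised. -/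
theorem normal_away (b : leechLattice) {i : GolayPt}
    (hi3 : (b : GolayPt → ℤ) i = 3 ∨ (b : GolayPt → ℤ) i = -3)
    (hrest : ∀ p, p ≠ i → (b : GolayPt → ℤ) p = 1 ∨ (b : GolayPt → ℤ) p = -1)
    (hin : i ≠ none) (hi0 : i ≠ some 0) (c : golayCode)
    (h0 : hi (b : GolayPt → ℤ) none = (c : GolayPt → ZMod 2) none)
    (h1 : hi (b : GolayPt → ℤ) (some 0) = (c : GolayPt → ZMod 2) (some 0)) :
    ∃ h : Co0, h • Spor.leechU = Spor.leechU ∧ h • b = signedC c (pt 1) := by
  obtain ⟨r, hr⟩ : ∃ r, r ∉ ({none, some 0, i} : Finset GolayPt) := by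
    by_contra hne
    simp only [not_exists, not_not] at hne
    have := Finset.card_le_card (fun r _ => hne r : Finset.univ ⊆ ({none, some 0, i} : Finset _))
    have h3 : ({none, some 0, i} : Finset GolayPt).card ≤ 3 := Finset.card_le_three
    rw [Finset.card_univ, card_golayPt] at this
    omega
  simp only [Finset.mem_insert, Finset.mem_singleton, not_or] at hr
  obtain ⟨σ, s1, s2, s3, -⟩ := exists_mem_map_four (a := none) (b := some 0) (c := i) (d := r)
    (by simp) hin.symm (Ne.symm hr.1) hi0.symm (Ne.symm hr.2.1) (Ne.symm hr.2.2)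
  set b' := (permHom σ)⁻¹ • b with hb'
  have hv : ∀ p, (b' : GolayPt → ℤ) p = (b : GolayPt → ℤ) ((σ : Equiv.Perm GolayPt) p) :=
    fun p => permHom_inv_apply σ b p
  obtain ⟨h, hU, hb⟩ := signedC_to_target b' (i := pt 1) (by rw [hv, s3]; exact hi3)
    (fun p hp => by
      rw [hv]
      exact hrest _ fun e => hp ((σ : Equiv.Perm GolayPt).injective (e.trans s3.symm)))
    c (by simp only [hi, hv, s1]; exact h0) (by simp only [hi, hv, s2]; exact h1)
  exact ⟨h * (permHom σ)⁻¹, by rw [mul_smul, perm_fix_U s1 s2, hU], by rw [mul_smul, ← hb', hb]⟩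

/-- Code word with the extra point set and zero not. -/
def sepWord : golayCode := ⟨vec (word 4), vec_word_mem 4⟩

theorem sepWord_spec : vec (word 4) none = 1 ∧ vec (word 4) (some 0) = 0 := by decide +kernel

/-- The all-ones word. -/
def oneWord : golayCode := ⟨1, one_mem_code⟩

/-- Applying a permutation given by its position list. -/
def permL (L : List ℕ) (x : GolayPt → ℤ) : GolayPt → ℤ :=
  fun q => x (pt ((invL L).getD (idx q) 0))

theorem permHom_eq_permL (σ : M24) {L : List ℕ} (hL : toList (σ : Equiv.Perm GolayPt) = L)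
    (v : leechLattice) :
    ((permHom σ • v : leechLattice) : GolayPt → ℤ) = permL L v := by
  funext q
  rw [permHom_apply]
  simp only [permL]
  rw [← hL, ← toList_inv, toList_getD_idx, pt_idx]

/-- The three generators' position lists. -/
def genList (k : ℕ) : List ℕ := gensL.getD k []

theorem exists_gen_smul (k : ℕ) (hk : k < 3) :
    ∃ g : Co0, ∀ v : leechLattice,
      ((g • v : leechLattice) : GolayPt → ℤ) = permL (genList k) v := by
  have hlen : k < gens.length := hk
  have hmem : gens[k] ∈ M24 := by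
    have h := List.getElem_mem hlen
    simp only [gens, List.mem_cons, List.not_mem_nil, or_false] at h
    rcases h with e | e | e <;> simp only [gens] <;> rw [e]
    exacts [translation_mem, projInv_mem, cubeTwist_mem]
  refine ⟨permHom ⟨gens[k], hmem⟩, permHom_eq_permL _ ?_⟩
  have hlen' : k < gensL.length := hk
  rw [genList, List.getD_eq_getElem _ _ hlen']
  have := congrArg (fun L => L[k]?) gens_map
  simpa [hlen, hlen'] using this

/-- Interpret a letter: three generators of the group of the code, then the reflection. -/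
def stepRaw (k : ℕ) (x : GolayPt → ℤ) : GolayPt → ℤ :=
  if k < 3 then permL (genList k) x else xi x

theorem exists_word_smul (w : List ℕ) :
    ∃ g : Co0, ∀ v : leechLattice,
      ((g • v : leechLattice) : GolayPt → ℤ) = w.foldl (fun x k => stepRaw k x) v := by
  induction w using List.reverseRecOn with
  | nil => exact ⟨1, fun v => by rw [one_smul]; rfl⟩
  | append_singleton w k ih =>
    obtain ⟨g, hg⟩ := ih
    by_cases hk : k < 3
    · obtain ⟨s, hs⟩ := exists_gen_smul k hk
      exact ⟨s * g, fun v => by rw [mul_smul, hs, hg]; simp [stepRaw, hk]⟩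
    · exact ⟨xiAut * g, fun v => by rw [mul_smul, xiAut_apply, hg]; simp [stepRaw, hk]⟩

/-- Translation, inversion, twist, reflection: the word used for the two frame forms. -/
def frameLetters : List ℕ := [1, 2, 0, 0, 3, 0, 3]

theorem frame_witness₁ : ∀ p, (frameLetters.foldl (fun x k => stepRaw k x)
    (Spor.vecU + flipSign (vec (word 4)) (stdC (pt 1)))) p % 4 = 0 := by decide +kernel

theorem frame_witness₂ : ∀ p, (frameLetters.foldl (fun x k => stepRaw k x)
    (Spor.vecU + flipSign (vec (word 4) + 1) (stdC (pt 1)))) p % 4 = 0 := by decide +kernel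

/-- Being movable into the vectors divisible by four. -/
def GoodFour (v : leechLattice) : Prop :=
  ∃ g : Co0, ∀ p, (4 : ℤ) ∣ ((g • v : leechLattice) : GolayPt → ℤ) p

theorem GoodFour.smul {v : leechLattice} (g : Co0) (h : GoodFour (g • v)) : GoodFour v := by
  obtain ⟨k, hk⟩ := h
  exact ⟨k * g, fun p => by rw [mul_smul]; exact hk p⟩

theorem dot_U (b : GolayPt → ℤ) :
    dotInt (Spor.leechU : GolayPt → ℤ) b = 4 * (b none + b (some 0)) := by
  show ∑ t, Spor.vecU t * b t = _
  rw [Finset.sum_eq_add (none : GolayPt) (some 0) (by simp)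
    (fun t _ ht => by simp [Spor.vecU, ht.1, ht.2]) (by simp) (by simp)]
  simp [Spor.vecU]
  ring

theorem exists_outside (s : Finset GolayPt) (hs : s.card ≤ 16) :
    ∃ p, p ∉ s ∧ p ≠ none ∧ p ≠ some 0 := by
  by_contra hne
  simp only [not_exists, not_and, not_not] at hne
  have hsub : (Finset.univ : Finset GolayPt) ⊆ s ∪ {none, some 0} := fun p _ => by
    simp only [Finset.mem_union, Finset.mem_insert, Finset.mem_singleton]
    by_cases h1 : p ∈ s
    · exact Or.inl h1
    by_cases h2 : p = none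
    · exact Or.inr (Or.inl h2)
    exact Or.inr (Or.inr (hne p h1 h2))
  have := (Finset.card_le_card hsub).trans (Finset.card_union_le _ _)
  rw [Finset.card_univ, card_golayPt] at this
  have h2 : ({none, some 0} : Finset GolayPt).card ≤ 2 := Finset.card_le_two
  omega

theorem goodFour_orth_odd {b : leechLattice} {i : GolayPt}
    (hi3 : (b : GolayPt → ℤ) i = 3 ∨ (b : GolayPt → ℤ) i = -3)
    (hrest : ∀ p, p ≠ i → (b : GolayPt → ℤ) p = 1 ∨ (b : GolayPt → ℤ) p = -1)
    (hd : (b : GolayPt → ℤ) none + (b : GolayPt → ℤ) (some 0) = 0) :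
    GoodFour (Spor.leechU + b) := by
  have hin : i ≠ none := by
    rintro rfl
    rcases hrest (some 0) (by simp) with e | e <;> omega
  have hi0 : i ≠ some 0 := by
    rintro rfl
    rcases hrest none (by simp) with e | e <;> omega
  have hn := hrest none hin.symm
  have hz := hrest (some 0) hi0.symm
  have hbits : (hi (b : GolayPt → ℤ) none = 1 ∧ hi (b : GolayPt → ℤ) (some 0) = 0) ∨
      (hi (b : GolayPt → ℤ) none = 0 ∧ hi (b : GolayPt → ℤ) (some 0) = 1) := by
    rcases hn with e | e
    · right; simp only [hi, e, show (b : GolayPt → ℤ) (some 0) = -1 by omega]; decide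
    · left; simp only [hi, e, show (b : GolayPt → ℤ) (some 0) = 1 by omega]; decide
  obtain ⟨g, hg⟩ := exists_word_smul frameLetters
  rcases hbits with ⟨e0, e1⟩ | ⟨e0, e1⟩
  · obtain ⟨h, hU, hb⟩ := normal_away b hi3 hrest hin hi0 sepWord
      (e0.trans sepWord_spec.1.symm) (e1.trans sepWord_spec.2.symm)
    refine GoodFour.smul h ⟨g, fun p => ?_⟩
    rw [smul_add', hU, hb, hg]
    exact Int.dvd_of_emod_eq_zero (frame_witness₁ p)
  · obtain ⟨h, hU, hb⟩ := normal_away b hi3 hrest hin hi0 (sepWord + oneWord)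
      (by show _ = vec (word 4) none + 1; rw [e0, sepWord_spec.1]; decide)
      (by show _ = vec (word 4) (some 0) + 1; rw [e1, sepWord_spec.2]; decide)
    refine GoodFour.smul h ⟨g, fun p => ?_⟩
    rw [smul_add', hU, hb, hg]
    exact Int.dvd_of_emod_eq_zero (frame_witness₂ p)

theorem odd_shape_of_min {b : leechLattice} (hb : sqNorm (b : GolayPt → ℤ) = 32)
    (hodd : ¬ (2 : ℤ) ∣ (b : GolayPt → ℤ) none) : ShapeC (b : GolayPt → ℤ) := by
  rcases min_shape b.2 hb with ⟨i, j, -, hi4, hj4, hr⟩ | ⟨o, -, hon, hoff⟩ | h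
  · exfalso
    by_cases h1 : none = i
    · subst h1; omega
    by_cases h2 : none = j
    · subst h2; omega
    rw [hr none h1 h2] at hodd; simp at hodd
  · exfalso
    by_cases h1 : none ∈ o
    · rcases hon none h1 with e | e <;> omega
    · rw [hoff none h1] at hodd; simp at hodd
  · exact h

theorem goodFour_orth {b : leechLattice} (hb : sqNorm (b : GolayPt → ℤ) = 32)
    (hd : dotInt (Spor.leechU : GolayPt → ℤ) (b : GolayPt → ℤ) = 0) :
    GoodFour (Spor.leechU + b) := by
  have hd' : (b : GolayPt → ℤ) none + (b : GolayPt → ℤ) (some 0) = 0 := by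
    rw [dot_U] at hd; omega
  rcases min_shape b.2 hb with ⟨i, j, -, hi4, hj4, hr⟩ | ⟨o, ho, hon, hoff⟩ | ⟨i, hi3, hrest⟩
  · refine ⟨1, fun p => ?_⟩
    rw [one_smul]
    show (4 : ℤ) ∣ Spor.vecU p + (b : GolayPt → ℤ) p
    have h1 : (4 : ℤ) ∣ Spor.vecU p := by unfold Spor.vecU; split <;> norm_num
    refine dvd_add h1 ?_
    by_cases hp1 : p = i
    · subst hp1; omega
    by_cases hp2 : p = j
    · subst hp2; omega
    rw [hr p hp1 hp2]; exact dvd_zero _
  · obtain ⟨q, hq, hqn, hq0⟩ := exists_outside o (by rw [octad_card ho]; norm_num)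
    obtain ⟨p, hp, hpn, hp0⟩ := exists_outside oᶜ
      (by rw [Finset.card_compl, card_golayPt, octad_card ho])
    rw [Finset.mem_compl, not_not] at hp
    have hpq : p ≠ q := fun e => hq (e ▸ hp)
    obtain ⟨e, he, hval⟩ : ∃ e : ℤ, e % 2 = 1 ∧ (b : GolayPt → ℤ) p - (b : GolayPt → ℤ) q -
        ((b : GolayPt → ℤ) none + (b : GolayPt → ℤ) (some 0)) = 2 * e := by
      rw [hd', hoff q hq]
      rcases hon p hp with e | e
      · exact ⟨1, rfl, by rw [e]; ring⟩
      · exact ⟨-1, rfl, by rw [e]; ring⟩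
    obtain ⟨h, hU, hodd⟩ := exists_fix_odd hpq ⟨hpn, hp0⟩ ⟨hqn, hq0⟩ he hval
    have hn : sqNorm ((h • b : leechLattice) : GolayPt → ℤ) = 32 := by rw [sqNorm_smul, hb]
    obtain ⟨i, hi3, hrest⟩ := odd_shape_of_min hn hodd
    refine GoodFour.smul h ?_
    rw [smul_add', hU]
    refine goodFour_orth_odd hi3 hrest ?_
    have h2 := dot_smul' h Spor.leechU b
    rw [hU, hd, dot_U] at h2
    omega
  · exact goodFour_orth_odd hi3 hrest hd'

/-- The list of code words with prescribed values at four base points. -/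
def quadList : List ℕ := [0, 16, 17, 1, 2, 18, 19, 3, 20, 4, 5, 21, 22, 6, 7, 23]

theorem quadList_spec : ∀ a b c d : ZMod 2, ∃ w ∈ quadList,
    vec (word w) none = a ∧ vec (word w) (some 0) = b ∧ vec (word w) (pt 1) = c ∧
      vec (word w) (pt 2) = d := by decide +kernel

/-- Minus four at the extra point, four at the rest of its tetrad. -/
def quadVec : GolayPt → ℤ := fun p =>
  if p = none then -4 else if p = some 0 ∨ p = pt 1 ∨ p = pt 2 then 4 else 0

theorem xi_quadVec : ∀ p, xi quadVec p = if p = none then 8 else 0 := by decide +kernel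

theorem sameOrbit_eight {y : leechLattice} {i : GolayPt}
    (hi8 : (y : GolayPt → ℤ) i = 8 ∨ (y : GolayPt → ℤ) i = -8)
    (hr : ∀ p, p ≠ i → (y : GolayPt → ℤ) p = 0) : SameOrbit y (eightAt none) := by
  obtain ⟨σ, hσ, hσx⟩ := exists_mem_map_base 1 (by norm_num) (fun _ => i)
    (fun a ha b hb _ => by omega)
  have hσn : σ none = i := by rw [← bp_values.1]; exact hσx 0 (by norm_num)
  let w : golayCode := if (y : GolayPt → ℤ) i = 8 then 0 else oneWord
  refine ⟨(permHom ⟨σ, hσ⟩)⁻¹ * signAut w, Subtype.ext (funext fun p => ?_)⟩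
  rw [mul_smul, permHom_inv_apply, signAut_apply, eightAt_apply]
  show flipSign _ _ (σ p) = _
  by_cases hp : p = none
  · subst hp
    rw [hσn]
    rcases hi8 with e | e <;> simp [flipSign, w, e, oneWord]
  · have : σ p ≠ i := fun e => hp (σ.injective (e.trans hσn.symm))
    simp [flipSign, hr _ this, hp]

theorem four_orbit {y : leechLattice} (hn : sqNorm (y : GolayPt → ℤ) = 64)
    (h4 : ∀ p, (4 : ℤ) ∣ (y : GolayPt → ℤ) p) : SameOrbit y (eightAt none) := by
  choose z hz using h4
  have hz4 : ∑ p, z p ^ 2 = 4 := by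
    have : sqNorm (y : GolayPt → ℤ) = 16 * ∑ p, z p ^ 2 := by
      rw [sqNorm, Finset.mul_sum]; exact Finset.sum_congr rfl fun p _ => by rw [hz p]; ring
    omega
  by_cases hbig : ∃ i, 4 ≤ z i ^ 2
  · obtain ⟨i, hi4⟩ := hbig
    have hsplit := Finset.add_sum_erase Finset.univ (fun p => z p ^ 2) (Finset.mem_univ i)
    rw [hz4] at hsplit
    have hnn : 0 ≤ ∑ p ∈ Finset.univ.erase i, z p ^ 2 := Finset.sum_nonneg fun p _ => sq_nonneg _
    refine sameOrbit_eight (i := i) ?_ fun p hp => ?_
    · rcases sq_eq_iff_abs (show z i ^ 2 = 2 ^ 2 by simp only [Int.reducePow]; omega) with e | e <;>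
        rw [hz i, e] <;> norm_num
    · have := (Finset.sum_eq_zero_iff_of_nonneg fun q _ => sq_nonneg (z q)).mp
        (show ∑ q ∈ Finset.univ.erase i, z q ^ 2 = 0 by omega) p
        (Finset.mem_erase.mpr ⟨hp, Finset.mem_univ p⟩)
      rw [hz p, pow_eq_zero_iff two_ne_zero |>.mp this, mul_zero]
  · simp only [not_exists, not_le] at hbig
    have hsq : ∀ p, z p ^ 2 = if z p ≠ 0 then 1 else 0 := by
      intro p
      have h1 : z p = -1 ∨ z p = 0 ∨ z p = 1 := by
        have := hbig p
        have : -2 < z p ∧ z p < 2 := ⟨by nlinarith, by nlinarith⟩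
        omega
      rcases h1 with e | e | e <;> rw [e] <;> norm_num
    rw [Finset.sum_congr rfl fun p _ => hsq p, Finset.sum_boole] at hz4
    obtain ⟨a, t, ha, hset, ht⟩ := Finset.card_eq_succ.mp
      (show (Finset.univ.filter fun p => z p ≠ 0).card = 3 + 1 by exact_mod_cast hz4)
    obtain ⟨b, c, d, hbc, hbd, hcd, rfl⟩ := Finset.card_eq_three.mp ht
    simp only [Finset.mem_insert, Finset.mem_singleton, not_or] at ha
    obtain ⟨g, g1, g2, g3, g4⟩ := exists_mem_map_four ha.1 ha.2.1 ha.2.2 hbc hbd hcd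
    set u := (permHom g)⁻¹ • y with hu
    have hval : ∀ p, (u : GolayPt → ℤ) p = 4 * z ((g : Equiv.Perm GolayPt) p) := fun p => by
      rw [hu, permHom_inv_apply, hz]
    obtain ⟨k, -, k1, k2, k3, k4⟩ := quadList_spec (if z a = 1 then 1 else 0)
      (if z b = 1 then 0 else 1) (if z c = 1 then 0 else 1) (if z d = 1 then 0 else 1)
    have hne : ∀ p, z p ≠ 0 ↔ p = a ∨ p = b ∨ p = c ∨ p = d := fun p => by
      have := Finset.ext_iff.mp hset p
      simpa [eq_comm] using this.symm
    have hpm : ∀ p, z p ≠ 0 → z p = 1 ∨ z p = -1 := fun p hp0 => by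
      have := hsq p
      rw [if_pos hp0] at this
      exact sq_eq_iff_abs (by rw [this]; norm_num)
    refine ⟨xiAut * signAut ⟨_, vec_word_mem k⟩ * (permHom g)⁻¹, ?_⟩
    have hq : signAut ⟨_, vec_word_mem k⟩ • u = ⟨quadVec, mem_of_test (by decide +kernel)⟩ := by
      refine Subtype.ext (funext fun p => ?_)
      rw [signAut_apply]
      show flipSign (vec (word k)) _ p = quadVec p
      simp only [flipSign, hval, quadVec]
      by_cases p0 : p = none
      · subst p0
        rw [g1, k1]
        rcases hpm a ((hne a).mpr (Or.inl rfl)) with e | e <;> simp [e]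
      by_cases p1 : p = some 0
      · subst p1
        rw [g2, k2]
        rcases hpm b ((hne b).mpr (Or.inr (Or.inl rfl))) with e | e <;> simp [e]
      by_cases p2 : p = pt 1
      · subst p2
        rw [g3, k3]
        rcases hpm c ((hne c).mpr (Or.inr (Or.inr (Or.inl rfl)))) with e | e <;>
          simp [e, pts_distinct.1.1]
      by_cases p3 : p = pt 2
      · subst p3
        rw [g4, k4]
        rcases hpm d ((hne d).mpr (Or.inr (Or.inr (Or.inr rfl)))) with e | e <;>
          simp [e, pts_distinct.2.1.1]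
      have : z ((g : Equiv.Perm GolayPt) p) = 0 := by
        by_contra h0
        rcases (hne _).mp h0 with e | e | e | e
        · exact p0 ((g : Equiv.Perm GolayPt).injective (e.trans g1.symm))
        · exact p1 ((g : Equiv.Perm GolayPt).injective (e.trans g2.symm))
        · exact p2 ((g : Equiv.Perm GolayPt).injective (e.trans g3.symm))
        · exact p3 ((g : Equiv.Perm GolayPt).injective (e.trans g4.symm))
      simp [this, p0, p1, p2, p3]
    rw [mul_smul, mul_smul, ← hu, hq]
    refine Subtype.ext (funext fun p => ?_)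
    rw [xiAut_apply, eightAt_apply]
    exact xi_quadVec p

theorem frame_orbit {v : leechLattice} (hv : sqNorm (v : GolayPt → ℤ) = 64) :
    SameOrbit v (eightAt none) := by
  obtain ⟨a, ha, b, hb, hab, han, hbn, hd⟩ := exists_split v.2 hv
  have hva : v = (⟨a, ha⟩ : leechLattice) + ⟨b, hb⟩ := Subtype.ext hab
  obtain ⟨g, hg⟩ := min_orbit (v := ⟨a, ha⟩) han
  have hgood : GoodFour (g • v) := by
    rw [hva, smul_add', hg]
    refine goodFour_orth ((sqNorm_smul g _).trans hbn) ?_
    have := dot_smul' g ⟨a, ha⟩ ⟨b, hb⟩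
    rw [hg] at this
    exact this.trans hd
  obtain ⟨k, hk⟩ := hgood
  exact SameOrbit.trans' ⟨k * g, mul_smul k g v⟩
    (four_orbit (by rw [sqNorm_smul, sqNorm_smul, hv]) hk)

theorem frame_transitive {v w : leechLattice} (hv : sqNorm (v : GolayPt → ℤ) = 64)
    (hw : sqNorm (w : GolayPt → ℤ) = 64) : ∃ g : Co0, g • v = w :=
  (frame_orbit hv).trans' (frame_orbit hw).symm'

end CfsgLib.Leech
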