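/-
The automorphism group is transitive on the lattice vectors of squared length 48.
-/
import Cfsg.Agent.Leech.Frame

set_option autoImplicit false
set_option linter.constructorNameAsVariable false

namespace CfsgLib.Leech

open Cfsg CfsgLib.Golay

/-- Having a shortest vector with inner product 24. -/
def HasPartner (v : GolayPt → ℤ) : Prop :=
  ∃ a ∈ leechLattice, sqNorm a = 32 ∧ dotInt a v = 24

theorem hasPartner_pair {v : GolayPt → ℤ} {i j : GolayPt} (hij : i ≠ j) {s t : ℤ}
    (hs : s = 1 ∨ s = -1) (ht : t = 1 ∨ t = -1) (h : s * v i + t * v j = 6) : HasPartner v := by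
  refine ⟨fun p => 4 * ((if p = i then s else 0) + (if p = j then t else 0)), ?_, ?_, ?_⟩
  · rw [four_mul_mem_iff, Finset.sum_add_distrib, Finset.sum_ite_eq', Finset.sum_ite_eq']
    simp only [Finset.mem_univ, if_true]
    omega
  · simp only [sqNorm]
    rw [Finset.sum_eq_add i j hij (fun p _ hp => by simp [hp.1, hp.2]) (by simp) (by simp)]
    simp only [if_true, hij, hij.symm, if_false, add_zero, zero_add]
    rcases hs with rfl | rfl <;> rcases ht with rfl | rfl <;> norm_num
  · simp only [dotInt]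
    rw [Finset.sum_eq_add i j hij (fun p _ hp => by simp [hp.1, hp.2]) (by simp) (by simp)]
    simp only [if_true, hij, hij.symm, if_false, add_zero, zero_add]
    linarith

theorem exists_sign {t a : ℤ} (h : t = a ∨ t = -a) : ∃ s : ℤ, (s = 1 ∨ s = -1) ∧ s * t = a := by
  rcases h with rfl | rfl
  exacts [⟨1, Or.inl rfl, one_mul _⟩, ⟨-1, Or.inr rfl, by ring⟩]

theorem hasPartner_dodecad {v : GolayPt → ℤ} {o : Finset GolayPt}
    (hoC : o ∈ supports (golayCode : Set (GolayPt → ZMod 2))) (ho : o.card = 12)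
    (hon : ∀ p ∈ o, v p = 2 ∨ v p = -2) (hoff : ∀ p ∉ o, v p = 0) : HasPartner v := by
  obtain ⟨f, hf, hfc⟩ := Finset.exists_subset_card_eq (s := o) (n := 5) (by omega)
  obtain ⟨O, ⟨hO, hfO⟩, -⟩ := octads_steiner.2 f hfc
  have hint : (o ∩ O).card = 6 := by
    have h1 := card_symmDiff_add o O
    have h2 : f.card ≤ (o ∩ O).card := Finset.card_le_card (Finset.subset_inter hf hfO)
    have h3 := Finset.card_le_card (Finset.inter_subset_right : o ∩ O ⊆ O)
    rw [ho, octad_card hO] at h1
    rw [octad_card hO] at h3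
    rcases supports_card (supports_symmDiff hoC hO.1) with h | h | h | h | h <;> omega
  have hrest : (O \ o).card = 2 := by
    have := Finset.card_sdiff_add_card_inter O o
    rw [Finset.inter_comm, hint, octad_card hO] at this
    omega
  obtain ⟨r, r', hrr, hr⟩ := Finset.card_eq_two.mp hrest
  set S := ∑ p ∈ o ∩ O, v p / 2 with hS
  have hSe : (2 : ℤ) ∣ S := by
    have h2 : (2 : ℤ) ∣ ∑ p ∈ o ∩ O, (v p / 2 - 1) := Finset.dvd_sum fun p hp => by
      rcases hon p (Finset.mem_inter.mp hp).1 with e | e <;> rw [e] <;> norm_num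
    rw [Finset.sum_sub_distrib, Finset.sum_const, hint, nsmul_eq_mul] at h2
    push_cast at h2
    omega
  let y : GolayPt → ℤ := fun p => if p ∈ o ∩ O then v p / 2 else
    if p ∈ O then (if p = r' ∧ S % 4 = 0 then -1 else 1) else 0
  have hy1 : ∀ p, (p ∈ O → y p = 1 ∨ y p = -1) ∧ (p ∉ O → y p = 0) := by
    intro p
    simp only [y, Finset.mem_inter]
    constructor
    · intro hp
      by_cases hpo : p ∈ o
      · rcases hon p hpo with e | e <;> simp [hp, hpo, e]
      · by_cases hc : p = r' ∧ S % 4 = 0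
        · right; rw [if_neg (fun h => hpo h.1), if_pos hp, if_pos hc]
        · left; rw [if_neg (fun h => hpo h.1), if_pos hp, if_neg hc]
    · intro hp; simp [hp]
  have hsum : ∑ p, y p = S + ∑ p ∈ O \ o, y p := by
    rw [← Finset.sum_subset (Finset.subset_univ O) fun p _ hp => (hy1 p).2 hp,
      ← Finset.sum_inter_add_sum_sdiff O o y, Finset.inter_comm]
    congr 1
    exact Finset.sum_congr rfl fun p hp => if_pos hp
  refine ⟨fun p => 2 * y p, (two_mul_mem_iff y).mpr ⟨?_, ?_⟩, ?_, ?_⟩
  · obtain ⟨⟨w, hw, hwO⟩, -⟩ := hO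
    have : (fun i => ((y i : ℤ) : ZMod 2)) = w := by
      refine support₂_inj ?_
      rw [hwO]
      ext p
      simp only [support₂, Finset.mem_filter, Finset.mem_univ, true_and]
      by_cases hp : p ∈ O
      · rcases (hy1 p).1 hp with e | e <;> simp [e, hp]
      · simp [(hy1 p).2 hp, hp]
    rw [this]; exact hw
  · have hr1 : r ∉ o ∩ O ∧ r ∈ O := by
      have : r ∈ O \ o := by rw [hr]; simp
      simp only [Finset.mem_sdiff] at this
      exact ⟨fun h => this.2 (Finset.mem_inter.mp h).1, this.1⟩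
    have hr2 : r' ∉ o ∩ O ∧ r' ∈ O := by
      have : r' ∈ O \ o := by rw [hr]; simp
      simp only [Finset.mem_sdiff] at this
      exact ⟨fun h => this.2 (Finset.mem_inter.mp h).1, this.1⟩
    rw [hsum, hr, Finset.sum_pair hrr]
    simp only [y, if_neg hr1.1, if_pos hr1.2, if_neg hr2.1, if_pos hr2.2, hrr, false_and, if_false,
      true_and]
    split <;> omega
  · have h4 : ∀ p, (2 * y p) ^ 2 = if p ∈ O then 4 else 0 := by
      intro p
      split
      · rename_i hp; rcases (hy1 p).1 hp with e | e <;> rw [e] <;> norm_num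
      · rename_i hp; rw [(hy1 p).2 hp]; norm_num
    simp only [sqNorm, h4, Finset.sum_ite_mem, Finset.univ_inter, Finset.sum_const, octad_card hO]
    norm_num
  · have h4 : ∀ p, 2 * y p * v p = if p ∈ o ∩ O then 4 else 0 := by
      intro p
      split
      · rename_i hp
        simp only [y, if_pos hp]
        rcases hon p (Finset.mem_inter.mp hp).1 with e | e <;> rw [e] <;> norm_num
      · rename_i hp
        by_cases hpo : p ∈ o
        · have : p ∉ O := fun h => hp (Finset.mem_inter.mpr ⟨hpo, h⟩)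
          rw [(hy1 p).2 this]; ring
        · rw [hoff p hpo]; ring
    simp only [dotInt, h4, Finset.sum_ite_mem, Finset.univ_inter, Finset.sum_const, hint]
    norm_num

theorem hasPartner {v : GolayPt → ℤ} (hv : v ∈ leechLattice) (hn : sqNorm v = 48) :
    HasPartner v := by
  have h := mem_leech hv
  have hsum : ∑ p, v p ^ 2 = 48 := hn
  rcases Int.emod_two_eq_zero_or_one (v none) with hp | hp
  · have hev : ∀ p, v p % 2 = 0 := fun p => by have := h.par p; omega
    set o := support₂ (hi v) with ho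
    have hmem : ∀ p, p ∈ o ↔ v p % 4 = 2 := fun p => by
      simp only [ho, support₂, Finset.mem_filter, Finset.mem_univ, true_and, zmod2_ne_zero_iff,
        hi_apply_eq_one]
      have := hev p
      omega
    have hon : ∀ p ∈ o, (v p = 2 ∨ v p = -2) ∨ 36 ≤ v p ^ 2 := fun p hpo => by
      rw [hmem] at hpo
      by_cases h2 : v p = 2 ∨ v p = -2
      · exact Or.inl h2
      · right
        rcases le_or_gt (v p) 0 with hle | hgt
        · nlinarith [show v p ≤ -6 by omega]
        · nlinarith [show v p ≥ 6 by omega]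
    have hout : ∀ p ∈ oᶜ, v p = 0 ∨ 16 ≤ v p ^ 2 := fun p hpo => by
      rw [Finset.mem_compl, hmem] at hpo
      by_cases h0 : v p = 0
      · exact Or.inl h0
      · right
        have := hev p
        rcases le_or_gt (v p) 0 with hle | hgt
        · nlinarith [show v p ≤ -4 by omega]
        · nlinarith [show v p ≥ 4 by omega]
    have hge : ∀ p ∈ o, 0 ≤ v p ^ 2 - 4 := fun p hp => by
      rcases hon p hp with (e | e) | e
      · rw [e]; norm_num
      · rw [e]; norm_num
      · omega
    have hsplit : ∑ p ∈ o, (v p ^ 2 - 4) + ∑ p ∈ oᶜ, v p ^ 2 = 48 - 4 * (o.card : ℤ) := by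
      rw [Finset.sum_sub_distrib, Finset.sum_const, nsmul_eq_mul,
        ← hsum, ← Finset.sum_add_sum_compl o]
      push_cast; ring
    have hn1 : 0 ≤ ∑ p ∈ o, (v p ^ 2 - 4) := Finset.sum_nonneg hge
    have hn2 : 0 ≤ ∑ p ∈ oᶜ, v p ^ 2 := Finset.sum_nonneg fun p _ => sq_nonneg _
    have hall : (o.card : ℤ) = 8 ∨ (o.card : ℤ) = 12 → ∀ p ∈ o, v p = 2 ∨ v p = -2 := by
      intro hc p hpo
      rcases hon p hpo with e | e
      · exact e
      · have := Finset.single_le_sum hge hpo
        omega
    rcases supports_card (s := o) ⟨hi v, h.code, rfl⟩ with hc | hc | hc | hc | hc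
    · exfalso
      have hc0 : hi v = 0 := support₂_inj (by
        rw [← ho, Finset.card_eq_zero.mp hc]; ext p; simp [support₂])
      choose z hz using sum_eq_zero_of_code_zero h hp hc0
      have h3 : ∑ p, z p ^ 2 = 3 := by
        have : ∑ p, v p ^ 2 = 16 * ∑ p, z p ^ 2 := by
          rw [Finset.mul_sum]; exact Finset.sum_congr rfl fun p _ => by rw [hz p]; ring
        omega
      have hev2 : (2 : ℤ) ∣ ∑ p, z p := by
        refine (four_mul_mem_iff z).mp ?_
        rwa [← show v = fun p => 4 * z p from funext hz]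
      have h2 : (2 : ℤ) ∣ ∑ p, (z p ^ 2 - z p) := Finset.dvd_sum fun p _ => by
        obtain ⟨e, he⟩ : (2 : ℤ) ∣ (z p - 1) * (z p - 1 + 1) :=
          even_iff_two_dvd.mp (Int.even_mul_succ_self _)
        exact ⟨e, by rw [← he]; ring⟩
      rw [Finset.sum_sub_distrib] at h2
      omega
    · have hall' := hall (Or.inl (by exact_mod_cast hc))
      have hz : ∑ p ∈ o, (v p ^ 2 - 4) = 0 := Finset.sum_eq_zero fun p hp => by
        rcases hall' p hp with e | e <;> rw [e] <;> norm_num
      rw [hz, hc] at hsplit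
      push_cast at hsplit
      obtain ⟨q, hq, hq0⟩ := Finset.exists_ne_zero_of_sum_ne_zero
        (s := oᶜ) (f := fun p => v p ^ 2) (by omega)
      have hq16 := Finset.single_le_sum (fun r _ => sq_nonneg (v r)) hq
      rcases hout q hq with e | e
      · exact absurd (by rw [e]; norm_num) hq0
      have hv4 : v q = 4 ∨ v q = -4 := sq_eq_iff_abs (by simp only [Int.reducePow]; omega)
      obtain ⟨r, hr⟩ := Finset.card_pos.mp (show 0 < o.card by omega)
      obtain ⟨s, hs, hsv⟩ := exists_sign hv4
      obtain ⟨t, ht, htv⟩ := exists_sign (hall' r hr)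
      refine hasPartner_pair (i := q) (j := r) ?_ hs ht (by rw [hsv, htv]; norm_num)
      rintro rfl
      exact (Finset.mem_compl.mp hq) hr
    · have hall' := hall (Or.inr (by exact_mod_cast hc))
      refine hasPartner_dodecad ⟨hi v, h.code, rfl⟩ hc hall' fun p hpo => ?_
      have hz : ∑ p ∈ oᶜ, v p ^ 2 = 0 := by rw [hc] at hsplit; push_cast at hsplit; omega
      have := (Finset.sum_eq_zero_iff_of_nonneg fun q _ => sq_nonneg (v q)).mp hz p
        (Finset.mem_compl.mpr hpo)
      exact pow_eq_zero_iff two_ne_zero |>.mp this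
    · rw [hc] at hsplit; push_cast at hsplit; omega
    · rw [hc] at hsplit; push_cast at hsplit; omega
  · have hodd : ∀ p, v p % 2 = 1 := fun p => by have := h.par p; omega
    have h8 : ∀ p, (v p = 1 ∨ v p = -1) ∨ (v p = 3 ∨ v p = -3) ∨ 25 ≤ v p ^ 2 := fun p => by
      by_cases h1 : v p = 1 ∨ v p = -1
      · exact Or.inl h1
      by_cases h3 : v p = 3 ∨ v p = -3
      · exact Or.inr (Or.inl h3)
      refine Or.inr (Or.inr ?_)
      have := hodd p
      rcases le_or_gt (v p) 0 with hle | hgt
      · nlinarith [show v p ≤ -5 by omega]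
      · nlinarith [show v p ≥ 5 by omega]
    have h1 : ∀ p, 0 ≤ v p ^ 2 - 1 := fun p => by
      rcases h8 p with (e | e) | (e | e) | e
      all_goals first | (rw [e]; norm_num) | omega
    have htot : ∑ p, (v p ^ 2 - 1) = 24 := by
      rw [Finset.sum_sub_distrib, Finset.sum_const, Finset.card_univ, card_golayPt, hsum]
      norm_num
    by_cases h5 : ∃ i, 25 ≤ v i ^ 2
    · obtain ⟨i, hi5⟩ := h5
      have hsplit := Finset.add_sum_erase Finset.univ (fun p => v p ^ 2 - 1) (Finset.mem_univ i)
      rw [htot] at hsplit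
      obtain ⟨j, hj⟩ := exists_ne i
      have hj1 := Finset.single_le_sum (s := Finset.univ.erase i)
        (f := fun p => v p ^ 2 - 1) (fun r _ => h1 r) (Finset.mem_erase.mpr ⟨hj, Finset.mem_univ j⟩)
      have hn0 : 0 ≤ ∑ p ∈ Finset.univ.erase i, (v p ^ 2 - 1) := Finset.sum_nonneg fun r _ => h1 r
      obtain ⟨s, hs, hsv⟩ := exists_sign (sq_eq_iff_abs
        (show v i ^ 2 = 5 ^ 2 by simp only [Int.reducePow]; omega))
      obtain ⟨t, ht, htv⟩ := exists_sign (sq_eq_iff_abs
        (show v j ^ 2 = 1 ^ 2 by simp only [Int.reducePow]; have := h1 j; omega))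
      exact hasPartner_pair hj.symm hs ht (by rw [hsv, htv]; norm_num)
    · simp only [not_exists, not_le] at h5
      have h13 : ∀ p, (v p = 1 ∨ v p = -1) ∨ (v p = 3 ∨ v p = -3) := fun p => by
        rcases h8 p with e | e | e
        exacts [Or.inl e, Or.inr e, absurd e (not_le.mpr (h5 p))]
      set T := Finset.univ.filter fun p => v p = 3 ∨ v p = -3 with hT
      have hT3 : 1 < T.card := by
        by_contra hle
        have hval : ∀ p, v p ^ 2 - 1 = if p ∈ T then 8 else 0 := fun p => by
          rcases h13 p with (e | e) | (e | e) <;>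
            simp only [hT, Finset.mem_filter, Finset.mem_univ, true_and, e] <;> norm_num
        simp only [hval, Finset.sum_ite_mem, Finset.univ_inter, Finset.sum_const, nsmul_eq_mul]
          at htot
        omega
      obtain ⟨i, hiT, j, hjT, hij⟩ := Finset.one_lt_card.mp hT3
      simp only [hT, Finset.mem_filter, Finset.mem_univ, true_and] at hiT hjT
      obtain ⟨s, hs, hsv⟩ := exists_sign hiT
      obtain ⟨t, ht, htv⟩ := exists_sign hjT
      exact hasPartner_pair hij hs ht (by rw [hsv, htv]; norm_num)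

/-- Five at the extra point, one elsewhere. -/
def fiveVec : leechLattice := -Spor.leechV

theorem fiveVec_apply (p : GolayPt) :
    (fiveVec : GolayPt → ℤ) p = if p = none then 5 else 1 := by
  show -(Spor.vecV p) = _
  simp only [Spor.vecV]
  split <;> norm_num

theorem five_orbit {y : leechLattice} (hn : sqNorm (y : GolayPt → ℤ) = 48) {i : GolayPt}
    (hi5 : (y : GolayPt → ℤ) i = 5 ∨ (y : GolayPt → ℤ) i = -5) : SameOrbit y fiveVec := by
  have h := mem_leech y.2
  have hodd : ∀ p, (y : GolayPt → ℤ) p % 2 = 1 := fun p => by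
    have h1 := h.par p; have h2 := h.par i
    rcases hi5 with e | e <;> omega
  have h1 : ∀ p, 0 ≤ (y : GolayPt → ℤ) p ^ 2 - 1 := fun p => by
    have : (y : GolayPt → ℤ) p ≠ 0 := by have := hodd p; omega
    have : 0 < (y : GolayPt → ℤ) p ^ 2 := by positivity
    omega
  have hrest : ∀ p, p ≠ i → (y : GolayPt → ℤ) p = 1 ∨ (y : GolayPt → ℤ) p = -1 := by
    have htot : ∑ p, ((y : GolayPt → ℤ) p ^ 2 - 1) = 24 := by
      rw [Finset.sum_sub_distrib, Finset.sum_const, Finset.card_univ, card_golayPt]
      rw [show (∑ p, (y : GolayPt → ℤ) p ^ 2) = 48 from hn]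
      norm_num
    rw [← Finset.add_sum_erase Finset.univ _ (Finset.mem_univ i)] at htot
    intro p hp
    have hz : ∑ q ∈ Finset.univ.erase i, ((y : GolayPt → ℤ) q ^ 2 - 1) = 0 := by
      rcases hi5 with e | e <;> rw [e] at htot <;> norm_num at htot ⊢ <;> linarith
    have := (Finset.sum_eq_zero_iff_of_nonneg fun q _ => h1 q).mp hz p
      (Finset.mem_erase.mpr ⟨hp, Finset.mem_univ p⟩)
    exact sq_eq_iff_abs (by simp only [Int.reducePow]; omega)
  obtain ⟨σ, hσ, hσx⟩ := exists_mem_map_base 1 (by norm_num) (fun _ => i)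
    (fun a ha b hb _ => by omega)
  have hσn : σ none = i := by rw [← bp_values.1]; exact hσx 0 (by norm_num)
  refine ⟨(permHom ⟨σ, hσ⟩)⁻¹ * signAut ⟨hi y, h.code⟩, Subtype.ext (funext fun p => ?_)⟩
  rw [mul_smul, permHom_inv_apply, signAut_apply, fiveVec_apply]
  show flipSign (hi y) _ (σ p) = _
  simp only [flipSign, hi_apply_eq_one]
  by_cases hp : p = none
  · subst hp
    rw [hσn]
    rcases hi5 with e | e <;> simp [e]
  · have hne : σ p ≠ i := fun e => hp (σ.injective (e.trans hσn.symm))
    rcases hrest _ hne with e | e <;> simp [e, hp]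

/-- Being movable to a vector with a coordinate five in absolute value. -/
def GoodFive (v : leechLattice) : Prop :=
  ∃ (g : Co0) (p : GolayPt), ((g • v : leechLattice) : GolayPt → ℤ) p = 5 ∨
    ((g • v : leechLattice) : GolayPt → ℤ) p = -5

theorem GoodFive.smul {v : leechLattice} (g : Co0) (h : GoodFive (g • v)) : GoodFive v := by
  obtain ⟨k, p, hk⟩ := h
  exact ⟨k * g, p, by rw [mul_smul]; exact hk⟩

theorem five_witness : xi (Spor.vecU + flipSign 1 (stdC (pt 1))) (pt 2) = 5 := by decide +kernel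

theorem goodFive_odd {b : leechLattice} {i : GolayPt}
    (hi3 : (b : GolayPt → ℤ) i = 3 ∨ (b : GolayPt → ℤ) i = -3)
    (hrest : ∀ p, p ≠ i → (b : GolayPt → ℤ) p = 1 ∨ (b : GolayPt → ℤ) p = -1)
    (hd : (b : GolayPt → ℤ) none + (b : GolayPt → ℤ) (some 0) = -2) :
    GoodFive (Spor.leechU + b) := by
  by_cases hin : i = none
  · subst hin
    have hz := hrest (some 0) (by simp)
    refine ⟨1, some 0, Or.inl ?_⟩
    rw [one_smul]
    show Spor.vecU (some 0) + (b : GolayPt → ℤ) (some 0) = 5
    have : (b : GolayPt → ℤ) (some 0) = 1 := by omega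
    rw [this]; simp [Spor.vecU]
  by_cases hi0 : i = some 0
  · subst hi0
    have hz := hrest none (by simp)
    refine ⟨1, none, Or.inl ?_⟩
    rw [one_smul]
    show Spor.vecU none + (b : GolayPt → ℤ) none = 5
    have : (b : GolayPt → ℤ) none = 1 := by omega
    rw [this]; simp [Spor.vecU]
  have hn := hrest none (Ne.symm hin)
  have hz := hrest (some 0) (Ne.symm hi0)
  have en : (b : GolayPt → ℤ) none = -1 := by omega
  have ez : (b : GolayPt → ℤ) (some 0) = -1 := by omega
  obtain ⟨h, hU, hb⟩ := normal_away b hi3 hrest hin hi0 oneWord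
    (by simp only [hi, en]; decide) (by simp only [hi, ez]; decide)
  refine GoodFive.smul h ⟨xiAut, pt 2, Or.inl ?_⟩
  rw [smul_add', hU, hb, xiAut_apply]
  exact five_witness

theorem goodFive {b : leechLattice} (hb : sqNorm (b : GolayPt → ℤ) = 32)
    (hd : dotInt (Spor.leechU : GolayPt → ℤ) (b : GolayPt → ℤ) = -8) :
    GoodFive (Spor.leechU + b) := by
  have hd' : (b : GolayPt → ℤ) none + (b : GolayPt → ℤ) (some 0) = -2 := by
    rw [dot_U] at hd; omega
  rcases min_shape b.2 hb with ⟨i, j, -, hi4, hj4, hr⟩ | ⟨o, ho, hon, hoff⟩ | ⟨i, hi3, hrest⟩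
  · exfalso
    have hv : ∀ p, (4 : ℤ) ∣ (b : GolayPt → ℤ) p := fun p => by
      by_cases hp1 : p = i
      · subst hp1; omega
      by_cases hp2 : p = j
      · subst hp2; omega
      rw [hr p hp1 hp2]; exact dvd_zero _
    have := hv none; have := hv (some 0)
    omega
  · obtain ⟨q, hq, hqn, hq0⟩ := exists_outside o (by rw [octad_card ho]; norm_num)
    obtain ⟨p, hp, hpn, hp0⟩ := exists_outside (insert q o)
      ((Finset.card_insert_le _ _).trans (by rw [octad_card ho]; norm_num))
    simp only [Finset.mem_insert, not_or] at hp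
    obtain ⟨h, hU, hodd⟩ := exists_fix_odd hp.1 ⟨hpn, hp0⟩ ⟨hqn, hq0⟩ (e := 1) rfl
      (by rw [hd', hoff q hq, hoff p hp.2]; norm_num)
    have hn : sqNorm ((h • b : leechLattice) : GolayPt → ℤ) = 32 := by rw [sqNorm_smul, hb]
    obtain ⟨i, hi3, hrest⟩ := odd_shape_of_min hn hodd
    refine GoodFive.smul h ?_
    rw [smul_add', hU]
    refine goodFive_odd hi3 hrest ?_
    have h2 := dot_smul' h Spor.leechU b
    rw [hU, hd, dot_U] at h2
    omega
  · exact goodFive_odd hi3 hrest hd'

theorem middle_orbit {v : leechLattice} (hv : sqNorm (v : GolayPt → ℤ) = 48) :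
    SameOrbit v fiveVec := by
  obtain ⟨a, ha, han, hd⟩ := hasPartner v.2 hv
  obtain ⟨g, hg⟩ := min_orbit (v := ⟨a, ha⟩) han
  set b := g • v - g • (⟨a, ha⟩ : leechLattice) with hbdef
  have hda : dotInt ((g • v : leechLattice) : GolayPt → ℤ) (Spor.leechU : GolayPt → ℤ) = 24 := by
    rw [← hg, dot_smul']
    exact (Finset.sum_congr rfl fun p _ => mul_comm _ _).trans hd
  have hgv : sqNorm ((g • v : leechLattice) : GolayPt → ℤ) = 48 := by rw [sqNorm_smul, hv]
  have hU32 : sqNorm (Spor.leechU : GolayPt → ℤ) = 32 := by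
    show sqNorm Spor.vecU = 32
    decide +kernel
  have hb : sqNorm (b : GolayPt → ℤ) = 32 := by
    rw [hbdef, hg, AddSubgroup.coe_sub, sqNorm_sub, hgv, hU32, hda]; norm_num
  have hsum : g • v = Spor.leechU + b := by rw [hbdef, hg, add_sub_cancel]
  have hd8 : dotInt (Spor.leechU : GolayPt → ℤ) (b : GolayPt → ℤ) = -8 := by
    have h2 := hgv
    rw [hsum, AddSubgroup.coe_add, sqNorm_add, hU32, hb] at h2
    omega
  obtain ⟨k, p, hk⟩ := (hsum ▸ goodFive hb hd8 : GoodFive (g • v))
  exact SameOrbit.trans' ⟨k * g, mul_smul k g v⟩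
    (five_orbit (by rw [sqNorm_smul, hgv]) hk)

theorem middle_transitive {v w : leechLattice} (hv : sqNorm (v : GolayPt → ℤ) = 48)
    (hw : sqNorm (w : GolayPt → ℤ) = 48) : ∃ g : Co0, g • v = w :=
  (middle_orbit hv).trans' (middle_orbit hw).symm'

end CfsgLib.Leech
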