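/-
The monomial subgroup as the stabiliser of the standard frame, and the orders of the automorphism
group and of the stabilisers of vectors of squared lengths 32 and 48.
-/
import Cfsg.Agent.Leech.Middle

set_option autoImplicit false
set_option linter.constructorNameAsVariable false

namespace CfsgLib.Leech

open Cfsg CfsgLib.Golay
open scoped Pointwise

attribute [local irreducible] shortVecs halfTable quarterTable codeFinset

theorem eightAt_mem_shortVecs (q : GolayPt) : (eightAt q : GolayPt → ℤ) ∈ shortVecs 16 :=
  (mem_shortVecs (Or.inr (Or.inr rfl)) _).mpr ⟨(eightAt q).2, by rw [sqNorm_eightAt]; norm_num⟩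

theorem mem_shortVecs_smul (g : Co0) {v : leechLattice}
    (hv : (v : GolayPt → ℤ) ∈ shortVecs 16) : ((g • v : leechLattice) : GolayPt → ℤ) ∈ shortVecs 16 := by
  rw [mem_shortVecs (Or.inr (Or.inr rfl))] at hv ⊢
  exact ⟨(g • v : leechLattice).2, by rw [sqNorm_smul]; exact hv.2⟩

/-- An automorphism is determined by the images of the eights, shortest-list valued. -/
def frameImage (g : Co0) : GolayPt → ↥(shortVecs 16) :=
  fun q => ⟨_, mem_shortVecs_smul g (eightAt_mem_shortVecs q)⟩

theorem frameImage_injective : Function.Injective frameImage := fun g h e =>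
  eq_of_mat_eq fun p q => congrFun (Subtype.ext_iff.mp (congrFun e q)) p

instance finite_Co0 : Finite Co0 := Finite.of_injective _ frameImage_injective

theorem cls_eightAt (q : GolayPt) :
    cls (eightAt q : GolayPt → ℤ) = cls (eightAt none : GolayPt → ℤ) := by
  rw [cls_eq_iff]
  refine ⟨fun p => 4 * ((if p = q then 1 else 0) - (if p = none then 1 else 0)), ?_,
    funext fun p => ?_⟩
  · rw [four_mul_mem_iff, Finset.sum_sub_distrib]
    simp
  · simp only [Pi.sub_apply, eightAt_apply, Pi.smul_apply, nsmul_eq_mul, Nat.cast_ofNat]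
    split_ifs <;> ring

/-- The 48 signed eights. -/
def signedEights : Finset (GolayPt → ℤ) :=
  (Finset.univ : Finset (GolayPt × Bool)).image fun qb =>
    if qb.2 then (eightAt qb.1 : GolayPt → ℤ) else -(eightAt qb.1 : GolayPt → ℤ)

theorem card_signedEights : signedEights.card = 48 := by
  rw [signedEights, Finset.card_image_of_injective, Finset.card_univ, Fintype.card_prod,
    card_golayPt, Fintype.card_bool]
  rintro ⟨q, b⟩ ⟨q', b'⟩ h
  have h1 := congrFun h q
  by_cases hq : q = q'
  · subst hq
    cases b <;> cases b' <;>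
      simp only [if_true, Bool.false_eq_true, if_false, Pi.neg_apply, eightAt_apply] at h1 <;>
      first | rfl | omega
  · cases b <;> cases b' <;>
      simp only [if_true, Bool.false_eq_true, if_false, Pi.neg_apply, eightAt_apply, hq] at h1 <;>
      omega

theorem mem_signedEights {x : GolayPt → ℤ} :
    x ∈ signedEights ↔ ∃ q, x = (eightAt q : GolayPt → ℤ) ∨ x = -(eightAt q : GolayPt → ℤ) := by
  simp only [signedEights, Finset.mem_image, Finset.mem_univ, true_and]
  constructor
  · rintro ⟨⟨q, b⟩, rfl⟩
    cases b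
    exacts [⟨q, Or.inr rfl⟩, ⟨q, Or.inl rfl⟩]
  · rintro ⟨q, rfl | rfl⟩
    exacts [⟨(q, true), rfl⟩, ⟨(q, false), rfl⟩]

theorem cls_neg {x : GolayPt → ℤ} (hx : x ∈ leechLattice) : cls (-x) = cls x := by
  rw [cls_eq_iff]
  exact ⟨-x, leechLattice.neg_mem hx, funext fun i => by simp; ring⟩

/-- The standard class contains only the signed eights among vectors of squared length 64. -/
theorem frame_class_eq :
    ((shortVecs 16).filter fun x => cls x = cls (eightAt none : GolayPt → ℤ)) = signedEights := by
  refine (Finset.eq_of_subset_of_card_le (fun x hx => ?_) ?_).symm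
  · rw [Finset.mem_filter]
    obtain ⟨q, rfl | rfl⟩ := mem_signedEights.mp hx
    · exact ⟨eightAt_mem_shortVecs q, cls_eightAt q⟩
    · refine ⟨?_, (cls_neg (eightAt q).2).trans (cls_eightAt q)⟩
      have h := mem_shortVecs_smul negAut (eightAt_mem_shortVecs q)
      rwa [negAut_smul] at h
  · rw [card_frame_class (eightAt_mem_shortVecs none), card_signedEights]

theorem cls_smul (g : Co0) {v w : leechLattice}
    (h : cls (v : GolayPt → ℤ) = cls (w : GolayPt → ℤ)) :
    cls ((g • v : leechLattice) : GolayPt → ℤ) = cls ((g • w : leechLattice) : GolayPt → ℤ) := by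
  rw [cls_eq_iff] at h ⊢
  obtain ⟨z, hz, he⟩ := h
  refine ⟨((g • ⟨z, hz⟩ : leechLattice) : GolayPt → ℤ), (g • ⟨z, hz⟩ : leechLattice).2, ?_⟩
  have h2 : v - w = ⟨z, hz⟩ + ⟨z, hz⟩ := Subtype.ext (by
    rw [AddSubgroup.coe_sub, he, two_nsmul]; rfl)
  rw [two_nsmul, ← AddSubgroup.coe_sub, ← smul_sub', h2, smul_add', AddSubgroup.coe_add]

/-- The monomial automorphism given by a code word and a permutation. -/
def monoAut (x : golayCode × M24) : Co0 := signAut x.1 * permHom x.2

theorem monoAut_eightAt (x : golayCode × M24) (q : GolayPt) :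
    ((monoAut x • eightAt q : leechLattice) : GolayPt → ℤ) =
      flipSign (x.1 : GolayPt → ZMod 2) (eightAt ((x.2 : Equiv.Perm GolayPt) q)) := by
  rw [monoAut, mul_smul, permHom_eightAt, signAut_apply]

theorem monoAut_injective : Function.Injective monoAut := by
  rintro ⟨w, σ⟩ ⟨w', σ'⟩ h
  have hq : ∀ q, flipSign (w : GolayPt → ZMod 2) (eightAt ((σ : Equiv.Perm GolayPt) q)) =
      flipSign (w' : GolayPt → ZMod 2) (eightAt ((σ' : Equiv.Perm GolayPt) q)) := fun q => by
    have := congrArg (fun g : Co0 => ((g • eightAt q : leechLattice) : GolayPt → ℤ)) h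
    simp only [monoAut_eightAt] at this
    exact this
  have hσ : σ = σ' := by
    refine Subtype.ext (Equiv.ext fun q => ?_)
    by_contra hne
    have := congrFun (hq q) ((σ : Equiv.Perm GolayPt) q)
    simp only [flipSign, eightAt_apply, hne, if_false, if_true] at this
    split_ifs at this <;> omega
  subst hσ
  refine Prod.ext (Subtype.ext (funext fun p => ?_)) rfl
  have := congrFun (hq ((σ : Equiv.Perm GolayPt).symm p)) p
  simp only [flipSign, Equiv.apply_symm_apply, eightAt_apply, if_true] at this
  rcases eq_zero_or_one ((w : GolayPt → ZMod 2) p) with e | e <;>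
    rcases eq_zero_or_one ((w' : GolayPt → ZMod 2) p) with e' | e' <;> simp_all

/-- An automorphism preserving the standard class is monomial. -/
theorem exists_monoAut {g : Co0}
    (hg : cls ((g • eightAt none : leechLattice) : GolayPt → ℤ) =
      cls (eightAt none : GolayPt → ℤ)) :
    ∃ x, monoAut x = g := by
  have himg : ∀ q, ∃ r, ((g • eightAt q : leechLattice) : GolayPt → ℤ) = eightAt r ∨
      ((g • eightAt q : leechLattice) : GolayPt → ℤ) = -(eightAt r : GolayPt → ℤ) := fun q => by
    rw [← mem_signedEights, ← frame_class_eq, Finset.mem_filter]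
    exact ⟨mem_shortVecs_smul g (eightAt_mem_shortVecs q),
      (cls_smul g (cls_eightAt q)).trans hg⟩
  choose π hπ using himg
  have hπinj : Function.Injective π := by
    intro a b hab
    by_contra hne
    have hdot := dot_smul' g (eightAt a) (eightAt b)
    have h0 : dotInt (eightAt a : GolayPt → ℤ) (eightAt b : GolayPt → ℤ) = 0 := by
      refine Finset.sum_eq_zero fun p _ => ?_
      simp only [eightAt_apply]
      split_ifs with h1 h2 <;> simp_all
    have hrr : ∀ r, dotInt (eightAt r : GolayPt → ℤ) (eightAt r : GolayPt → ℤ) = 64 := fun r => by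
      rw [← sqNorm_eightAt r]; exact Finset.sum_congr rfl fun p _ => (sq _).symm
    have hneg : ∀ x y : GolayPt → ℤ, dotInt (-x) y = -dotInt x y ∧ dotInt x (-y) = -dotInt x y :=
      fun x y => ⟨by simp [dotInt], by simp [dotInt]⟩
    rw [h0] at hdot
    rcases hπ a with e | e <;> rcases hπ b with e' | e' <;>
      rw [e, e', hab] at hdot <;> simp only [hneg, hrr, neg_neg] at hdot <;> omega
  let ρ : Equiv.Perm GolayPt := Equiv.ofBijective π (Finite.injective_iff_bijective.mp hπinj)
  have hρ : ∀ q, ρ q = π q := fun q => rfl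
  let ε : GolayPt → ℤ := fun p => mat g p (ρ.symm p) / 8
  have hε : ∀ p, ε p = 1 ∨ ε p = -1 := fun p => by
    simp only [ε, mat]
    have hp : π (ρ.symm p) = p := (hρ _).symm.trans (ρ.apply_symm_apply p)
    rcases hπ (ρ.symm p) with e | e <;> rw [e, hp] <;> simp [eightAt_apply]
  have hact : ∀ (v : leechLattice) (p : GolayPt),
      ((g • v : leechLattice) : GolayPt → ℤ) p = ε p * (v : GolayPt → ℤ) (ρ.symm p) := by
    intro v p
    have h1 := mat_mul_vec g v p
    rw [Finset.sum_eq_single (ρ.symm p) (fun q _ hq => ?_) (by simp)] at h1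
    · have h8 : mat g p (ρ.symm p) = 8 * ε p := by
        have hp : π (ρ.symm p) = p := (hρ _).symm.trans (ρ.apply_symm_apply p)
        simp only [ε, mat]
        rcases hπ (ρ.symm p) with e | e <;> rw [e, hp] <;> simp [eightAt_apply]
      rw [h8, mul_assoc] at h1
      exact mul_left_cancel₀ (by norm_num) h1
    · have hne : π q ≠ p := fun e => hq (by
        rw [Equiv.eq_symm_apply, hρ]; exact e)
      simp only [mat]
      rcases hπ q with e | e <;> rw [e] <;> simp [eightAt_apply, Ne.symm hne]
  have hcode : ∀ w ∈ golayCode, (fun p => w (ρ.symm p)) ∈ golayCode := by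
    intro w hw
    obtain ⟨c, -, rfl⟩ := (mem_code_iff w).mp hw
    have h := (mem_leech (g • (⟨twoVec (word c), twoVec_mem_of (vec_word_mem c)⟩ :
      leechLattice)).2).code
    convert h using 1
    funext p
    simp only [hi, hact, twoVec, vec]
    rcases hε p with e | e <;> rw [e] <;> split <;> decide
  have hρmem : ρ ∈ M24 := by
    show ρ • supports (golayCode : Set (GolayPt → ZMod 2)) = _
    refine Set.eq_of_subset_of_ncard_le ?_ ?_ (Set.toFinite _)
    · rintro _ ⟨s, ⟨w, hw, rfl⟩, rfl⟩
      refine ⟨_, hcode w hw, ?_⟩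
      ext q
      show q ∈ support₂ _ ↔ q ∈ ρ • support₂ w
      rw [Finset.mem_smul_finset]
      simp only [support₂, Finset.mem_filter, Finset.mem_univ, true_and]
      constructor
      · intro hq; exact ⟨ρ.symm q, hq, by simp⟩
      · rintro ⟨p, hp, rfl⟩; simpa using hp
    · rw [Set.ncard_smul_set]
  set W : GolayPt → ZMod 2 := fun p => if ε p = -1 then 1 else 0 with hW
  have hWmem : W ∈ golayCode := by
    have h := (mem_leech (g • (⟨stdC none, stdC_mem none⟩ : leechLattice)).2).code
    convert h using 1
    funext p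
    simp only [hi, hact, stdC, hW]
    rcases hε p with e | e <;> simp only [e] <;> split_ifs <;> first | contradiction | decide | omega
  refine ⟨(⟨W, hWmem⟩, ⟨ρ, hρmem⟩), ext_co0 fun v => Subtype.ext (funext fun p => ?_)⟩
  rw [monoAut, mul_smul, signAut_apply]
  show flipSign W _ p = _
  simp only [flipSign, permHom_apply, hact, hW, Equiv.Perm.inv_def]
  rcases hε p with e | e <;> simp [e]

theorem cls_monoAut (x : golayCode × M24) :
    cls ((monoAut x • eightAt none : leechLattice) : GolayPt → ℤ) =
      cls (eightAt none : GolayPt → ℤ) := by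
  set r := (x.2 : Equiv.Perm GolayPt) none with hr
  have : ((monoAut x • eightAt none : leechLattice) : GolayPt → ℤ) = eightAt r ∨
      ((monoAut x • eightAt none : leechLattice) : GolayPt → ℤ) = -(eightAt r : GolayPt → ℤ) := by
    rw [monoAut_eightAt, ← hr]
    rcases eq_zero_or_one ((x.1 : GolayPt → ZMod 2) r) with e | e
    · left; funext p
      simp only [flipSign, eightAt_apply]
      by_cases hp : p = r
      · subst hp; simp [e]
      · simp [hp]
    · right; funext p
      simp only [flipSign, eightAt_apply, Pi.neg_apply]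
      by_cases hp : p = r
      · subst hp; simp [e]
      · simp [hp]
  rcases this with e | e <;> rw [e]
  exacts [cls_eightAt r, (cls_neg (eightAt r).2).trans (cls_eightAt r)]

/-- The stabiliser of the standard class. -/
def monoGroup : Subgroup Co0 where
  carrier := {g | cls ((g • eightAt none : leechLattice) : GolayPt → ℤ) =
    cls (eightAt none : GolayPt → ℤ)}
  one_mem' := by simp
  mul_mem' {a b} ha hb := by
    simp only [Set.mem_ofPred_eq] at ha hb ⊢
    rw [mul_smul]
    exact (cls_smul a hb).trans ha
  inv_mem' {a} ha := by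
    simp only [Set.mem_ofPred_eq] at ha ⊢
    have := cls_smul a⁻¹ ha
    rw [inv_smul_smul] at this
    exact this.symm

theorem mem_monoGroup_iff (g : Co0) : g ∈ monoGroup ↔ ∃ x, monoAut x = g :=
  ⟨exists_monoAut, fun ⟨x, hx⟩ => hx ▸ cls_monoAut x⟩

theorem card_monoGroup : Nat.card monoGroup = 4096 * 244823040 := by
  have h : (monoGroup : Set Co0) = Set.range monoAut := Set.ext mem_monoGroup_iff
  rw [show Nat.card monoGroup = Nat.card (monoGroup : Set Co0) from rfl, h,
    Nat.card_range_of_injective monoAut_injective, Nat.card_prod, card_M24]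
  have := card_code
  rw [show Nat.card codeAdd = Nat.card golayCode from rfl] at this
  rw [this]
  norm_num

theorem index_monoGroup : monoGroup.index = 8292375 := by
  classical
  let f : Co0 → (GolayPt → ℤ) ⧸ twoLeech :=
    fun g => cls ((g • eightAt none : leechLattice) : GolayPt → ℤ)
  have hf : ∀ a b : Co0, f a = f b ↔ a⁻¹ * b ∈ monoGroup := by
    intro a b
    constructor
    · intro h
      have h2 := cls_smul a⁻¹ h
      rw [inv_smul_smul, ← mul_smul] at h2
      exact h2.symm
    · intro h
      have h2 := cls_smul a (show cls (((a⁻¹ * b) • eightAt none : leechLattice) : GolayPt → ℤ) =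
        cls (eightAt none : GolayPt → ℤ) from h)
      rw [← mul_smul, mul_inv_cancel_left] at h2
      exact h2.symm
  let F : Co0 ⧸ monoGroup → ↥((shortVecs 16).image cls) := Quotient.lift
    (fun g => ⟨f g, Finset.mem_image_of_mem cls (mem_shortVecs_smul g (eightAt_mem_shortVecs none))⟩)
    fun a b hab => Subtype.ext ((hf a b).mpr (QuotientGroup.leftRel_apply.mp hab))
  have hbij : Function.Bijective F := by
    constructor
    · rintro ⟨a⟩ ⟨b⟩ h
      exact Quotient.sound (QuotientGroup.leftRel_apply.mpr ((hf a b).mp (Subtype.ext_iff.mp h)))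
    · rintro ⟨q, hq⟩
      obtain ⟨x, hx, rfl⟩ := Finset.mem_image.mp hq
      obtain ⟨hxL, hxn⟩ := norm_of_mem_shortVecs (Or.inr (Or.inr rfl)) hx
      obtain ⟨g, hg⟩ := frame_transitive (v := eightAt none) (w := ⟨x, hxL⟩) (sqNorm_eightAt none)
        (by simpa using hxn)
      exact ⟨Quotient.mk'' g, Subtype.ext (by
        show cls ((g • eightAt none : leechLattice) : GolayPt → ℤ) = cls x
        rw [hg])⟩
  rw [Subgroup.index, Nat.card_eq_of_bijective F hbij, Nat.card_eq_finsetCard, card_frame_classes]

theorem card_Co0 : Nat.card Co0 = 8315553613086720000 := by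
  rw [← Subgroup.card_mul_index monoGroup, card_monoGroup, index_monoGroup]

theorem ncard_orbit_of {n : ℕ} {v : leechLattice} {k : ℤ} (hv : sqNorm (v : GolayPt → ℤ) = k)
    (htr : ∀ w : leechLattice, sqNorm (w : GolayPt → ℤ) = k → ∃ g : Co0, g • v = w)
    (hn : {x : GolayPt → ℤ | x ∈ leechLattice ∧ sqNorm x = k}.ncard = n) :
    Nat.card (MulAction.stabilizer Co0 v) * n = Nat.card Co0 := by
  have h : (MulAction.orbit Co0 v).ncard = n := by
    rw [← hn, ← Set.ncard_image_of_injective _ Subtype.val_injective]
    congr 1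
    ext x
    constructor
    · rintro ⟨w, ⟨g, rfl⟩, rfl⟩
      exact ⟨(g • v : leechLattice).2, (sqNorm_smul g v).trans hv⟩
    · rintro ⟨hx, hxn⟩
      obtain ⟨g, hg⟩ := htr ⟨x, hx⟩ hxn
      exact ⟨⟨x, hx⟩, ⟨g, hg⟩, rfl⟩
  rw [← h, ← MulAction.index_stabilizer, Subgroup.card_mul_index]

theorem card_stabilizer_32 {v : leechLattice} (hv : sqNorm (v : GolayPt → ℤ) = 32) :
    Nat.card (MulAction.stabilizer Co0 v) = 42305421312000 := by
  have h := ncard_orbit_of hv (fun w hw => min_transitive hv hw) ncard_norm_32
  rw [card_Co0] at h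
  exact Nat.eq_of_mul_eq_mul_right (by norm_num : 0 < 196560) (h.trans (by norm_num))

theorem card_stabilizer_48 {v : leechLattice} (hv : sqNorm (v : GolayPt → ℤ) = 48) :
    Nat.card (MulAction.stabilizer Co0 v) = 495766656000 := by
  have h := ncard_orbit_of hv (fun w hw => middle_transitive hv hw) ncard_norm_48
  rw [card_Co0] at h
  exact Nat.eq_of_mul_eq_mul_right (by norm_num : 0 < 16773120) (h.trans (by norm_num))

end CfsgLib.Leech
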