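/-
The element of order 23 coming from the translation: its fixed vectors, its centraliser and the
group it normalises lie in the monomial group.
-/
import Cfsg.Agent.Leech.Order

set_option autoImplicit false
set_option linter.constructorNameAsVariable false

namespace CfsgLib.Leech

open Cfsg CfsgLib.Golay

attribute [local irreducible] shortVecs halfTable quarterTable codeFinset

theorem permHom_mul_signAut (σ : M24) (w : golayCode) :
    permHom σ * signAut w = signAut ⟨fun i => (w : GolayPt → ZMod 2)
      ((σ : Equiv.Perm GolayPt)⁻¹ i), M24_code (inv_mem σ.2) w.2⟩ * permHom σ :=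
  ext_co0 fun v => Subtype.ext (funext fun i => by
    rw [mul_smul, mul_smul, permHom_apply, signAut_apply, signAut_apply]
    simp only [flipSign, permHom_apply])

theorem signAut_mul (w w' : golayCode) : signAut w * signAut w' = signAut (w + w') :=
  ext_co0 fun v => Subtype.ext (funext fun i => by
    rw [mul_smul, signAut_apply, signAut_apply, signAut_apply]
    simp only [flipSign, Submodule.coe_add, Pi.add_apply]
    rcases eq_zero_or_one ((w : GolayPt → ZMod 2) i) with e | e <;>
      rcases eq_zero_or_one ((w' : GolayPt → ZMod 2) i) with e' | e' <;> simp [e, e'])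

theorem signAut_zero : signAut 0 = 1 :=
  ext_co0 fun v => Subtype.ext (funext fun i => by simp [signAut_apply, flipSign])

theorem signAut_inv (w : golayCode) : (signAut w)⁻¹ = signAut w :=
  inv_eq_of_mul_eq_one_right (by rw [signAut_mul, ← two_nsmul]; rw [← signAut_zero]; congr 1
                                 refine Subtype.ext (funext fun i => ?_)
                                 simp [show (2 : ZMod 2) = 0 from rfl])

theorem signAut_one : signAut oneWord = negAut :=
  ext_co0 fun v => Subtype.ext (funext fun i => by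
    rw [signAut_apply, negAut_smul]
    simp [flipSign, oneWord])

theorem monoAut_mul (x y : golayCode × M24) :
    monoAut x * monoAut y = monoAut (x.1 + ⟨fun i => (y.1 : GolayPt → ZMod 2)
      ((x.2 : Equiv.Perm GolayPt)⁻¹ i), M24_code (inv_mem x.2.2) y.1.2⟩, x.2 * y.2) := by
  simp only [monoAut, map_mul, ← signAut_mul]
  rw [mul_assoc, ← mul_assoc (permHom x.2), permHom_mul_signAut]
  simp only [mul_assoc]

theorem permHom_eq_monoAut (σ : M24) : permHom σ = monoAut (0, σ) := by
  rw [monoAut, signAut_zero, one_mul]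

theorem signAut_eq_monoAut (w : golayCode) : signAut w = monoAut (w, 1) := by
  rw [monoAut, map_one, mul_one]

theorem permHom_injective : Function.Injective permHom := fun a b h => by
  rw [permHom_eq_monoAut, permHom_eq_monoAut] at h
  exact (Prod.mk.injEq _ _ _ _ ▸ monoAut_injective h).2

theorem permHom_mem (σ : M24) : permHom σ ∈ monoGroup :=
  (mem_monoGroup_iff _).mpr ⟨_, (permHom_eq_monoAut σ).symm⟩

theorem signAut_mem (w : golayCode) : signAut w ∈ monoGroup :=
  (mem_monoGroup_iff _).mpr ⟨_, (signAut_eq_monoAut w).symm⟩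

/-- The translation in the group of the code. -/
def trans23 : M24 :=
  ⟨Equiv.optionCongr (Equiv.addRight (1 : ZMod 23)), translation_mem⟩

/-- The translation as an automorphism of the lattice. -/
def tAut : Co0 := permHom trans23

theorem trans23_apply : ((trans23 : Equiv.Perm GolayPt) none = none) ∧
    ∀ k, (trans23 : Equiv.Perm GolayPt) (some k) = some (k + 1) := ⟨rfl, fun _ => rfl⟩

theorem trans23_pow (n : ℕ) : ((trans23 ^ n : M24) : Equiv.Perm GolayPt) none = none ∧
    ∀ k, ((trans23 ^ n : M24) : Equiv.Perm GolayPt) (some k) = some (k + n) := by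
  induction n with
  | zero => simp
  | succ n ih =>
    rw [pow_succ']
    constructor
    · rw [Subgroup.coe_mul, Equiv.Perm.mul_apply, ih.1, trans23_apply.1]
    · intro k
      simp only [Subgroup.coe_mul, Equiv.Perm.mul_apply, ih.2, trans23_apply.2, Nat.cast_succ,
        add_assoc]

theorem orderOf_tAut : orderOf tAut = 23 := by
  haveI : Fact (Nat.Prime 23) := ⟨by norm_num⟩
  rw [tAut, orderOf_injective permHom permHom_injective]
  refine orderOf_eq_prime (Subtype.ext (Equiv.ext fun p => ?_)) fun h => ?_
  · rcases p with _ | k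
    · exact (trans23_pow 23).1
    · rw [(trans23_pow 23).2]
      simp only [CharP.cast_eq_zero, add_zero, OneMemClass.coe_one, Equiv.Perm.one_apply]
  · have := congrArg (fun s : M24 => (s : Equiv.Perm GolayPt) (some 0)) h
    simp [trans23_apply.2] at this

theorem not_sq_dvd_card : ¬ 23 ^ 2 ∣ Nat.card Co0 := by rw [card_Co0]; norm_num

/-- A vector fixed by the translation is constant away from the extra point. -/
theorem fixed_const {v : leechLattice} (h : tAut • v = v) (k : ZMod 23) :
    (v : GolayPt → ℤ) (some k) = (v : GolayPt → ℤ) (some 0) := by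
  have hn : ∀ n : ℕ, (v : GolayPt → ℤ) (some (n : ZMod 23)) = (v : GolayPt → ℤ) (some 0) := by
    intro n
    induction n with
    | zero => simp
    | succ n ih =>
      have h1 : ((tAut • v : leechLattice) : GolayPt → ℤ) (some ((n : ℕ) + 1 : ZMod 23)) =
          (v : GolayPt → ℤ) (some ((n : ℕ) + 1 : ZMod 23)) := by rw [h]
      rw [tAut, permHom_apply, Equiv.Perm.inv_def,
        (Equiv.symm_apply_eq _).mpr (trans23_apply.2 (n : ZMod 23)).symm, ih] at h1
      rw [Nat.cast_succ]
      exact h1.symm
  have := hn k.val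
  rwa [ZMod.natCast_zmod_val] at this

/-- A class of squared length 64 fixed by the translation is the standard one. -/
theorem fixed_class {v : GolayPt → ℤ} (hv : v ∈ shortVecs 16)
    (hfix : cls ((tAut • (⟨v, ((mem_shortVecs (Or.inr (Or.inr rfl)) v).mp hv).1⟩ : leechLattice) :
      leechLattice) : GolayPt → ℤ) = cls v) :
    cls v = cls (eightAt none : GolayPt → ℤ) := by
  classical
  haveI : Fact (Nat.Prime 23) := ⟨by norm_num⟩
  set F := (shortVecs 16).filter fun x => cls x = cls v with hF
  have hL : ∀ x ∈ F, x ∈ leechLattice := fun x hx =>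
    ((mem_shortVecs (Or.inr (Or.inr rfl)) x).mp (Finset.mem_filter.mp hx).1).1
  have hvL : v ∈ leechLattice := ((mem_shortVecs (Or.inr (Or.inr rfl)) v).mp hv).1
  have hmap : ∀ x : F, ((tAut • (⟨x, hL x x.2⟩ : leechLattice) : leechLattice) : GolayPt → ℤ) ∈ F :=
    fun x => by
      have hx := Finset.mem_filter.mp x.2
      refine Finset.mem_filter.mpr ⟨mem_shortVecs_smul tAut (v := (⟨x, hL x x.2⟩ : leechLattice)) hx.1, ?_⟩
      exact Eq.trans (cls_smul tAut (v := (⟨x, hL x x.2⟩ : leechLattice)) (w := (⟨v, hvL⟩ : leechLattice)) hx.2) hfix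
  let f : F → F := fun x => ⟨_, hmap x⟩
  have hf : Function.Injective f := fun x y hxy => by
    have h1 := Subtype.ext_iff.mp hxy
    have h2 : (⟨x, hL x x.2⟩ : leechLattice) = ⟨y, hL y y.2⟩ :=
      MulAction.injective tAut (Subtype.ext h1)
    exact Subtype.ext (congrArg (fun z : leechLattice => (z : GolayPt → ℤ)) h2)
  let π : Equiv.Perm F := Equiv.ofBijective f (Finite.injective_iff_bijective.mp hf)
  have hpow : ∀ (n : ℕ) (x : F), (((π ^ n) x : F) : GolayPt → ℤ) =
      ((tAut ^ n • (⟨x, hL x x.2⟩ : leechLattice) : leechLattice) : GolayPt → ℤ) := by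
    intro n
    induction n with
    | zero => intro x; simp
    | succ n ih =>
      intro x
      rw [pow_succ', Equiv.Perm.mul_apply, pow_succ', mul_smul]
      show ((tAut • (⟨((π ^ n) x : F), hL _ ((π ^ n) x).2⟩ : leechLattice) : leechLattice) : GolayPt → ℤ) = _
      congr 2
      exact Subtype.ext (ih x)
  have h23 : π ^ 23 ^ 1 = 1 := Equiv.ext fun x => Subtype.ext (by
    rw [hpow, pow_one, ← orderOf_tAut, pow_orderOf_eq_one, one_smul]; rfl)
  obtain ⟨a, ha⟩ := Equiv.Perm.exists_fixed_point_of_prime (p := 23) (σ := π) (n := 1)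
    (by rw [Fintype.card_coe, card_frame_class hv]; norm_num) h23
  have hafix : tAut • (⟨a, hL a a.2⟩ : leechLattice) = ⟨a, hL a a.2⟩ :=
    Subtype.ext (congrArg (fun z : F => (z : GolayPt → ℤ)) ha)
  have ha' := Finset.mem_filter.mp a.2
  have hnorm := (norm_of_mem_shortVecs (Or.inr (Or.inr rfl)) ha'.1).2
  norm_num at hnorm
  rw [← ha'.2]
  set b := (a : GolayPt → ℤ) (some 0) with hb
  have hexp : (a : GolayPt → ℤ) none ^ 2 + 23 * b ^ 2 = 64 := by
    rw [← hnorm, sqNorm, Fintype.sum_option, Finset.sum_congr rfl (g := fun _ => b ^ 2)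
      fun k _ => by rw [hb]; exact congrArg (· ^ 2) (fixed_const hafix k)]
    simp
  have hb0 : b = 0 := by
    by_contra hne
    have h1 : b ≤ 1 := by nlinarith
    have h2 : -1 ≤ b := by nlinarith
    have hb1 : b = 1 ∨ b = -1 := by omega
    have h41 : (a : GolayPt → ℤ) none ^ 2 = 41 := by
      rcases hb1 with e | e <;> rw [e] at hexp <;> linarith
    have h6 : (a : GolayPt → ℤ) none < 7 := by nlinarith
    have h7 : -7 < (a : GolayPt → ℤ) none := by nlinarith
    interval_cases (a : GolayPt → ℤ) none <;> norm_num at h41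
  rw [hb0] at hexp
  have hmem : (a : GolayPt → ℤ) ∈ signedEights := by
    rw [mem_signedEights]
    refine ⟨none, (sq_eq_iff_abs (t := (a : GolayPt → ℤ) none) (a := 8) (by linarith)).imp ?_ ?_⟩ <;>
      intro e <;> funext p <;> rcases p with _ | k
    · simp [eightAt_apply, e]
    · simp [eightAt_apply]
      exact (fixed_const hafix k).trans hb0
    · simp [eightAt_apply, e]
    · simp [eightAt_apply]
      exact (fixed_const hafix k).trans hb0
  rw [← frame_class_eq] at hmem
  exact (Finset.mem_filter.mp hmem).2

theorem smul_class_eq_of_conj {g : Co0} {k : ℕ} (h : g * tAut * g⁻¹ = tAut ^ k) :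
    g⁻¹ ∈ monoGroup := by
  have hk : (tAut ^ k) ∈ monoGroup := monoGroup.pow_mem (permHom_mem _) k
  have hfix : cls (((tAut * g⁻¹) • eightAt none : leechLattice) : GolayPt → ℤ) =
      cls ((g⁻¹ • eightAt none : leechLattice) : GolayPt → ℤ) := by
    rw [show tAut * g⁻¹ = g⁻¹ * tAut ^ k by rw [← h]; group, mul_smul]
    exact cls_smul g⁻¹ (w := eightAt none) hk
  rw [mul_smul] at hfix
  exact fixed_class (mem_shortVecs_smul g⁻¹ (eightAt_mem_shortVecs none)) hfix

theorem mem_monoGroup_of_conj {g : Co0} {k : ℕ} (h : g * tAut * g⁻¹ = tAut ^ k) :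
    g ∈ monoGroup := inv_mem_iff.mp (smul_class_eq_of_conj h)

/-- The centraliser of the translation: a power of it up to sign. -/
theorem commute_tAut {g : Co0} (h : tAut * g * tAut⁻¹ = g) :
    ∃ n : ℕ, g = tAut ^ n ∨ g = negAut * tAut ^ n := by
  have hc : tAut * g = g * tAut := by conv_rhs => rw [← h]
                                      group
  obtain ⟨⟨w, σ⟩, rfl⟩ := (mem_monoGroup_iff g).mp (mem_monoGroup_of_conj (k := 1)
    (by rw [pow_one, ← hc]; group))
  rw [tAut, permHom_eq_monoAut, monoAut_mul, monoAut_mul] at hc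
  have hc' := monoAut_injective hc
  simp only [Prod.mk.injEq] at hc'
  obtain ⟨hw, hσ⟩ := hc'
  have hσn : (σ : Equiv.Perm GolayPt) none = none := by
    have h1 := congrArg (fun s : M24 => (s : Equiv.Perm GolayPt) none) hσ
    simp only [Subgroup.coe_mul, Equiv.Perm.mul_apply, trans23_apply.1] at h1
    rcases hx : (σ : Equiv.Perm GolayPt) none with _ | k
    · rfl
    · rw [hx, trans23_apply.2] at h1
      simp at h1
      exact absurd h1 (by decide)
  obtain ⟨c, hc0⟩ : ∃ c, (σ : Equiv.Perm GolayPt) (some 0) = some c := by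
    rcases hx : (σ : Equiv.Perm GolayPt) (some 0) with _ | k
    · exact absurd ((σ : Equiv.Perm GolayPt).injective (hx.trans hσn.symm)) (by simp)
    · exact ⟨k, rfl⟩
  have hσpow : σ = trans23 ^ c.val := by
    refine Subtype.ext (Equiv.ext fun p => ?_)
    rcases p with _ | k
    · rw [hσn, (trans23_pow _).1]
    rw [(trans23_pow _).2, ZMod.natCast_zmod_val]
    have hn : ∀ n : ℕ, (σ : Equiv.Perm GolayPt) (some (n : ZMod 23)) = some ((n : ZMod 23) + c) := by
      intro n
      induction n with
      | zero => simp [hc0]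
      | succ n ih =>
        have h1 := congrArg (fun s : M24 => (s : Equiv.Perm GolayPt) (some (n : ZMod 23))) hσ
        simp only [Subgroup.coe_mul, Equiv.Perm.mul_apply, trans23_apply.2, ih] at h1
        rw [Nat.cast_succ, ← h1, add_right_comm]
    have := hn k.val
    rwa [ZMod.natCast_zmod_val] at this
  have hw2 : (fun i => (w : GolayPt → ZMod 2) ((trans23 : Equiv.Perm GolayPt)⁻¹ i)) =
      (w : GolayPt → ZMod 2) := by
    have := congrArg Subtype.val hw
    funext i
    simpa using congrFun this i
  have hwc : ∀ n : ℕ, (w : GolayPt → ZMod 2) (some (n : ZMod 23)) =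
      (w : GolayPt → ZMod 2) (some 0) := by
    intro n
    induction n with
    | zero => simp
    | succ n ih =>
      have h1 := congrFun hw2 (some ((n : ZMod 23) + 1))
      rw [Equiv.Perm.inv_def, (Equiv.symm_apply_eq _).mpr (trans23_apply.2 (n : ZMod 23)).symm,
        ih] at h1
      rw [Nat.cast_succ, ← h1]
  have hwk : ∀ k, (w : GolayPt → ZMod 2) (some k) = (w : GolayPt → ZMod 2) (some 0) := fun k => by
    have := hwc k.val
    rwa [ZMod.natCast_zmod_val] at this
  -- a code word constant away from the extra point is zero or the all-ones word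
  have hw01 : w = 0 ∨ w = oneWord := by
    have hnorm := hammingNorm_mem _ w.2
    rw [hammingNorm, Finset.card_filter, Fintype.sum_option,
      Finset.sum_congr rfl (g := fun _ => if (w : GolayPt → ZMod 2) (some 0) ≠ 0 then 1 else 0)
        fun k _ => by rw [hwk k], Finset.sum_const, Finset.card_univ, ZMod.card, smul_eq_mul] at hnorm
    rcases eq_zero_or_one ((w : GolayPt → ZMod 2) (some 0)) with e | e <;>
      rcases eq_zero_or_one ((w : GolayPt → ZMod 2) none) with e' | e'
    · left; refine Subtype.ext (funext fun p => ?_)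
      rcases p with _ | k <;> simp [e', hwk, e]
    · simp [e, e'] at hnorm
    · simp [e, e'] at hnorm
    · right; refine Subtype.ext (funext fun p => ?_)
      rcases p with _ | k <;> simp [e', hwk, e, oneWord]
  refine ⟨c.val, ?_⟩
  rcases hw01 with rfl | rfl
  · left; rw [monoAut, signAut_zero, one_mul, tAut, ← map_pow, hσpow]
  · right; rw [monoAut, signAut_one, tAut, ← map_pow, hσpow]

end CfsgLib.Leech
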