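/-
The crosses of the lattice in terms of classes modulo twice the lattice.
-/
import Cfsg.Agent.Leech.Order
import Cfsg.Prelude.Def_SporadicCombinatorics

set_option autoImplicit false
set_option linter.constructorNameAsVariable false

namespace CfsgLib.Leech

open Cfsg CfsgLib.Golay

attribute [local irreducible] shortVecs halfTable quarterTable codeFinset

theorem cross_eq {x : GolayPt → ℤ} (hxn : sqNorm x = 64) :
    cross x = (((shortVecs 16).filter fun y => cls y = cls x : Finset (GolayPt → ℤ)) :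
      Set (GolayPt → ℤ)) := by
  ext y
  simp only [cross, Set.mem_ofPred_eq, Finset.mem_coe, Finset.mem_filter,
    mem_shortVecs (Or.inr (Or.inr rfl) : (16 : ℕ) = 8 ∨ (16 : ℕ) = 12 ∨ (16 : ℕ) = 16),
    eq_comm (a := cls y), cls_eq_iff, hxn]
  norm_num
  tauto

theorem ncard_cross {x : GolayPt → ℤ} (hx : x ∈ leechLattice) (hxn : sqNorm x = 64) :
    (cross x).ncard = 48 := by
  rw [cross_eq hxn, Set.ncard_coe_finset,
    card_frame_class ((mem_shortVecs (Or.inr (Or.inr rfl)) x).mpr ⟨hx, by rw [hxn]; norm_num⟩)]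

theorem stdCross_eq : stdCross = (signedEights : Set (GolayPt → ℤ)) := by
  ext y
  rw [Finset.mem_coe, mem_signedEights]
  have h : ∀ q, Pi.single (M := fun _ : GolayPt => ℤ) q (-8) = -(eightAt q : GolayPt → ℤ) := fun q =>
    Pi.single_neg q 8
  constructor
  · rintro ⟨i, s, rfl | rfl, rfl⟩
    exacts [⟨i, Or.inl rfl⟩, ⟨i, Or.inr (h i)⟩]
  · rintro ⟨q, rfl | rfl⟩
    exacts [⟨q, 8, Or.inl rfl, rfl⟩, ⟨q, -8, Or.inr rfl, (h q).symm⟩]

/-- Preserving the standard cross is the same as preserving its class. -/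
theorem mem_monoGroup_iff_stdCross (g : Co0) :
    g ∈ monoGroup ↔ ∀ v : leechLattice, (v : GolayPt → ℤ) ∈ stdCross →
      ((g • v : leechLattice) : GolayPt → ℤ) ∈ stdCross := by
  constructor
  · intro hg v hv
    rw [stdCross_eq, Finset.mem_coe, ← frame_class_eq, Finset.mem_filter] at hv ⊢
    exact ⟨mem_shortVecs_smul g hv.1, (cls_smul g hv.2).trans hg⟩
  · intro h
    have h1 := h (eightAt none) ⟨none, 8, Or.inl rfl, rfl⟩
    rw [stdCross_eq, Finset.mem_coe, ← frame_class_eq, Finset.mem_filter] at h1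
    exact h1.2

end CfsgLib.Leech
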