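/-
Normal subgroups of a finite group against an element of prime order with small centraliser:
congruences for invariant subgroups and a Frattini argument.
-/
import Mathlib

set_option autoImplicit false

namespace CfsgLib.Leech.PrimeElement

variable {G : Type*} [Group G] [Finite G] {p : ℕ} [hp : Fact p.Prime] {t : G}

/-- An element of prime order acting on a subgroup by conjugation without non-trivial fixed
points forces the order to be one modulo the prime. -/
theorem card_modEq_one (ht : orderOf t = p) (H : Subgroup G)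
    (hH : ∀ x ∈ H, t * x * t⁻¹ ∈ H) (hfix : ∀ x ∈ H, t * x * t⁻¹ = x → x = 1) :
    Nat.card H ≡ 1 [MOD p] := by
  classical
  have := Fintype.ofFinite H
  let f : H → H := fun x => ⟨t * x * t⁻¹, hH x x.2⟩
  have hf : Function.Injective f := fun x y h => by
    have := congrArg Subtype.val h
    simpa [f] using this
  let σ : Equiv.Perm H := Equiv.ofBijective f (Finite.injective_iff_bijective.mp hf)
  have hpow : ∀ n : ℕ, ∀ x : H, (((σ ^ n) x : H) : G) = t ^ n * x * (t ^ n)⁻¹ := by
    intro n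
    induction n with
    | zero => intro x; simp
    | succ n ih =>
      intro x
      rw [pow_succ', Equiv.Perm.mul_apply]
      show t * ((σ ^ n) x : G) * t⁻¹ = _
      rw [ih]
      group
  have hσ : σ ^ p ^ 1 = 1 := by
    refine Equiv.ext fun x => Subtype.ext ?_
    rw [hpow, pow_one, ← ht, pow_orderOf_eq_one]
    simp
  let e : Equiv.Perm H →* Function.End H :=
    { toFun := fun π => ⇑π, map_one' := rfl, map_mul' := fun _ _ => rfl }
  have h := Equiv.Perm.card_fixedPoints_modEq (p := p) (n := 1) (f := e σ)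
    (by rw [← map_pow, hσ, map_one])
  rw [← Nat.card_eq_fintype_card, ← Nat.card_eq_fintype_card] at h
  suffices hone : Nat.card (Function.fixedPoints (e σ)) = 1 by rwa [hone] at h
  rw [Nat.card_eq_one_iff_unique]
  refine ⟨⟨fun a b => Subtype.ext ?_⟩, ⟨⟨1, Subtype.ext (show t * 1 * t⁻¹ = 1 by simp)⟩⟩⟩
  have key : ∀ a : Function.fixedPoints (e σ), (a : H) = 1 := fun a =>
    Subtype.ext (hfix _ (a : H).2 (congrArg Subtype.val a.2))
  rw [key a, key b]

/-- A normal subgroup of order divisible by the prime contains the element, and the group is the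
product of the subgroup with the normaliser of the cyclic group. -/
theorem mem_of_dvd (ht : orderOf t = p) (hsq : ¬ p ^ 2 ∣ Nat.card G) (N : Subgroup G) [N.Normal]
    (hN : p ∣ Nat.card N) :
    t ∈ N ∧ ∀ g : G, ∃ n ∈ N, ∃ k : ℕ, (n * g) * t * (n * g)⁻¹ = t ^ k := by
  have hcardP : ∀ {x : G}, orderOf x = p → Nat.card (Subgroup.zpowers x) = p :=
    fun hx => (Nat.card_zpowers _).trans hx
  have hsyl : ∀ {x : G}, orderOf x = p → ∃ P : Sylow p G, (P : Subgroup G) = Subgroup.zpowers x := by
    intro x hx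
    refine ⟨Sylow.ofCard (Subgroup.zpowers x) ?_, rfl⟩
    have hdvd : p ∣ Nat.card G := hx ▸ orderOf_dvd_natCard x
    have h1 : (Nat.card G).factorization p = 1 := by
      have hpos := hp.out.factorization_pos_of_dvd Nat.card_pos.ne' hdvd
      by_contra hne
      exact hsq ((Nat.pow_dvd_pow p (by omega)).trans (Nat.ordProj_dvd (Nat.card G) p))
    rw [hcardP hx, h1, pow_one]
  obtain ⟨⟨y, hyN⟩, hy⟩ := exists_prime_orderOf_dvd_card' p hN
  rw [Subgroup.orderOf_mk] at hy
  obtain ⟨P, hP⟩ := hsyl hy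
  obtain ⟨Q, hQ⟩ := hsyl ht
  obtain ⟨g, hg⟩ := MulAction.exists_smul_eq G P Q
  have htN : t ∈ N := by
    have h1 : t ∈ ((g • P : Sylow p G) : Subgroup G) := by
      rw [hg, hQ]; exact Subgroup.mem_zpowers t
    rw [Sylow.coe_subgroup_smul, hP] at h1
    obtain ⟨x, hx, hxt⟩ := h1
    obtain ⟨k, rfl⟩ := Subgroup.mem_zpowers_iff.mp hx
    rw [← hxt]
    simp only [MulDistribMulAction.toMonoidEnd_apply]
    exact (inferInstance : N.Normal).conj_mem _ (N.zpow_mem hyN k) g
  refine ⟨htN, fun g => ?_⟩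
  have hle : ((Q : Subgroup G)) ≤ N := by rw [hQ, Subgroup.zpowers_le]; exact htN
  have htop := Sylow.normalizer_sup_eq_top' Q hle
  obtain ⟨a, ha, b, hb, hab⟩ :=
    Subgroup.mem_sup_of_normal_right.mp (htop.ge (Subgroup.mem_top g⁻¹))
  refine ⟨b, hb, ?_⟩
  have hbg : b * g = a⁻¹ := by
    have := congrArg (fun x => x⁻¹) hab
    simp only [mul_inv_rev, inv_inv] at this
    rw [← this]; group
  have hmemt : a⁻¹ * t * a⁻¹⁻¹ ∈ (Q : Subgroup G) :=
    (Subgroup.mem_normalizer_iff.mp (inv_mem ha) t).mp (by rw [hQ]; exact Subgroup.mem_zpowers t)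
  rw [hQ] at hmemt
  obtain ⟨k, hk⟩ := ((isOfFinOrder_of_finite t).mem_powers_iff_mem_zpowers).mpr hmemt
  exact ⟨k, by rw [hbg]; exact hk.symm⟩

/-- Every prime divisor `q` of a normal subgroup of order prime to `p` admits a Sylow subgroup of
it normalised by the element. -/
theorem exists_invariant_sylow (ht : orderOf t = p) (hsq : ¬ p ^ 2 ∣ Nat.card G) (N : Subgroup G)
    [N.Normal] (hN : ¬ p ∣ Nat.card N) (q : ℕ) [hq : Fact q.Prime] :
    ∃ H : Subgroup G, H ≤ N ∧ Nat.card H = q ^ (Nat.card N).factorization q ∧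
      ∀ x ∈ H, t * x * t⁻¹ ∈ H := by
  obtain ⟨P⟩ : Nonempty (Sylow q N) := inferInstance
  set K : Subgroup G := (P : Subgroup N).map N.subtype with hK
  set M := Subgroup.normalizer (K : Set G) with hM
  have htop : M ⊔ N = ⊤ := Sylow.normalizer_sup_eq_top P
  have hidx : M.index ∣ Nat.card N := by
    have hN' : (N.subgroupOf M).index = N.index := by
      show N.relIndex M = N.index
      rw [← Subgroup.relIndex_sup_right M N, htop, Subgroup.relIndex_top_right]
    have h1 := Subgroup.card_mul_index (N.subgroupOf M)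
    rw [hN'] at h1
    have h2 := Subgroup.card_mul_index N
    rw [← Subgroup.card_mul_index M, ← h1] at h2
    refine Dvd.intro_left (Nat.card (N.subgroupOf M)) ?_
    refine Nat.eq_of_mul_eq_mul_right (Nat.pos_of_ne_zero N.index_ne_zero_of_finite) ?_
    rw [h2]; ring
  have hpM : p ∣ Nat.card M := by
    have h1 : p ∣ Nat.card G := ht ▸ orderOf_dvd_natCard t
    rw [← Subgroup.card_mul_index M] at h1
    exact (hp.out.dvd_mul.mp h1).resolve_right fun h => hN (h.trans hidx)
  obtain ⟨⟨y, hyM⟩, hy⟩ := exists_prime_orderOf_dvd_card' p hpM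
  rw [Subgroup.orderOf_mk] at hy
  have hsyl : ∀ {x : G}, orderOf x = p → ∃ S : Sylow p G, (S : Subgroup G) = Subgroup.zpowers x := by
    intro x hx
    refine ⟨Sylow.ofCard (Subgroup.zpowers x) ?_, rfl⟩
    have hdvd : p ∣ Nat.card G := hx ▸ orderOf_dvd_natCard x
    have h1 : (Nat.card G).factorization p = 1 := by
      have hpos := hp.out.factorization_pos_of_dvd Nat.card_pos.ne' hdvd
      by_contra hne
      exact hsq ((Nat.pow_dvd_pow p (by omega)).trans (Nat.ordProj_dvd (Nat.card G) p))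
    rw [Nat.card_zpowers, hx, h1, pow_one]
  obtain ⟨S, hS⟩ := hsyl hy
  obtain ⟨S', hS'⟩ := hsyl ht
  obtain ⟨g, hg⟩ := MulAction.exists_smul_eq G S S'
  have hgt : g⁻¹ * t * g ∈ M := by
    have h1 : t ∈ ((g • S : Sylow p G) : Subgroup G) := by
      rw [hg, hS']; exact Subgroup.mem_zpowers t
    rw [Sylow.coe_subgroup_smul, hS] at h1
    obtain ⟨x, hx, hxt⟩ := h1
    obtain ⟨k, rfl⟩ := Subgroup.mem_zpowers_iff.mp hx
    simp only [MulDistribMulAction.toMonoidEnd_apply] at hxt
    have hxt' : g * y ^ k * g⁻¹ = t := hxt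
    rw [← hxt']
    simpa [mul_assoc] using M.zpow_mem hyM k
  refine ⟨K.map (MulAut.conj g).toMonoidHom, ?_, ?_, ?_⟩
  · rintro _ ⟨x, hx, rfl⟩
    obtain ⟨x', -, rfl⟩ := hx
    exact (inferInstance : N.Normal).conj_mem _ x'.2 g
  · rw [Subgroup.card_map_of_injective (MulAut.conj g).injective, hK,
      Subgroup.card_map_of_injective (Subgroup.subtype_injective N), P.card_eq_multiplicity]
  · rintro _ ⟨x, hx, rfl⟩
    refine ⟨(g⁻¹ * t * g) * x * (g⁻¹ * t * g)⁻¹,
      (Subgroup.mem_normalizer_iff.mp hgt x).mp hx, ?_⟩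
    simp only [MulEquiv.coe_toMonoidHom, MulAut.conj_apply]
    group

end CfsgLib.Leech.PrimeElement
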