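/-
Normal subgroups of the automorphism group of the lattice and of the stabilisers of vectors of
squared lengths 32 and 48.
-/
import Cfsg.Agent.Leech.CentralizerP
import Cfsg.Agent.Leech.Coprime23
import Cfsg.Agent.Golay.Mathieu
import Cfsg.Prelude.Def_Sporadic

set_option autoImplicit false
set_option linter.constructorNameAsVariable false

namespace CfsgLib.Leech

open Cfsg CfsgLib.Golay MulAction

attribute [local irreducible] shortVecs halfTable quarterTable codeFinset

theorem fact23 : Fact (Nat.Prime 23) := ⟨by norm_num⟩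

theorem negAut_orderOf : orderOf negAut = 2 := by
  haveI : Fact (Nat.Prime 2) := ⟨by norm_num⟩
  exact orderOf_eq_prime (by rw [sq, negAut_sq]) negAut_ne_one

theorem pow_twentythree_or {g : Co0} (h : tAut * g * tAut⁻¹ = g) : (g ^ 23) ^ 2 = 1 := by
  obtain ⟨n, rfl | rfl⟩ := commute_tAut h
  · rw [← pow_mul tAut n, mul_comm n, pow_mul, ← orderOf_tAut, pow_orderOf_eq_one]; simp
  · have hcomm : Commute negAut (tAut ^ n) := (Subgroup.mem_center_iff.mp negAut_central _).symm
    rw [hcomm.mul_pow, ← pow_mul tAut n, mul_comm n, pow_mul tAut, ← orderOf_tAut,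
      pow_orderOf_eq_one]
    simp only [one_pow, mul_one, ← pow_mul]
    rw [mul_comm, pow_mul, sq, negAut_sq, one_pow]

theorem eq_one_of_pow {H : Type*} [Group H] {g : H} {a b : ℕ} (ha : g ^ a = 1) (hb : g ^ b = 1)
    (hab : Nat.Coprime a b) : g = 1 :=
  orderOf_eq_one_iff.mp (Nat.eq_one_of_dvd_coprimes hab (orderOf_dvd_of_pow_eq_one ha)
    (orderOf_dvd_of_pow_eq_one hb))

theorem no_small_power : ∀ q ∈ [3, 5, 7, 11, 13], ∀ k ≤ 9, 0 < k →
    q ^ k ∣ 8315553613086720000 → q ^ k % 23 ≠ 1 := by decide +kernel

theorem prime_dvd_card_co0 {q : ℕ} (hq : q.Prime) (h : q ∣ 8315553613086720000) :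
    q = 2 ∨ q = 3 ∨ q = 5 ∨ q = 7 ∨ q = 11 ∨ q = 13 ∨ q = 23 := by
  have e : (8315553613086720000 : ℕ) =
      2 ^ 22 * 3 ^ 9 * 5 ^ 4 * 7 ^ 2 * 11 * 13 * 23 := by norm_num
  rw [e] at h
  rcases hq.dvd_mul.mp h with h | h
  · rcases hq.dvd_mul.mp h with h | h
    · rcases hq.dvd_mul.mp h with h | h
      · rcases hq.dvd_mul.mp h with h | h
        · rcases hq.dvd_mul.mp h with h | h
          · rcases hq.dvd_mul.mp h with h | h
            · exact Or.inl ((Nat.prime_dvd_prime_iff_eq hq (by norm_num)).mp (hq.dvd_of_dvd_pow h))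
            · exact Or.inr (Or.inl ((Nat.prime_dvd_prime_iff_eq hq (by norm_num)).mp
                (hq.dvd_of_dvd_pow h)))
          · exact Or.inr (Or.inr (Or.inl ((Nat.prime_dvd_prime_iff_eq hq (by norm_num)).mp
              (hq.dvd_of_dvd_pow h))))
        · exact Or.inr (Or.inr (Or.inr (Or.inl ((Nat.prime_dvd_prime_iff_eq hq (by norm_num)).mp
            (hq.dvd_of_dvd_pow h)))))
      · have := (Nat.prime_dvd_prime_iff_eq hq (by norm_num)).mp h; omega
    · have := (Nat.prime_dvd_prime_iff_eq hq (by norm_num)).mp h; omega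
  · have := (Nat.prime_dvd_prime_iff_eq hq (by norm_num)).mp h; omega

/-- A normal subgroup of order prime to 23, inside any group containing the translation, is a
2-group. -/
theorem two_group_of_normal (G : Subgroup Co0) (hT : tAut ∈ G) (N : Subgroup G) [N.Normal]
    (h23 : ¬ 23 ∣ Nat.card N) : ∀ q : ℕ, q.Prime → q ∣ Nat.card N → q = 2 := by
  haveI := fact23
  intro q hq hqN
  by_contra hne
  haveI : Fact q.Prime := ⟨hq⟩
  have ht : orderOf (⟨tAut, hT⟩ : G) = 23 := by rw [Subgroup.orderOf_mk, orderOf_tAut]
  have hdvd : Nat.card G ∣ Nat.card Co0 := Subgroup.card_subgroup_dvd_card G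
  have hsq : ¬ 23 ^ 2 ∣ Nat.card G := fun h => not_sq_dvd_card (h.trans hdvd)
  obtain ⟨H, hHN, hcard, hinv⟩ := PrimeElement.exists_invariant_sylow ht hsq N h23 q
  set k := (Nat.card N).factorization q
  have hk : 0 < k := hq.factorization_pos_of_dvd Nat.card_pos.ne' hqN
  have hqG : q ^ k ∣ 8315553613086720000 := by
    rw [← card_Co0, ← hcard]
    exact (Subgroup.card_subgroup_dvd_card H).trans hdvd
  have hq' := prime_dvd_card_co0 hq ((dvd_pow_self q hk.ne').trans hqG)
  have hq23 : q ≠ 23 := fun h => h23 (h ▸ hqN)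
  have hmod := PrimeElement.card_modEq_one ht H hinv (fun x hx hfix => by
    refine Subtype.ext ?_
    have h1 := pow_twentythree_or (g := (x : Co0)) (congrArg Subtype.val hfix)
    have h2 : (x : Co0) ^ q ^ k = 1 := by
      have h3 : (⟨x, hx⟩ : H) ^ q ^ k = 1 := by rw [← hcard]; exact pow_card_eq_one'
      have := congrArg (fun z : H => ((z : G) : Co0)) h3
      simpa using this
    rw [← pow_mul] at h1
    refine eq_one_of_pow h2 h1 ?_
    refine Nat.Coprime.pow_left k (Nat.Coprime.mul_right ?_ ?_)
    · exact (Nat.coprime_primes hq (by norm_num)).mpr hq23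
    · exact (Nat.coprime_primes hq (by norm_num)).mpr hne)
  rw [hcard] at hmod
  have hk9 : k ≤ 9 := by
    by_contra h
    have h10 : q ^ 10 ∣ 8315553613086720000 := (Nat.pow_dvd_pow q (by omega)).trans hqG
    rcases hq' with rfl | rfl | rfl | rfl | rfl | rfl | rfl <;> first | omega | norm_num at h10
  exact no_small_power q (by simp; omega) k hk9 hk hqG hmod

/-- The permutation part of a monomial automorphism. -/
noncomputable def monoPart (g : monoGroup) : golayCode × M24 :=
  ((mem_monoGroup_iff (g : Co0)).mp g.2).choose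

theorem monoPart_spec (g : monoGroup) : monoAut (monoPart g) = g :=
  ((mem_monoGroup_iff (g : Co0)).mp g.2).choose_spec

theorem monoPart_of_eq {g : monoGroup} {x : golayCode × M24} (h : monoAut x = g) :
    monoPart g = x := monoAut_injective ((monoPart_spec g).trans h.symm)

/-- The projection of the monomial group onto the group of the code. -/
noncomputable def monoPerm : monoGroup →* M24 :=
  MonoidHom.mk' (fun g => (monoPart g).2) fun a b => by
    rw [monoPart_of_eq (x := ((monoPart a).1 + ⟨fun i => ((monoPart b).1 : GolayPt → ZMod 2)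
      (((monoPart a).2 : Equiv.Perm GolayPt)⁻¹ i),
      M24_code (inv_mem (monoPart a).2.2) (monoPart b).1.2⟩, (monoPart a).2 * (monoPart b).2))]
    rw [← monoAut_mul, monoPart_spec, monoPart_spec, Subgroup.coe_mul]

theorem monoPerm_permHom (σ : M24) : monoPerm ⟨permHom σ, permHom_mem σ⟩ = σ := by
  show (monoPart _).2 = σ
  rw [monoPart_of_eq (x := (0, σ)) (permHom_eq_monoAut σ).symm]

theorem monoPerm_surjective : Function.Surjective monoPerm := fun σ => ⟨_, monoPerm_permHom σ⟩

theorem eq_signAut_of_monoPerm {g : monoGroup} (h : monoPerm g = 1) :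
    ∃ w, (g : Co0) = signAut w :=
  ⟨(monoPart g).1, by
    conv_lhs => rw [← monoPart_spec g]
    rw [signAut_eq_monoAut, ← h]
    rfl⟩

/-- Witnesses writing each basis word as a sum of words plus their images. -/
def moveCombo : List ℕ :=
  [18298, 1, 18297, 7, 18293, 18277, 18245, 127, 255, 511, 17541, 16517]

/-- A word plus its image under a generator. -/
def moveMask (j : ℕ) : ℕ :=
  (rows.getD (j % 12) 0) ^^^ permMask (gensL.getD (j / 12) []) (rows.getD (j % 12) 0) 24

theorem moveCombo_spec : ∀ i < 12,
    comb ((List.range 36).map moveMask) (moveCombo.getD i 0) = rows.getD i 0 := by decide +kernel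

/-- A subgroup of the code containing every word plus its image is the whole code. -/
theorem code_le_of_moves (S : Submodule (ZMod 2) (GolayPt → ZMod 2))
    (hS : ∀ σ ∈ M24, ∀ w ∈ golayCode, (fun i => w (σ⁻¹ i)) + w ∈ S) : golayCode ≤ S := by
  intro w hw
  obtain ⟨c, -, rfl⟩ := (mem_code_iff w).mp hw
  refine vec_comb_mem S rows (fun r hr => ?_) c
  obtain ⟨i, hi, rfl⟩ := List.mem_iff_getElem.mp hr
  have hi12 : i < 12 := hi
  rw [← List.getD_eq_getElem rows 0 hi, ← moveCombo_spec i hi12]
  refine vec_comb_mem S _ (fun m hm => ?_) _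
  obtain ⟨j, hj, rfl⟩ := List.mem_map.mp hm
  have hj36 : j < 36 := List.mem_range.mp hj
  have hk : j / 12 < gens.length := by simp only [gens, List.length_cons, List.length_nil]; omega
  have hmem : gens[j / 12] ∈ M24 := by
    have h := List.getElem_mem hk
    simp only [gens, List.mem_cons, List.not_mem_nil, or_false] at h
    rcases h with e | e | e <;> simp only [gens] <;> rw [e]
    exacts [translation_mem, projInv_mem, cubeTwist_mem]
  have hk' : j / 12 < gensL.length := by simp only [gensL, List.length_cons, List.length_nil]; omega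
  have hL : gensL.getD (j / 12) [] = toList gens[j / 12] := by
    rw [List.getD_eq_getElem _ _ hk']
    have := congrArg (fun L => L[j / 12]?) gens_map
    simp [hk, hk'] at this
    exact this.symm
  rw [moveMask, vec_xor, hL, vec_permMask, add_comm]
  have hrl : j % 12 < rows.length := by simp only [rows, List.length_cons, List.length_nil]; omega
  refine hS _ hmem _ ?_
  rw [List.getD_eq_getElem _ _ hrl]
  have hrows : ∀ r ∈ rows, vec r ∈ golayCode := fun r hr => by
    rw [rows_spec, List.mem_map] at hr
    obtain ⟨k, -, rfl⟩ := hr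
    exact vec_comb_mem _ genMasks vec_genMasks_mem k
  exact hrows _ (List.getElem_mem hrl)

/-- A subgroup of the monomial group normalised by it and containing the translation is the
whole monomial group. -/
theorem mono_le_of_normal (K : Subgroup Co0)
    (hK : ∀ m ∈ monoGroup, ∀ x ∈ K, x ∈ monoGroup → m * x * m⁻¹ ∈ K) (hT : tAut ∈ K) :
    monoGroup ≤ K := by
  haveI := m24_simple
  set I := (K.subgroupOf monoGroup).map monoPerm with hI
  haveI : I.Normal := by
    haveI : (K.subgroupOf monoGroup).Normal := ⟨fun x hx m => hK m m.2 x hx x.2⟩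
    exact Subgroup.Normal.map inferInstance _ monoPerm_surjective
  have hItop : I = ⊤ := by
    refine (Subgroup.Normal.eq_bot_or_eq_top (inferInstance : I.Normal)).resolve_left fun h => ?_
    have h1 : monoPerm ⟨tAut, permHom_mem trans23⟩ ∈ I := ⟨_, hT, rfl⟩
    rw [h, Subgroup.mem_bot] at h1
    have h2 : trans23 = 1 := (monoPerm_permHom trans23).symm.trans h1
    have := congrArg (fun s : M24 => (s : Equiv.Perm GolayPt) (some 0)) h2
    simp [trans23_apply.2] at this
    exact absurd this (by decide)
  have hsign : ∀ σ : M24, ∃ u, monoAut (u, σ) ∈ K := fun σ => by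
    obtain ⟨x, hx, hxσ⟩ : σ ∈ I := hItop ▸ Subgroup.mem_top σ
    refine ⟨(monoPart x).1, ?_⟩
    rw [← hxσ]
    show monoAut (monoPart x) ∈ K
    rw [monoPart_spec]
    exact hx
  let S : Submodule (ZMod 2) (GolayPt → ZMod 2) :=
    { carrier := {w | ∃ hw : w ∈ golayCode, signAut ⟨w, hw⟩ ∈ K}
      zero_mem' := ⟨golayCode.zero_mem, by
        rw [show (⟨0, golayCode.zero_mem⟩ : golayCode) = 0 from rfl, signAut_zero]
        exact K.one_mem⟩
      add_mem' := by
        rintro a b ⟨ha, ha'⟩ ⟨hb, hb'⟩
        refine ⟨golayCode.add_mem ha hb, ?_⟩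
        have := K.mul_mem ha' hb'
        rwa [signAut_mul] at this
      smul_mem' := by
        rintro r a ⟨ha, ha'⟩
        rcases eq_zero_or_one r with rfl | rfl
        · refine ⟨by rw [zero_smul]; exact golayCode.zero_mem, ?_⟩
          simp only [zero_smul]
          rw [show (⟨0, golayCode.zero_mem⟩ : golayCode) = 0 from rfl, signAut_zero]
          exact K.one_mem
        · simp only [one_smul]; exact ⟨ha, ha'⟩ }
  have hall : golayCode ≤ S := by
    refine code_le_of_moves S fun σ hσ w hw => ?_
    obtain ⟨u, hu⟩ := hsign ⟨σ, hσ⟩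
    have h1 := hK (signAut ⟨w, hw⟩) (signAut_mem _) _ hu ((mem_monoGroup_iff _).mpr ⟨_, rfl⟩)
    have h2 := K.mul_mem h1 (K.inv_mem hu)
    refine ⟨golayCode.add_mem (M24_code (inv_mem hσ) hw) hw, ?_⟩
    convert h2 using 1
    rw [signAut_inv, monoAut, mul_inv_rev, signAut_inv]
    have h3 := permHom_mul_signAut ⟨σ, hσ⟩ ⟨w, hw⟩
    calc signAut ⟨_, _⟩ = signAut ⟨w, hw⟩ * signAut u * (signAut ⟨fun i => w (σ⁻¹ i),
          M24_code (inv_mem hσ) hw⟩) * signAut u := by
          rw [signAut_mul, signAut_mul, signAut_mul]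
          congr 1
          refine Subtype.ext (funext fun i => ?_)
          simp only [Submodule.coe_add, Pi.add_apply]
          exact (by decide : ∀ a b c : ZMod 2, c + b = b + a + c + a) _ _ _
      _ = _ := by
          have h4 : signAut ⟨fun i => w (σ⁻¹ i), M24_code (inv_mem hσ) hw⟩ =
              permHom ⟨σ, hσ⟩ * signAut ⟨w, hw⟩ * (permHom ⟨σ, hσ⟩)⁻¹ :=
            eq_mul_inv_of_mul_eq h3.symm
          rw [h4]; group
  intro g hg
  obtain ⟨⟨w, σ⟩, rfl⟩ := (mem_monoGroup_iff g).mp hg
  obtain ⟨u, hu⟩ := hsign σ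
  obtain ⟨hd, hd'⟩ := hall ((w + u : golayCode)).2
  have h := K.mul_mem hd' hu
  convert h using 1
  rw [show (⟨((w + u : golayCode) : GolayPt → ZMod 2), hd⟩ : golayCode) = w + u from rfl]
  simp only [monoAut, ← mul_assoc, signAut_mul]
  congr 2
  refine Subtype.ext (funext fun i => ?_)
  simp only [Submodule.coe_add, Pi.add_apply]
  exact (by decide : ∀ a b : ZMod 2, a = a + b + b) _ _

theorem center_of_two_group (N : Subgroup Co0) [N.Normal]
    (h2 : ∀ q : ℕ, q.Prime → q ∣ Nat.card N → q = 2) : N ≤ Subgroup.center Co0 := by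
  have hle : N ≤ monoGroup := by
    rw [← Subgroup.relIndex_eq_one]
    have hd1 : monoGroup.relIndex N ∣ monoGroup.index := by
      have hi : (monoGroup.subgroupOf N).index = monoGroup.relIndex N := rfl
      have h1 : (monoGroup ⊔ N : Subgroup Co0).index * monoGroup.relIndex (monoGroup ⊔ N) =
          monoGroup.index := by
        rw [mul_comm, Subgroup.relIndex_mul_index le_sup_left]
      have hc : Nat.card N * N.relIndex monoGroup = Nat.card N * N.relIndex (monoGroup ⊔ N) := by
        rw [Subgroup.relIndex_sup_right]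
      have hA := Subgroup.card_mul_index (N.subgroupOf monoGroup)
      have hB := Subgroup.card_mul_index (monoGroup.subgroupOf N)
      have hinf1 : Nat.card (N.subgroupOf monoGroup) = Nat.card ↥(monoGroup ⊓ N) := by
        rw [← Subgroup.inf_subgroupOf_left]
        exact Nat.card_congr (Subgroup.subgroupOfEquivOfLe inf_le_left).toEquiv
      have hinf2 : Nat.card (monoGroup.subgroupOf N) = Nat.card ↥(monoGroup ⊓ N) := by
        rw [← Subgroup.inf_subgroupOf_right]
        exact Nat.card_congr (Subgroup.subgroupOfEquivOfLe inf_le_right).toEquiv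
      have hC := Subgroup.card_mul_index (N.subgroupOf (monoGroup ⊔ N))
      have hD := Subgroup.card_mul_index (monoGroup.subgroupOf (monoGroup ⊔ N))
      rw [Nat.card_congr (Subgroup.subgroupOfEquivOfLe le_sup_right).toEquiv,
        ← Subgroup.relIndex, Subgroup.relIndex_sup_right] at hC
      rw [Nat.card_congr (Subgroup.subgroupOfEquivOfLe le_sup_left).toEquiv, ← Subgroup.relIndex,
        ← hC] at hD
      rw [hinf1, ← Subgroup.relIndex] at hA
      rw [hinf2, hi] at hB
      rw [← hA, ← hB] at hD
      refine Dvd.intro_left (monoGroup ⊔ N : Subgroup Co0).index ?_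
      rw [← h1]
      congr 1
      have hpos : 0 < Nat.card ↥(monoGroup ⊓ N) * N.relIndex monoGroup :=
        hA ▸ Nat.card_pos
      refine (Nat.eq_of_mul_eq_mul_left hpos ?_).symm
      rw [hD]; ring
    have hd2 : monoGroup.relIndex N ∣ Nat.card N := Subgroup.index_dvd_card _
    rw [index_monoGroup] at hd1
    by_contra hne
    obtain ⟨q, hq, hqd⟩ := Nat.exists_prime_and_dvd hne
    have := h2 q hq (hqd.trans hd2)
    subst this
    have := hqd.trans hd1
    omega
  haveI := m24_simple
  set I := (N.subgroupOf monoGroup).map monoPerm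
  haveI : I.Normal := Subgroup.Normal.map inferInstance _ monoPerm_surjective
  have hIbot : I = ⊥ := by
    refine (Subgroup.Normal.eq_bot_or_eq_top (inferInstance : I.Normal)).resolve_right fun h => ?_
    have h1 : Nat.card I ∣ Nat.card N :=
      (Subgroup.card_map_dvd _ monoPerm).trans
        (Nat.card_congr (Subgroup.subgroupOfEquivOfLe hle).toEquiv ▸ dvd_refl _)
    rw [h, Subgroup.card_top, card_M24] at h1
    have := h2 3 (by norm_num) ((by norm_num : 3 ∣ 244823040).trans h1)
    omega
  intro g hg
  obtain ⟨w, rfl⟩ : ∃ w, g = signAut w := eq_signAut_of_monoPerm (g := ⟨g, hle hg⟩) (by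
    rw [← Subgroup.mem_bot, ← hIbot]; exact ⟨_, hg, rfl⟩)
  -- `signAut w` fixes the class of every vector of squared length 64
  have hcls : ∀ v : leechLattice, sqNorm (v : GolayPt → ℤ) = 64 →
      cls ((signAut w • v : leechLattice) : GolayPt → ℤ) = cls (v : GolayPt → ℤ) := by
    intro v hv
    obtain ⟨h, hh⟩ := frame_transitive (v := eightAt none) (w := v) (sqNorm_eightAt none) hv
    have hm : h⁻¹ * signAut w * h ∈ monoGroup := by
      refine hle ?_
      have := (inferInstance : N.Normal).conj_mem _ hg h⁻¹
      rwa [inv_inv] at this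
    have h1 := cls_smul h (w := eightAt none) hm
    rw [← mul_smul, show h * (h⁻¹ * signAut w * h) = signAut w * h by group, mul_smul, hh] at h1
    exact h1
  have hquad : ∀ a b c d : GolayPt, a ≠ b → a ≠ c → a ≠ d → b ≠ c → b ≠ d → c ≠ d →
      (w : GolayPt → ZMod 2) a + (w : GolayPt → ZMod 2) b + (w : GolayPt → ZMod 2) c +
        (w : GolayPt → ZMod 2) d = 0 := by
    intro a b c d hab hac had hbc hbd hcd
    let z : GolayPt → ℤ := fun p => if p = a ∨ p = b ∨ p = c ∨ p = d then 1 else 0
    have hz : ∀ p, z p = (if p = a then 1 else 0) + (if p = b then 1 else 0) +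
        (if p = c then 1 else 0) + (if p = d then 1 else 0) := by
      intro p
      simp only [z]
      split_ifs with h1 h2 h3 h4 h5 <;> simp_all
    have hsumz : ∑ p, z p = 4 := by
      simp only [hz, Finset.sum_add_distrib, Finset.sum_ite_eq', Finset.mem_univ, if_true]
      norm_num
    let v : leechLattice := ⟨fun p => 4 * z p, by rw [four_mul_mem_iff, hsumz]; norm_num⟩
    have hz2 : ∀ p, (4 * z p) ^ 2 = 16 * z p := fun p => by simp only [z]; split <;> norm_num
    have hv : sqNorm (v : GolayPt → ℤ) = 64 := by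
      show ∑ p, (4 * z p) ^ 2 = 64
      rw [Finset.sum_congr rfl fun p _ => hz2 p, ← Finset.mul_sum, hsumz]; norm_num
    obtain ⟨u, hu, hwu⟩ := (cls_eq_iff _ _).mp (hcls v hv)
    have hu2 : u = fun p => 4 * -(((w : GolayPt → ZMod 2) p).val * z p) := by
      funext p
      have := congrFun hwu p
      rw [signAut_apply] at this
      simp only [Pi.sub_apply, flipSign, v, Pi.smul_apply, nsmul_eq_mul, Nat.cast_ofNat] at this
      rcases eq_zero_or_one ((w : GolayPt → ZMod 2) p) with e | e <;> rw [e] at this ⊢
      · simp only [zero_ne_one, if_false] at this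
        rw [show (0 : ZMod 2).val = 0 from rfl]; push_cast; linarith
      · simp only [if_true] at this
        rw [show (1 : ZMod 2).val = 1 from rfl]; push_cast; linarith
    rw [hu2, four_mul_mem_iff] at hu
    have h0 := (ZMod.intCast_zmod_eq_zero_iff_dvd _ 2).mpr hu
    simp only [hz, mul_add, mul_ite, mul_one, mul_zero, Finset.sum_add_distrib, Finset.sum_neg_distrib,
      Finset.sum_ite_eq', Finset.mem_univ, if_true, Int.cast_neg, Int.cast_add, Int.cast_natCast,
      ZMod.natCast_zmod_val, ZMod.neg_eq_self_mod_two] at h0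
    exact h0
  have hconst : ∀ a b : GolayPt, (w : GolayPt → ZMod 2) a = (w : GolayPt → ZMod 2) b := by
    intro a b
    by_cases hab : a = b
    · rw [hab]
    obtain ⟨c, hc⟩ : ∃ c, c ∉ ({a, b} : Finset GolayPt) := by
      by_contra h
      simp only [not_exists, not_not] at h
      have h1 := (Finset.card_le_card (fun x _ => h x : Finset.univ ⊆ _)).trans Finset.card_le_two
      rw [Finset.card_univ, card_golayPt] at h1; omega
    obtain ⟨d, hd⟩ : ∃ d, d ∉ ({a, b, c} : Finset GolayPt) := by
      by_contra h
      simp only [not_exists, not_not] at h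
      have h1 := (Finset.card_le_card (fun x _ => h x : Finset.univ ⊆ _)).trans Finset.card_le_three
      rw [Finset.card_univ, card_golayPt] at h1; omega
    obtain ⟨e, he⟩ : ∃ e, e ∉ ({a, b, c, d} : Finset GolayPt) := by
      by_contra h
      simp only [not_exists, not_not] at h
      have h1 := (Finset.card_le_card (fun x _ => h x : Finset.univ ⊆ _)).trans Finset.card_le_four
      rw [Finset.card_univ, card_golayPt] at h1; omega
    simp only [Finset.mem_insert, Finset.mem_singleton, not_or] at hc hd he
    have h1 := hquad a c d e (Ne.symm hc.1) (Ne.symm hd.1) (Ne.symm he.1) (Ne.symm hd.2.2)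
      (Ne.symm he.2.2.1) (Ne.symm he.2.2.2)
    have h2 := hquad b c d e (Ne.symm hc.2) (Ne.symm hd.2.1) (Ne.symm he.2.1) (Ne.symm hd.2.2)
      (Ne.symm he.2.2.1) (Ne.symm he.2.2.2)
    linear_combination h1 - h2
  rcases eq_zero_or_one ((w : GolayPt → ZMod 2) none) with e | e
  · rw [show w = 0 from Subtype.ext (funext fun p => (hconst p none).trans e), signAut_zero]
    exact one_mem _
  · rw [show w = oneWord from Subtype.ext (funext fun p => (hconst p none).trans e), signAut_one]
    exact negAut_central

/-- A normal subgroup of the automorphism group is central or everything. -/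
theorem normal_subgroup_co0 (N : Subgroup Co0) [N.Normal] :
    N ≤ Subgroup.center Co0 ∨ N = ⊤ := by
  haveI := fact23
  by_cases h23 : 23 ∣ Nat.card N
  · right
    obtain ⟨htN, hdec⟩ := PrimeElement.mem_of_dvd orderOf_tAut not_sq_dvd_card N h23
    have hmono : monoGroup ≤ N :=
      mono_le_of_normal N (fun m _ x hx _ => (inferInstance : N.Normal).conj_mem x hx m) htN
    refine (Subgroup.eq_top_iff' N).mpr fun g => ?_
    obtain ⟨n, hn, k, hk⟩ := hdec g
    have h := hmono (mem_monoGroup_of_conj hk)
    exact (N.mul_mem_cancel_left hn).mp h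
  · left
    refine center_of_two_group N fun q hq hqN => ?_
    have e := Subgroup.subgroupOfEquivOfLe (le_top : N ≤ ⊤)
    refine two_group_of_normal ⊤ (Subgroup.mem_top _) (N.subgroupOf ⊤) ?_ q hq ?_ <;>
      rwa [Nat.card_congr e.toEquiv]

theorem isCo1_quotient : IsCo1 (Co0 ⧸ Subgroup.center Co0) := by
  have hcard : Nat.card (Co0 ⧸ Subgroup.center Co0) = 4157776806543360000 := by
    have h := Subgroup.card_mul_index (Subgroup.center Co0)
    rw [card_center, card_Co0, Subgroup.index] at h
    exact Nat.eq_of_mul_eq_mul_left (by norm_num : 0 < 2) (h.trans (by norm_num))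
  refine ⟨?_, hcard⟩
  haveI : Nontrivial (Co0 ⧸ Subgroup.center Co0) := by
    rw [← Finite.one_lt_card_iff_nontrivial, hcard]
    norm_num
  refine ⟨fun H hH => ?_⟩
  rcases normal_subgroup_co0 (H.comap (QuotientGroup.mk' (Subgroup.center Co0))) with h | h
  · left
    refine (Subgroup.eq_bot_iff_forall H).mpr fun x hx => ?_
    obtain ⟨g, rfl⟩ := QuotientGroup.mk'_surjective _ x
    exact (QuotientGroup.eq_one_iff g).mpr (h hx)
  · right
    refine (Subgroup.eq_top_iff' H).mpr fun x => ?_
    obtain ⟨g, rfl⟩ := QuotientGroup.mk'_surjective _ x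
    exact (h ▸ Subgroup.mem_top g : g ∈ H.comap _)

theorem negAut_mem_of_index_two (K : Subgroup Co0) (hK : K.index = 2) : negAut ∈ K := by
  haveI := Subgroup.normal_of_index_eq_two hK
  rcases normal_subgroup_co0 K with h | h
  · exfalso
    have h1 := Subgroup.card_le_of_le h
    have h2 := Subgroup.card_mul_index K
    rw [hK, card_Co0] at h2
    rw [card_center] at h1
    omega
  · rw [h]; exact Subgroup.mem_top _

/-- The sign change on the whole point set has no complement. -/
theorem negAut_no_complement (K : Subgroup Co0) :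
    ¬ (Subgroup.zpowers negAut).IsComplement' K := by
  intro h
  have hn := h.index_eq_card
  rw [Nat.card_zpowers, negAut_orderOf] at hn
  have h1 := (Subgroup.disjoint_def.mp h.disjoint) (Subgroup.mem_zpowers negAut)
    (negAut_mem_of_index_two K hn)
  exact negAut_ne_one h1

end CfsgLib.Leech
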