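/-
The shortest vectors span the lattice; the lattice modulo two is irreducible and has a unique
non-zero invariant quadratic form.
-/
import Cfsg.Agent.Leech.Order

set_option autoImplicit false
set_option linter.constructorNameAsVariable false

namespace CfsgLib.Leech

open Cfsg CfsgLib.Golay

attribute [local irreducible] shortVecs halfTable quarterTable codeFinset

theorem stdC_zero_add_vecU : stdC (some 0) + Spor.vecU = -Spor.vecV := by decide +kernel

theorem eight_none_eq : fourPair (pt 1) + (fourPair none - fourPair (pt 1)) = fourPair none :=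
  add_sub_cancel _ _

theorem norm_facts : sqNorm (stdC (some 0)) = 32 ∧ sqNorm Spor.vecU = 32 ∧
    (∀ r ∈ rows, sqNorm (twoVec r) = 32) ∧ (∀ q, q ≠ none → sqNorm (fourPair q) = 32) ∧
    sqNorm (fourPair none - fourPair (pt 1)) = 32 := by decide +kernel

theorem closure_min_le (M : AddSubgroup (GolayPt → ℤ))
    (hM : ∀ x ∈ leechLattice, sqNorm x = 32 → x ∈ M) : leechLattice ≤ M := by
  refine leech_le M ?_ (fun r hr => hM _ (twoVec_rows_mem r hr) (norm_facts.2.2.1 r hr)) fun q => ?_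
  · have h := M.neg_mem (M.add_mem (hM _ (stdC_mem (some 0)) norm_facts.1)
      (hM _ Spor.leechU.2 norm_facts.2.1))
    rw [show (Spor.leechU : GolayPt → ℤ) = Spor.vecU from rfl, stdC_zero_add_vecU, neg_neg] at h
    exact h
  · by_cases hq : q = none
    · rw [hq, ← eight_none_eq]
      exact M.add_mem (hM _ (fourPair_mem _) (norm_facts.2.2.2.1 _ pts_distinct.1.1))
        (hM _ (leechLattice.sub_mem (fourPair_mem _) (fourPair_mem _)) norm_facts.2.2.2.2)
    · exact hM _ (fourPair_mem q) (norm_facts.2.2.2.1 q hq)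

theorem closure_min :
    AddSubgroup.closure {x : GolayPt → ℤ | x ∈ leechLattice ∧ sqNorm x = 32} = leechLattice := by
  refine le_antisymm ((AddSubgroup.closure_le _).mpr fun x hx => hx.1) ?_
  exact closure_min_le _ fun x hx hn => AddSubgroup.subset_closure ⟨hx, hn⟩

/-- An automorphism trivial modulo two is central. -/
theorem central_of_trivial_mod_two {g : Co0}
    (h : ∀ v : leechLattice, cls ((g • v : leechLattice) : GolayPt → ℤ) = cls (v : GolayPt → ℤ)) :
    g ∈ Subgroup.center Co0 := by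
  have hpm : ∀ a : leechLattice, sqNorm (a : GolayPt → ℤ) = 32 → g • a = a ∨ g • a = -a := by
    intro a ha
    by_cases he : g • a = a
    · exact Or.inl he
    right
    rcases short_congr a.2 (fun e => he (Subtype.ext e)) (by rw [sqNorm_smul]; omega) (by omega)
      ((cls_eq_iff _ _).mp (h a)) with e | ⟨e, -, -⟩
    · exact Subtype.ext e
    · rw [sqNorm_smul, ha] at e; omega
  have hdot : ∀ a b : leechLattice, sqNorm (a : GolayPt → ℤ) = 32 → sqNorm (b : GolayPt → ℤ) = 32 →
      dotInt (a : GolayPt → ℤ) (b : GolayPt → ℤ) ≠ 0 →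
        (g • a = a → g • b = b) ∧ (g • a = -a → g • b = -b) := by
    intro a b ha hb hab
    have hd := dot_smul' g a b
    have hn : ∀ x y : GolayPt → ℤ, dotInt (-x) y = -dotInt x y ∧ dotInt x (-y) = -dotInt x y :=
      fun x y => ⟨by simp [dotInt], by simp [dotInt]⟩
    constructor <;> intro e <;> refine (hpm b hb).elim ?_ ?_ <;> intro e'
    · exact e'
    · exfalso; rw [e, e', AddSubgroup.coe_neg, (hn _ _).2] at hd; omega
    · exfalso; rw [e, e', AddSubgroup.coe_neg, (hn _ _).1] at hd; omega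
    · exact e'
  let c : GolayPt → leechLattice := fun q => ⟨stdC q, stdC_mem q⟩
  have hcn : ∀ q, sqNorm (c q : GolayPt → ℤ) = 32 := by
    show ∀ q, sqNorm (stdC q) = 32
    decide +kernel
  have hcd : ∀ q, dotInt (c none : GolayPt → ℤ) (c q : GolayPt → ℤ) ≠ 0 := by
    show ∀ q, dotInt (stdC none) (stdC q) ≠ 0
    decide +kernel
  have hc : ∀ q, (g • c none = c none → g • c q = c q) ∧ (g • c none = -c none → g • c q = -c q) :=
    fun q => hdot _ _ (hcn _) (hcn q) (hcd q)
  have key : ∀ q, (g • c none = c none → g • eightAt q = eightAt q) ∧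
      (g • c none = -c none → g • eightAt q = -eightAt q) := by
    intro q
    obtain ⟨r, hr⟩ := exists_ne q
    let a : GolayPt → ℤ := fun t => if t = q then 4 else if t = r then 4 else 0
    let b : GolayPt → ℤ := fun t => if t = q then 4 else if t = r then -4 else 0
    have ha : a ∈ leechLattice := by
      have : a = fun t => 4 * ((if t = q then (1 : ℤ) else 0) + (if t = r then 1 else 0)) := by
        funext t; by_cases h1 : t = q <;> by_cases h2 : t = r <;> simp_all [a]
      rw [this, four_mul_mem_iff, Finset.sum_add_distrib]; simp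
    have hb : b ∈ leechLattice := by
      have : b = fun t => 4 * ((if t = q then (1 : ℤ) else 0) - (if t = r then 1 else 0)) := by
        funext t; by_cases h1 : t = q <;> by_cases h2 : t = r <;> simp_all [b]
      rw [this, four_mul_mem_iff, Finset.sum_sub_distrib]; simp
    have hn : ∀ s : ℤ, s ^ 2 = 16 →
        ∑ t, (if t = q then 4 else if t = r then s else 0 : ℤ) ^ 2 = 32 := by
      intro s hs
      rw [Finset.sum_eq_add q r (Ne.symm hr) (fun t _ ht => by simp [ht.1, ht.2]) (by simp) (by simp)]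
      simp [hr, hs]
    have hd : ∀ s : ℤ, ∑ t, stdC q t * (if t = q then 4 else if t = r then s else 0) = -12 + s := by
      intro s
      rw [Finset.sum_eq_add q r (Ne.symm hr) (fun t _ ht => by simp [ht.1, ht.2]) (by simp) (by simp)]
      simp [hr, stdC]
    have key : eightAt q = (⟨a, ha⟩ : leechLattice) + ⟨b, hb⟩ := by
      refine Subtype.ext (funext fun t => ?_)
      show (eightAt q : GolayPt → ℤ) t = a t + b t
      rw [eightAt_apply]
      by_cases h1 : t = q <;> by_cases h2 : t = r <;> simp [a, b, h1, h2, hr]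
    have h1 := hdot (c q) ⟨a, ha⟩ (hcn q) (hn 4 (by norm_num)) (by
      show ∑ t, stdC q t * a t ≠ 0
      rw [hd 4]; norm_num)
    have h2 := hdot (c q) ⟨b, hb⟩ (hcn q) (hn (-4) (by norm_num)) (by
      show ∑ t, stdC q t * b t ≠ 0
      rw [hd (-4)]; norm_num)
    constructor <;> intro e <;> rw [key, smul_add']
    · rw [h1.1 ((hc q).1 e), h2.1 ((hc q).1 e)]
    · rw [h1.2 ((hc q).2 e), h2.2 ((hc q).2 e), neg_add]
  rcases hpm (c none) (hcn none) with e | e
  · rw [show g = 1 from eq_of_mat_eq fun p q => by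
      simp only [mat, one_smul, (key q).1 e]]
    exact one_mem _
  · rw [show g = negAut from eq_of_mat_eq fun p q => by
      simp only [mat, negAut_smul, (key q).2 e]]
    exact negAut_central

theorem invariant_subgroup (M : AddSubgroup (GolayPt → ℤ))
    (h2 : ∀ v ∈ leechLattice, (2 : ℤ) • v ∈ M) (hle : M ≤ leechLattice)
    (hinv : ∀ g : Co0, ∀ v : leechLattice, (v : GolayPt → ℤ) ∈ M →
      ((g • v : leechLattice) : GolayPt → ℤ) ∈ M) :
    (∀ x ∈ M, ∃ w ∈ leechLattice, x = (2 : ℤ) • w) ∨ M = leechLattice := by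
  by_cases hsub : ∀ x ∈ M, ∃ w ∈ leechLattice, x = (2 : ℤ) • w
  · exact Or.inl hsub
  right
  obtain ⟨x, hxM, hx2⟩ : ∃ x ∈ M, ¬ ∃ w ∈ leechLattice, x = (2 : ℤ) • w := by
    by_contra h
    exact hsub fun x hx => by_contra fun hx' => h ⟨x, hx, hx'⟩
  refine le_antisymm hle ?_
  obtain ⟨w, hw, hwx, hn⟩ := exists_short_rep (hle hxM)
  have hwM : w ∈ M := by
    obtain ⟨z, hz, he⟩ := (cls_eq_iff w x).mp hwx
    have : w = x + (2 : ℤ) • z := by rw [eq_add_of_sub_eq' he, two_zsmul, two_nsmul]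
    rw [this]
    exact M.add_mem hxM (h2 z hz)
  -- all shortest vectors lie in `M`
  refine closure_min_le M fun a ha han => ?_
  suffices ∀ b : leechLattice, sqNorm (b : GolayPt → ℤ) = 32 → (b : GolayPt → ℤ) ∈ M from
    this ⟨a, ha⟩ han
  obtain ⟨b₀, hb₀, hb₀M⟩ : ∃ b : leechLattice, sqNorm (b : GolayPt → ℤ) = 32 ∧
      (b : GolayPt → ℤ) ∈ M := by
    rcases hn with rfl | hn | hn | hn
    · exfalso
      obtain ⟨z, hz, he⟩ := (cls_eq_iff 0 x).mp hwx
      exact hx2 ⟨-z, leechLattice.neg_mem hz, by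
        rw [zero_sub] at he
        rw [smul_neg, two_zsmul, ← two_nsmul, ← he, neg_neg]⟩
    · exact ⟨⟨w, hw⟩, hn, hwM⟩
    · -- two vectors of squared length 48 differing by a shortest vector
      let u₁ : leechLattice := -Spor.leechV
      let u₂ : leechLattice := ⟨stdC none, stdC_mem none⟩ + Spor.leechU
      have hu : sqNorm (u₁ : GolayPt → ℤ) = 48 ∧ sqNorm (u₂ : GolayPt → ℤ) = 48 ∧
          sqNorm ((u₁ - u₂ : leechLattice) : GolayPt → ℤ) = 32 := by
        show sqNorm (-Spor.vecV) = 48 ∧ sqNorm (stdC none + Spor.vecU) = 48 ∧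
          sqNorm (-Spor.vecV - (stdC none + Spor.vecU)) = 32
        decide +kernel
      have hall : ∀ b : leechLattice, sqNorm (b : GolayPt → ℤ) = 48 → (b : GolayPt → ℤ) ∈ M := by
        intro b hb
        obtain ⟨g, hg⟩ := middle_transitive (v := ⟨w, hw⟩) (w := b) hn hb
        rw [← hg]; exact hinv g _ hwM
      exact ⟨u₁ - u₂, hu.2.2, M.sub_mem (hall u₁ hu.1) (hall u₂ hu.2.1)⟩
    · let u₁ : GolayPt → ℤ := fun p => if p = none ∨ p = some 0 ∨ p = pt 1 ∨ p = pt 2 then 4 else 0
      let u₂ : GolayPt → ℤ := fun p => if p = none ∨ p = some 0 ∨ p = pt 1 ∨ p = pt 3 then 4 else 0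
      have hu : sqNorm u₁ = 64 ∧ sqNorm u₂ = 64 ∧ sqNorm (u₁ - u₂) = 32 ∧
          LeechTest u₁ ∧ LeechTest u₂ := by decide +kernel
      have hall : ∀ b : leechLattice, sqNorm (b : GolayPt → ℤ) = 64 → (b : GolayPt → ℤ) ∈ M := by
        intro b hb
        obtain ⟨g, hg⟩ := frame_transitive (v := ⟨w, hw⟩) (w := b) hn hb
        rw [← hg]; exact hinv g _ hwM
      exact ⟨⟨u₁, mem_of_test hu.2.2.2.1⟩ - ⟨u₂, mem_of_test hu.2.2.2.2⟩, hu.2.2.1,
        M.sub_mem (hall ⟨u₁, mem_of_test hu.2.2.2.1⟩ hu.1)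
          (hall ⟨u₂, mem_of_test hu.2.2.2.2⟩ hu.2.1)⟩
  intro b hb
  obtain ⟨g, hg⟩ := min_transitive hb₀ hb
  rw [← hg]; exact hinv g _ hb₀M

theorem sqNorm_parity {w v : GolayPt → ℤ} (hw : w ∈ leechLattice)
    (h : cls v = cls w) : ((sqNorm v / 16 : ℤ) : ZMod 2) = ((sqNorm w / 16 : ℤ) : ZMod 2) := by
  obtain ⟨z, hz, he⟩ := (cls_eq_iff v w).mp h
  have hv : v = w + 2 • z := eq_add_of_sub_eq' he
  have hd : dotInt w (2 • z) = 2 * dotInt w z := by
    simp only [dotInt, Finset.mul_sum, Pi.smul_apply, nsmul_eq_mul, Nat.cast_ofNat]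
    exact Finset.sum_congr rfl fun i _ => by ring
  have hn : sqNorm v = sqNorm w + 4 * sqNorm z + 4 * dotInt w z := by
    rw [hv, sqNorm_add, sqNorm_smul_two, hd]; ring
  obtain ⟨a, ha⟩ := eight_dvd_dot hw hz
  obtain ⟨b, hb⟩ := sixteen_dvd_sqNorm hz
  obtain ⟨c, hc⟩ := sixteen_dvd_sqNorm hw
  rw [ZMod.intCast_eq_intCast_iff', hn, ha, hb, hc]
  omega

theorem form_triples :
    (let u := Spor.vecU; let v := stdC none
     let w : GolayPt → ℤ := fun p => if p = some 0 ∨ p = pt 1 then -4 else 0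
     LeechTest w ∧ sqNorm u = 32 ∧ sqNorm v = 32 ∧ sqNorm w = 32 ∧ sqNorm (u + v + w) = 32 ∧
       sqNorm (u + v) = 48 ∧ sqNorm (v + w) = 48 ∧ sqNorm (u + w) = 32) ∧
    (let u := Spor.vecU
     let v : GolayPt → ℤ := fun p => if p = none then -4 else if p = pt 1 then 4 else 0
     let w : GolayPt → ℤ := fun p => if p = pt 1 then -4 else if p = pt 2 then 4 else 0
     LeechTest v ∧ LeechTest w ∧ sqNorm v = 32 ∧ sqNorm w = 32 ∧ sqNorm (u + v + w) = 32 ∧
       sqNorm (u + v) = 32 ∧ sqNorm (v + w) = 32 ∧ sqNorm (u + w) = 64) := by decide +kernel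

theorem unique_form (Q : leechLattice → ZMod 2) (hcoset : ∀ v w, Q (v + (w + w)) = Q v)
    (hquad : ∀ u v w, Q (u + v + w) + Q u + Q v + Q w = Q (u + v) + Q (u + w) + Q (v + w))
    (hinv : ∀ (g : Co0) (v : leechLattice), Q (g • v) = Q v) (hne : ∃ v, Q v ≠ 0)
    (v : leechLattice) : Q v = ((sqNorm (v : GolayPt → ℤ) / 16 : ℤ) : ZMod 2) := by
  have hQ0 : Q 0 = 0 := by
    have h := hquad 0 0 0
    simp only [add_zero] at h
    revert h; generalize Q 0 = a; revert a; decide
  let a : ZMod 2 := Q Spor.leechU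
  let b : ZMod 2 := Q Spor.leechV
  let c : ZMod 2 := Q (eightAt none)
  have hU : sqNorm (Spor.leechU : GolayPt → ℤ) = 32 := form_triples.1.2.1
  have hV : sqNorm (Spor.leechV : GolayPt → ℤ) = 48 := by
    show sqNorm Spor.vecV = 48
    decide +kernel
  have ha : ∀ x : leechLattice, sqNorm (x : GolayPt → ℤ) = 32 → Q x = a := fun x hx => by
    obtain ⟨g, hg⟩ := min_transitive hx hU
    show Q x = Q Spor.leechU
    rw [← hg, hinv]
  have hb : ∀ x : leechLattice, sqNorm (x : GolayPt → ℤ) = 48 → Q x = b := fun x hx => by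
    obtain ⟨g, hg⟩ := middle_transitive hx hV
    show Q x = Q Spor.leechV
    rw [← hg, hinv]
  have hc : ∀ x : leechLattice, sqNorm (x : GolayPt → ℤ) = 64 → Q x = c := fun x hx => by
    obtain ⟨g, hg⟩ := frame_transitive hx (sqNorm_eightAt none)
    show Q x = Q (eightAt none)
    rw [← hg, hinv]
  obtain ⟨⟨t1, n1u, n1v, n1w, n1s, n1uv, n1vw, n1uw⟩,
    ⟨t2v, t2w, n2v, n2w, n2s, n2uv, n2vw, n2uw⟩⟩ := form_triples
  let u : leechLattice := Spor.leechU
  let v₁ : leechLattice := ⟨stdC none, stdC_mem none⟩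
  let w₁ : leechLattice :=
    ⟨fun p => if p = some 0 ∨ p = pt 1 then -4 else 0, mem_of_test t1⟩
  let v₂ : leechLattice :=
    ⟨fun p => if p = none then -4 else if p = pt 1 then 4 else 0, mem_of_test t2v⟩
  let w₂ : leechLattice :=
    ⟨fun p => if p = pt 1 then -4 else if p = pt 2 then 4 else 0, mem_of_test t2w⟩
  have h1 := hquad u v₁ w₁
  rw [ha (u + v₁ + w₁) n1s, ha u hU, ha v₁ n1v, ha w₁ n1w, hb (u + v₁) n1uv, ha (u + w₁) n1uw,
    hb (v₁ + w₁) n1vw] at h1
  have h2 := hquad u v₂ w₂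
  rw [ha (u + v₂ + w₂) n2s, ha u hU, ha v₂ n2v, ha w₂ n2w, ha (u + v₂) n2uv, hc (u + w₂) n2uw,
    ha (v₂ + w₂) n2vw] at h2
  have ha0 : a = 0 ∧ c = 0 := by
    revert h1 h2
    generalize a = A; generalize b = B; generalize c = C
    revert A B C; decide
  have hcls : ∀ (x y : leechLattice), cls (x : GolayPt → ℤ) = cls (y : GolayPt → ℤ) → Q x = Q y := by
    intro x y h
    obtain ⟨z, hz, he⟩ := (cls_eq_iff _ _).mp h
    have : x = y + ((⟨z, hz⟩ : leechLattice) + ⟨z, hz⟩) := Subtype.ext (by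
      rw [AddSubgroup.coe_add, AddSubgroup.coe_add, ← two_nsmul]
      exact eq_add_of_sub_eq' he)
    rw [this, hcoset]
  have hval : ∀ x : leechLattice, ∃ n : ℤ, Q x = (if n = 48 then b else 0) ∧
      ((sqNorm (x : GolayPt → ℤ) / 16 : ℤ) : ZMod 2) = (if n = 48 then 1 else 0) := by
    intro x
    obtain ⟨w, hw, he, hn⟩ := exists_short_rep x.2
    have hQ := hcls x ⟨w, hw⟩ he.symm
    have hP := sqNorm_parity hw (v := (x : GolayPt → ℤ)) he.symm
    rcases hn with rfl | hn | hn | hn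
    · refine ⟨0, hQ.trans hQ0, hP.trans ?_⟩
      simp [sqNorm]
    · refine ⟨32, hQ.trans ((ha _ hn).trans ha0.1), hP.trans ?_⟩
      rw [hn]; rfl
    · refine ⟨48, hQ.trans ((hb _ hn).trans (if_pos rfl).symm), hP.trans ?_⟩
      rw [hn]; rfl
    · refine ⟨64, hQ.trans ((hc _ hn).trans ha0.2), hP.trans ?_⟩
      rw [hn]; rfl
  have hb1 : b = 1 := by
    obtain ⟨x, hx⟩ := hne
    obtain ⟨n, h, -⟩ := hval x
    rcases eq_zero_or_one b with e | e
    · rw [e, ite_self] at h; exact absurd h hx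
    · exact e
  obtain ⟨n, h, h'⟩ := hval v
  rw [h, h', hb1]

end CfsgLib.Leech
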