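/-
The stabilisers of vectors of squared lengths 32 and 48 are simple.
-/
import Cfsg.Agent.Leech.Simple

set_option autoImplicit false
set_option linter.constructorNameAsVariable false

namespace CfsgLib.Leech

open Cfsg CfsgLib.Golay MulAction

attribute [local irreducible] shortVecs halfTable quarterTable codeFinset

theorem permHom_fix {v : leechLattice} (hconst : ∀ k, (v : GolayPt → ℤ) (some k) =
    (v : GolayPt → ℤ) (some 0)) {σ : M24} (hσ : (σ : Equiv.Perm GolayPt) none = none) :
    permHom σ • v = v := by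
  refine Subtype.ext (funext fun i => ?_)
  rw [permHom_apply, Equiv.Perm.inv_def]
  rcases i with _ | k
  · rw [(Equiv.symm_apply_eq _).mpr hσ.symm]
  · rcases hx : (σ : Equiv.Perm GolayPt).symm (some k) with _ | l
    · rw [Equiv.symm_apply_eq, hσ] at hx
      exact absurd hx (by simp)
    · rw [hconst l, hconst k]

/-- The point stabiliser in the group of the code inside the stabiliser of a vector. -/
def stabPointHom {v : leechLattice} (hconst : ∀ k, (v : GolayPt → ℤ) (some k) =
    (v : GolayPt → ℤ) (some 0)) : stabilizer M24 (none : GolayPt) →* stabilizer Co0 v :=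
  (permHom.comp (stabilizer M24 (none : GolayPt)).subtype).codRestrict _
    fun σ => permHom_fix hconst σ.2

theorem tAut_mem_stab {v : leechLattice} (hconst : ∀ k, (v : GolayPt → ℤ) (some k) =
    (v : GolayPt → ℤ) (some 0)) : tAut ∈ stabilizer Co0 v :=
  permHom_fix hconst rfl

theorem pow_of_commute {v : leechLattice} (hne : -v ≠ v) (hconst : ∀ k, (v : GolayPt → ℤ) (some k) =
    (v : GolayPt → ℤ) (some 0)) {g : Co0} (hg : g • v = v) (h : tAut * g * tAut⁻¹ = g) :
    g ^ 23 = 1 := by
  obtain ⟨n, rfl | rfl⟩ := commute_tAut h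
  · rw [← pow_mul tAut n, mul_comm, pow_mul, ← orderOf_tAut, pow_orderOf_eq_one, one_pow]
  · exfalso
    refine hne ?_
    have h1 : tAut ^ n • v = v :=
      (stabilizer Co0 v).pow_mem (tAut_mem_stab hconst) n
    rw [mul_smul, h1, negAut_smul] at hg
    exact hg

/-- An invariant 2-subgroup of the stabiliser has order one modulo 23. -/
theorem pow_two_mod {v : leechLattice} (hne : -v ≠ v) (hconst : ∀ k, (v : GolayPt → ℤ) (some k) =
    (v : GolayPt → ℤ) (some 0)) (H : Subgroup (stabilizer Co0 v)) {k : ℕ}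
    (hk : Nat.card H = 2 ^ k)
    (hinv : ∀ x ∈ H, (⟨tAut, tAut_mem_stab hconst⟩ : stabilizer Co0 v) * x *
      (⟨tAut, tAut_mem_stab hconst⟩)⁻¹ ∈ H) : 2 ^ k % 23 = 1 := by
  haveI := fact23
  have h := PrimeElement.card_modEq_one (t := (⟨tAut, tAut_mem_stab hconst⟩ : stabilizer Co0 v))
    (by rw [Subgroup.orderOf_mk, orderOf_tAut]) H hinv fun x hx hfix => by
      refine Subtype.ext ?_
      have h1 := pow_of_commute hne hconst x.2 (congrArg Subtype.val hfix)
      have h2 : (x : Co0) ^ 2 ^ k = 1 := by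
        have h3 : (⟨x, hx⟩ : H) ^ 2 ^ k = 1 := by rw [← hk]; exact pow_card_eq_one'
        have := congrArg (fun z : H => ((z : stabilizer Co0 v) : Co0)) h3
        simpa using this
      exact eq_one_of_pow h2 h1 (Nat.Coprime.pow_left k (by norm_num))
  rw [hk] at h
  exact h

theorem card_pow_two (X : Type*) [Finite X] [Nonempty X]
    (h : ∀ q : ℕ, q.Prime → q ∣ Nat.card X → q = 2) : ∃ k, Nat.card X = 2 ^ k :=
  ⟨_, Nat.eq_prime_pow_of_unique_prime_dvd Nat.card_pos.ne' fun hd hq => h _ hd hq⟩

/-- In the stabiliser of a vector constant away from the extra point, a proper normal subgroup has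
order a power of two congruent to one modulo 23. -/
theorem normal_cases {v : leechLattice}
    (habs : (v : GolayPt → ℤ) none ≠ (v : GolayPt → ℤ) (some 0) ∧
      (v : GolayPt → ℤ) none ≠ -(v : GolayPt → ℤ) (some 0) ∧ (v : GolayPt → ℤ) (some 0) ≠ 0 ∧
      (v : GolayPt → ℤ) none ≠ 0)
    (hconst : ∀ k, (v : GolayPt → ℤ) (some k) = (v : GolayPt → ℤ) (some 0))
    (N : Subgroup (stabilizer Co0 v)) [N.Normal] :
    N = ⊤ ∨ (∀ q : ℕ, q.Prime → q ∣ Nat.card N → q = 2) ∧
      (⟨tAut, tAut_mem_stab hconst⟩ : stabilizer Co0 v) ∉ N := by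
  haveI := fact23
  set t : stabilizer Co0 v := ⟨tAut, tAut_mem_stab hconst⟩ with htdef
  have ht : orderOf t = 23 := by rw [Subgroup.orderOf_mk, orderOf_tAut]
  have hsq : ¬ 23 ^ 2 ∣ Nat.card (stabilizer Co0 v) :=
    fun h => not_sq_dvd_card (h.trans (Subgroup.card_subgroup_dvd_card _))
  by_cases h23 : 23 ∣ Nat.card N
  · left
    haveI := m23_simple none
    obtain ⟨htN, hdec⟩ := PrimeElement.mem_of_dvd ht hsq N h23
    have hKtop : N.comap (stabPointHom hconst) = ⊤ := by
      refine (Subgroup.Normal.eq_bot_or_eq_top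
        (inferInstance : (N.comap (stabPointHom hconst)).Normal)).resolve_left fun h => ?_
      have h1 : (⟨trans23, trans23_apply.1⟩ : stabilizer M24 (none : GolayPt)) ∈
          N.comap (stabPointHom hconst) := htN
      rw [h, Subgroup.mem_bot] at h1
      have h2 := congrArg (fun s : stabilizer M24 (none : GolayPt) =>
        ((s : M24) : Equiv.Perm GolayPt) (some 0)) h1
      simp [trans23_apply.2] at h2
    refine (Subgroup.eq_top_iff' N).mpr fun g => ?_
    obtain ⟨n, hn, k, hk⟩ := hdec g
    have hm : ((n * g : stabilizer Co0 v) : Co0) ∈ monoGroup :=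
      mem_monoGroup_of_conj (k := k) (by simpa [htdef] using congrArg Subtype.val hk)
    obtain ⟨⟨w, σ⟩, hwσ⟩ := (mem_monoGroup_iff _).mp hm
    have hfix : monoAut (w, σ) • v = v := by rw [hwσ]; exact (n * g).2
    have hval : ∀ i, (if (w : GolayPt → ZMod 2) i = 1 then
        -(v : GolayPt → ℤ) ((σ : Equiv.Perm GolayPt)⁻¹ i) else
          (v : GolayPt → ℤ) ((σ : Equiv.Perm GolayPt)⁻¹ i)) = (v : GolayPt → ℤ) i := fun i => by
      have := congrFun (congrArg Subtype.val hfix) i
      rwa [monoAut, mul_smul, signAut_apply] at this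
    have hσ : (σ : Equiv.Perm GolayPt) none = none := by
      have := hval ((σ : Equiv.Perm GolayPt) none)
      rw [Equiv.Perm.inv_def, Equiv.symm_apply_apply] at this
      rcases hx : (σ : Equiv.Perm GolayPt) none with _ | l
      · rfl
      · rw [hx, hconst l] at this
        split at this
        · exact absurd this (fun e => habs.2.1 (by omega))
        · exact absurd this habs.1
    have hw : w = 0 := by
      refine Subtype.ext (funext fun i => ?_)
      rcases eq_zero_or_one ((w : GolayPt → ZMod 2) i) with e | e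
      · exact e
      have := hval i
      rw [if_pos e] at this
      exfalso
      rcases i with _ | k
      · rw [Equiv.Perm.inv_def, (Equiv.symm_apply_eq _).mpr hσ.symm] at this
        exact habs.2.2.2 (by omega)
      · rw [Equiv.Perm.inv_def] at this
        rcases hx : (σ : Equiv.Perm GolayPt).symm (some k) with _ | l
        · rw [Equiv.symm_apply_eq, hσ] at hx; exact absurd hx (by simp)
        · rw [hx, hconst l, hconst k] at this
          exact habs.2.2.1 (by omega)
    have hng : n * g = stabPointHom hconst ⟨σ, hσ⟩ := by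
      refine Subtype.ext ?_
      rw [← hwσ, hw, monoAut, signAut_zero, one_mul]
      rfl
    have hmem : n * g ∈ N := by
      rw [hng, ← Subgroup.mem_comap, hKtop]; exact Subgroup.mem_top _
    exact (N.mul_mem_cancel_left hn).mp hmem
  · right
    refine ⟨two_group_of_normal (stabilizer Co0 v) (tAut_mem_stab hconst) N h23, fun htN => h23 ?_⟩
    have h1 : orderOf (⟨t, htN⟩ : N) = 23 := by rw [Subgroup.orderOf_mk, ht]
    exact h1 ▸ orderOf_dvd_natCard _

theorem stdC_base : ((-stdC none (none : GolayPt) : ℤ) ≠ stdC none none) ∧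
    (∀ k, stdC none (some k) = stdC none (some (0 : ZMod 23))) ∧
    (stdC none none ≠ stdC none (some (0 : ZMod 23))) ∧
    (stdC none none ≠ -stdC none (some (0 : ZMod 23))) ∧ stdC none (some (0 : ZMod 23)) ≠ 0 ∧
    stdC none (none : GolayPt) ≠ 0 := by
  decide +kernel

theorem vecV_base : ((-Spor.vecV none : ℤ) ≠ Spor.vecV none) ∧
    (∀ k, Spor.vecV (some k) = Spor.vecV (some 0)) ∧
    (Spor.vecV none ≠ Spor.vecV (some 0)) ∧
    (Spor.vecV none ≠ -Spor.vecV (some 0)) ∧ Spor.vecV (some 0) ≠ 0 ∧ Spor.vecV none ≠ 0 := by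
  decide +kernel

theorem no_pow_two_mod : ∀ k ≤ 22, 2 ^ k % 23 = 1 → k = 0 ∨ k = 11 ∨ k = 22 := by decide +kernel

theorem gl_eleven : ¬ 125 ∣ ∏ i : Fin 11, (2 ^ 11 - 2 ^ (i : ℕ)) := by decide +kernel

/-- An elementary abelian group of order `2 ^ 11` admits no faithful action of a group of order
125. -/
theorem no_faithful_125 {M R : Type*} [CommGroup M] [Finite M] [Group R]
    (hM : Nat.card M = 2 ^ 11) (h2 : ∀ x : M, x * x = 1) (hR : Nat.card R = 125)
    (f : R →* MulAut M) (hf : Function.Injective f) : False := by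
  letI : Module (ZMod 2) (Additive M) :=
    AddCommGroup.zmodModule fun x => by rw [two_nsmul]; exact h2 (Additive.toMul x)
  haveI : Fact (Nat.Prime 2) := ⟨by norm_num⟩
  have hfin : Module.finrank (ZMod 2) (Additive M) = 11 := by
    have h := Module.natCard_eq_pow_finrank (K := ZMod 2) (V := Additive M)
    rw [Nat.card_congr (Additive.toMul (α := M)), hM, Nat.card_zmod] at h
    exact (Nat.pow_right_injective (le_refl 2) h).symm
  let b := Module.finBasisOfFinrankEq (ZMod 2) (Additive M) hfin
  let lin : R → (Additive M →ₗ[ZMod 2] Additive M) := fun r =>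
    (MonoidHom.toAdditive (f r).toMonoidHom).toZModLinearMap 2
  let L : R →* (Additive M →ₗ[ZMod 2] Additive M) :=
    { toFun := lin
      map_one' := LinearMap.ext fun x => by
        show Additive.ofMul (f 1 (Additive.toMul x)) = x
        rw [map_one]; rfl
      map_mul' := fun r s => LinearMap.ext fun x => by
        show Additive.ofMul (f (r * s) (Additive.toMul x)) = _
        rw [map_mul]; rfl }
  let Φ : R →* GL (Fin 11) (ZMod 2) :=
    (((LinearMap.toMatrixAlgEquiv b).toAlgHom.toRingHom.toMonoidHom).comp L).toHomUnits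
  have hΦ : Function.Injective Φ := fun r s h => by
    refine hf (MulEquiv.ext fun x => ?_)
    have h1 : L r = L s := (LinearMap.toMatrixAlgEquiv b).injective (congrArg Units.val h)
    have h2 : Additive.ofMul (f r x) = Additive.ofMul (f s x) :=
      LinearMap.congr_fun h1 (Additive.ofMul x)
    exact Additive.ofMul.injective h2
  have h := Subgroup.card_dvd_of_injective Φ hΦ
  rw [hR, Matrix.card_GL_field, ZMod.card] at h
  exact gl_eleven h

/-- The stabiliser of a vector of squared length 48 is simple. -/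
theorem simple_stab_vecV : IsSimpleGroup (stabilizer Co0 Spor.leechV) := by
  have hn : sqNorm (Spor.leechV : GolayPt → ℤ) = 48 := by
    show sqNorm Spor.vecV = 48
    decide +kernel
  have hcard := card_stabilizer_48 hn
  haveI : Nontrivial (stabilizer Co0 Spor.leechV) := by
    rw [← Finite.one_lt_card_iff_nontrivial, hcard]
    norm_num
  refine ⟨fun N hN => ?_⟩
  rcases normal_cases (v := Spor.leechV) ⟨vecV_base.2.2.1, vecV_base.2.2.2.1, vecV_base.2.2.2.2⟩
    vecV_base.2.1 N with h | ⟨h2, -⟩
  · exact Or.inr h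
  left
  obtain ⟨k, hk⟩ := card_pow_two N h2
  have hdvd : 2 ^ k ∣ 495766656000 := hcard ▸ hk ▸ Subgroup.card_subgroup_dvd_card N
  have hk10 : k ≤ 10 := by
    by_contra h
    have : 2 ^ 11 ∣ 495766656000 := (Nat.pow_dvd_pow 2 (by omega)).trans hdvd
    norm_num at this
  have hmod := pow_two_mod (v := Spor.leechV)
    (fun e => vecV_base.1 (congrFun (congrArg Subtype.val e) none)) vecV_base.2.1 N hk
    (fun x hx => hN.conj_mem x hx _)
  rcases no_pow_two_mod k (by omega) hmod with rfl | h | h
  · exact Subgroup.card_eq_one.mp (by rw [hk, pow_zero])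
  all_goals omega

/-- The stabiliser of a vector of squared length 32 is simple. -/
theorem simple_stab_stdC : IsSimpleGroup (stabilizer Co0 (⟨stdC none, stdC_mem none⟩ : leechLattice)) := by
  haveI := fact23
  set v : leechLattice := ⟨stdC none, stdC_mem none⟩
  have hn : sqNorm (v : GolayPt → ℤ) = 32 := by
    show sqNorm (stdC none) = 32
    decide +kernel
  have hconst : ∀ k, (v : GolayPt → ℤ) (some k) = (v : GolayPt → ℤ) (some 0) := stdC_base.2.1
  have habs := And.intro stdC_base.2.2.1 (And.intro stdC_base.2.2.2.1 stdC_base.2.2.2.2)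
  have hne : -v ≠ v := fun e => stdC_base.1 (congrFun (congrArg Subtype.val e) none)
  have hcard := card_stabilizer_32 hn
  haveI : Nontrivial (stabilizer Co0 v) := by
    rw [← Finite.one_lt_card_iff_nontrivial, hcard]
    norm_num
  set t : stabilizer Co0 v := ⟨tAut, tAut_mem_stab hconst⟩
  refine ⟨fun N hN => ?_⟩
  rcases normal_cases (v := v) habs hconst N with h | ⟨h2, htN⟩
  · exact Or.inr h
  left
  obtain ⟨k, hk⟩ := card_pow_two N h2
  have hdvd : 2 ^ k ∣ 42305421312000 := hcard ▸ hk ▸ Subgroup.card_subgroup_dvd_card N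
  have hk18 : k ≤ 18 := by
    by_contra h
    have : 2 ^ 19 ∣ 42305421312000 := (Nat.pow_dvd_pow 2 (by omega)).trans hdvd
    norm_num at this
  have hmod := pow_two_mod (v := v) hne hconst N hk (fun x hx => hN.conj_mem x hx _)
  rcases no_pow_two_mod k (by omega) hmod with rfl | rfl | h
  · exact Subgroup.card_eq_one.mp (by rw [hk, pow_zero])
  swap; · omega
  exfalso
  haveI : Fact (Nat.Prime 2) := ⟨by norm_num⟩
  have hall : ∀ {H : Subgroup (stabilizer Co0 v)}, H ≤ N → H.Normal → H ≠ ⊥ → H = N := by
    intro H hH hHn hbot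
    have hd : Nat.card H ∣ 2 ^ 11 := hk ▸ Subgroup.card_dvd_of_le hH
    obtain ⟨j, hj11, hj⟩ := (Nat.dvd_prime_pow (by norm_num)).mp hd
    have hmj := pow_two_mod (v := v) hne hconst H hj (fun x hx => hHn.conj_mem x hx _)
    rcases no_pow_two_mod j (by omega) hmj with rfl | rfl | h
    · exact absurd (Subgroup.card_eq_one.mp (by rw [hj, pow_zero])) hbot
    · exact Subgroup.eq_of_le_of_card_ge hH (by rw [hk, hj])
    · omega
  haveI hNnt : Nontrivial N := by
    rw [← Finite.one_lt_card_iff_nontrivial, hk]; norm_num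
  have hp : IsPGroup 2 N := IsPGroup.of_card hk
  have hcomm : ∀ x ∈ N, ∀ y ∈ N, x * y = y * x := by
    let Z : Subgroup (stabilizer Co0 v) := N ⊓ Subgroup.centralizer (N : Set (stabilizer Co0 v))
    have hZn : Z.Normal := inferInstance
    have hZ : Z = N := hall inf_le_left hZn (by
      haveI := hp.center_nontrivial
      obtain ⟨⟨z, hz⟩, hz1⟩ := exists_ne (1 : Subgroup.center N)
      intro h
      refine hz1 (Subtype.ext (Subtype.ext ?_))
      have hzm : (z : stabilizer Co0 v) ∈ Z := ⟨z.2, Subgroup.mem_centralizer_iff.mpr fun y hy =>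
        congrArg Subtype.val (Subgroup.mem_center_iff.mp hz ⟨y, hy⟩)⟩
      rw [h, Subgroup.mem_bot] at hzm
      exact hzm)
    intro x hx y hy
    exact (Subgroup.mem_centralizer_iff.mp (hZ.ge hx).2 y hy).symm
  let Ω : Subgroup (stabilizer Co0 v) :=
    { carrier := {x | x ∈ N ∧ x * x = 1}
      one_mem' := ⟨one_mem N, one_mul 1⟩
      mul_mem' := fun {a b} ha hb => ⟨mul_mem ha.1 hb.1, by
        calc a * b * (a * b) = a * (b * a) * b := by group
          _ = a * (a * b) * b := by rw [hcomm b hb.1 a ha.1]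
          _ = (a * a) * (b * b) := by group
          _ = 1 := by rw [ha.2, hb.2, one_mul]⟩
      inv_mem' := fun {a} ha => ⟨inv_mem ha.1, by rw [← mul_inv_rev, ha.2, inv_one]⟩ }
  have hΩn : Ω.Normal := ⟨fun x hx g => ⟨hN.conj_mem x hx.1 g, by
    calc g * x * g⁻¹ * (g * x * g⁻¹) = g * (x * x) * g⁻¹ := by group
      _ = 1 := by rw [hx.2]; group⟩⟩
  have hΩ : Ω = N := hall (fun x hx => hx.1) hΩn (by
    obtain ⟨x, hx⟩ := exists_prime_orderOf_dvd_card' 2
      (show 2 ∣ Nat.card N by rw [hk]; norm_num)
    intro h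
    have hx2 : (x : stabilizer Co0 v) ∈ Ω := ⟨x.2, by
      rw [← sq, ← Subgroup.coe_pow, ← hx, pow_orderOf_eq_one]; rfl⟩
    rw [h, Subgroup.mem_bot] at hx2
    rw [show x = 1 from Subtype.ext hx2, orderOf_one] at hx
    omega)
  -- the centraliser of `N` has order prime to five
  let C : Subgroup (stabilizer Co0 v) := Subgroup.centralizer (N : Set (stabilizer Co0 v))
  have hCn : C.Normal := inferInstance
  have hC5 : ∀ q : ℕ, q.Prime → q ∣ Nat.card C → q = 2 := by
    rcases normal_cases (v := v) habs hconst C with h | ⟨h, -⟩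
    · exfalso
      have h1 : ∀ x ∈ N, x = 1 := by
        intro x hx
        refine Subtype.ext ?_
        have hc : x * t = t * x := Subgroup.mem_centralizer_iff.mp (h.ge (Subgroup.mem_top t)) x hx
        have hfix : t * x * t⁻¹ = x := by rw [← hc, mul_assoc, mul_inv_cancel, mul_one]
        have ha := pow_of_commute hne hconst x.2 (congrArg Subtype.val hfix)
        have hb := congrArg Subtype.val (hΩ.ge hx).2
        exact eq_one_of_pow (a := 2) (by rw [sq]; exact hb) ha (by norm_num)
      have := Subgroup.card_eq_one.mpr ((Subgroup.eq_bot_iff_forall N).mpr h1)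
      rw [hk] at this
      norm_num at this
    · exact h
  haveI : Fact (Nat.Prime 5) := ⟨by norm_num⟩
  obtain ⟨R, hR⟩ := Sylow.exists_subgroup_card_pow_prime 5 (n := 3)
    (show 5 ^ 3 ∣ Nat.card (stabilizer Co0 v) by rw [hcard]; norm_num)
  letI : CommGroup N :=
    { (inferInstance : Group N) with mul_comm := fun a b => Subtype.ext (hcomm a a.2 b b.2) }
  refine no_faithful_125 (M := N) (R := R) hk ?_ (by rw [hR]; norm_num)
    ((MulAut.conjNormal (H := N)).comp R.subtype) ?_
  · intro x
    exact Subtype.ext (hΩ.ge x.2).2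
  · rw [injective_iff_map_eq_one]
    intro r hr
    refine Subtype.ext ?_
    have hrC : (r : stabilizer Co0 v) ∈ C := Subgroup.mem_centralizer_iff.mpr fun x hx => by
      have h1 := congrArg Subtype.val (DFunLike.congr_fun hr ⟨x, hx⟩)
      have h1' : (r : stabilizer Co0 v) * x * (r : stabilizer Co0 v)⁻¹ = x := h1
      conv_lhs => rw [← h1']
      group
    have ho1 : orderOf (⟨r, hrC⟩ : C) ∣ Nat.card C := orderOf_dvd_natCard _
    rw [Subgroup.orderOf_mk] at ho1
    have ho2 : orderOf (r : stabilizer Co0 v) ∣ 5 ^ 3 := by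
      rw [Subgroup.orderOf_coe, ← hR]; exact orderOf_dvd_natCard r
    obtain ⟨j, -, hj⟩ := (Nat.dvd_prime_pow (by norm_num)).mp ho2
    rcases Nat.eq_zero_or_pos j with rfl | hjp
    · rw [pow_zero] at hj; exact orderOf_eq_one_iff.mp hj
    · rw [hj] at ho1
      have := hC5 5 (by norm_num) ((dvd_pow_self 5 hjp.ne').trans ho1)
      omega

theorem simple_stab_of_norm {v₀ : leechLattice} {n : ℤ} (h₀ : IsSimpleGroup (stabilizer Co0 v₀))
    (hn₀ : sqNorm (v₀ : GolayPt → ℤ) = n)
    (htr : ∀ {a b : leechLattice}, sqNorm (a : GolayPt → ℤ) = n → sqNorm (b : GolayPt → ℤ) = n →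
      ∃ g : Co0, g • a = b)
    {v : leechLattice} (hv : sqNorm (v : GolayPt → ℤ) = n) : IsSimpleGroup (stabilizer Co0 v) := by
  obtain ⟨g, hg⟩ := htr hn₀ hv
  exact (MulAction.stabilizerEquivStabilizer hg.symm).isSimpleGroup_congr.mp h₀

theorem isCo2_stab {v : leechLattice} (hv : sqNorm (v : GolayPt → ℤ) = 32) :
    IsCo2 (stabilizer Co0 v) :=
  ⟨simple_stab_of_norm simple_stab_stdC (show sqNorm (stdC none) = 32 by decide +kernel)
    min_transitive hv, card_stabilizer_32 hv⟩

theorem isCo3_stab {v : leechLattice} (hv : sqNorm (v : GolayPt → ℤ) = 48) :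
    IsCo3 (stabilizer Co0 v) :=
  ⟨simple_stab_of_norm simple_stab_vecV (show sqNorm Spor.vecV = 48 by decide +kernel)
    middle_transitive hv, card_stabilizer_48 hv⟩

end CfsgLib.Leech
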