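/-
Facts on the stabilisers of classes modulo twice the lattice, and centralisers of elements of
order 23 in the quotient of the automorphism group by its centre.
-/
import Cfsg.Agent.Leech.StabSimple
import Cfsg.Agent.Leech.Irreducible
import Cfsg.Agent.Golay.Mathieu

set_option autoImplicit false
set_option linter.constructorNameAsVariable false
set_option linter.style.haveILetI false

namespace CfsgLib.Leech

open Cfsg CfsgLib.Golay MulAction

attribute [local irreducible] shortVecs halfTable quarterTable codeFinset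

theorem cls_add (x y : GolayPt → ℤ) : cls (x + y) = cls x + cls y := rfl

theorem cls_zero : cls 0 = 0 := rfl

theorem cls_ne_zero {x : GolayPt → ℤ}
    (hn : sqNorm x = 32 ∨ sqNorm x = 48 ∨ sqNorm x = 64) : cls x ≠ cls 0 := by
  intro h
  obtain ⟨z, hz, he⟩ := (cls_eq_iff _ _).mp h
  rw [sub_zero] at he
  have h1 : sqNorm x = 4 * sqNorm z := by rw [he, sqNorm_smul_two]
  by_cases h0 : z = 0
  · subst h0
    have : sqNorm x = 0 := by rw [he]; simp [sqNorm]
    omega
  · have := sqNorm_ge hz h0; omega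

theorem center_sq {g : Co0} (h : g ∈ Subgroup.center Co0) : g * g = 1 := by
  have h' : g ∈ (Subgroup.center Co0 : Set Co0) := h
  rw [center_eq] at h'
  rcases h' with rfl | rfl
  · exact one_mul 1
  · exact negAut_sq

theorem fix_or_neg_of_cls {v : leechLattice} (hv : sqNorm (v : GolayPt → ℤ) = 32) {g : Co0}
    (h : cls ((g • v : leechLattice) : GolayPt → ℤ) = cls (v : GolayPt → ℤ)) :
    g • v = v ∨ g • v = -v := by
  by_cases he : g • v = v
  · exact Or.inl he
  right
  rcases short_congr v.2 (fun e => he (Subtype.ext e)) (by rw [sqNorm_smul]; omega) (by omega)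
    ((cls_eq_iff _ _).mp h) with e | ⟨e, -, -⟩
  · exact Subtype.ext e
  · rw [sqNorm_smul, hv] at e; omega

theorem cls_fix_iff_mono {v : leechLattice} {g₀ : Co0} (h₀ : g₀ • v = eightAt none) (g : Co0) :
    cls ((g • v : leechLattice) : GolayPt → ℤ) = cls (v : GolayPt → ℤ) ↔
      g₀ * g * g₀⁻¹ ∈ monoGroup := by
  have hv : g₀⁻¹ • eightAt none = v := by rw [← h₀, inv_smul_smul]
  show _ ↔ cls (((g₀ * g * g₀⁻¹) • eightAt none : leechLattice) : GolayPt → ℤ) = _
  rw [mul_smul, mul_smul, hv]
  constructor <;> intro h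
  · rw [cls_smul g₀ h, h₀]
  · have h' := cls_smul g₀⁻¹ h
    rwa [inv_smul_smul, hv] at h'

/-- An involution commuting with an element of order 23 in the simple quotient is trivial. -/
theorem commute23_co1 {a b : Spor.Co1} (ha : orderOf a = 23) (hc : Commute a b) (hb : b * b = 1) :
    b = 1 := by
  haveI := fact23
  obtain ⟨a₀, rfl⟩ := QuotientGroup.mk'_surjective _ a
  obtain ⟨b₀, rfl⟩ := QuotientGroup.mk'_surjective _ b
  set p := QuotientGroup.mk' (Subgroup.center Co0)
  have h23 : p a₀ ^ 23 = 1 := by rw [← ha]; exact pow_orderOf_eq_one _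
  set a₁ := a₀ ^ 24 with ha₁
  have hpa : p a₁ = p a₀ := by rw [ha₁, map_pow, pow_succ, h23, one_mul]
  have ha₁o : orderOf a₁ = 23 := by
    refine orderOf_eq_prime ?_ fun e => ?_
    · have hz := center_sq ((QuotientGroup.eq_one_iff (a₀ ^ 23)).mp (show p (a₀ ^ 23) = 1 by
        rw [map_pow, h23]))
      rw [ha₁, ← pow_mul, show 24 * 23 = 23 * 2 * 12 by norm_num, pow_mul, pow_mul,
        pow_two, hz, one_pow]
    · rw [e, map_one] at hpa
      rw [← hpa, orderOf_one] at ha
      omega
  have hsyl : ∀ {x : Co0}, orderOf x = 23 →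
      ∃ P : Sylow 23 Co0, (P : Subgroup Co0) = Subgroup.zpowers x := by
    intro x hx
    refine ⟨Sylow.ofCard (Subgroup.zpowers x) ?_, rfl⟩
    have h1 : (Nat.card Co0).factorization 23 = 1 := by
      have hd : 23 ∣ Nat.card Co0 := hx ▸ orderOf_dvd_natCard x
      have hpos := fact23.out.factorization_pos_of_dvd Nat.card_pos.ne' hd
      by_contra hne
      exact not_sq_dvd_card ((Nat.pow_dvd_pow 23 (by omega)).trans (Nat.ordProj_dvd _ 23))
    rw [Nat.card_zpowers, hx, h1, pow_one]
  obtain ⟨P, hP⟩ := hsyl ha₁o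
  obtain ⟨R, hR⟩ := hsyl orderOf_tAut
  obtain ⟨h, hh⟩ := MulAction.exists_smul_eq Co0 R P
  have hmem : h * tAut * h⁻¹ ∈ Subgroup.zpowers a₁ := by
    rw [← hP, ← hh, Sylow.coe_subgroup_smul, hR]
    exact ⟨tAut, Subgroup.mem_zpowers _, rfl⟩
  obtain ⟨k, hk⟩ := Subgroup.mem_zpowers_iff.mp hmem
  set b₁ := h⁻¹ * b₀ * h with hb₁
  have hct : Commute (p tAut) (p b₁) := by
    have e : p (h * tAut * h⁻¹) = p a₀ ^ k := by rw [← hk, map_zpow, hpa]
    have hck : Commute (p h * p tAut * (p h)⁻¹) (p b₀) := by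
      have : Commute (p a₀ ^ k) (p b₀) := hc.zpow_left k
      rwa [← e, map_mul, map_mul, map_inv] at this
    have := hck.map (MulAut.conj (p h)⁻¹).toMonoidHom
    simpa [b₁, map_mul, mul_assoc] using this
  set c := tAut * b₁ * tAut⁻¹ * b₁⁻¹ with hcdef
  have hcz : c ∈ Subgroup.center Co0 := (QuotientGroup.eq_one_iff c).mp (by
    show p c = 1
    rw [hcdef, map_mul, map_mul, map_mul, map_inv, map_inv, hct.eq]; group)
  have hiter : ∀ n : ℕ, tAut ^ n * b₁ * (tAut ^ n)⁻¹ = c ^ n * b₁ := by
    intro n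
    induction n with
    | zero => simp
    | succ n ih =>
      have hcomm : tAut * c ^ n = c ^ n * tAut :=
        (Subgroup.mem_center_iff.mp (pow_mem hcz n) tAut)
      calc tAut ^ (n + 1) * b₁ * (tAut ^ (n + 1))⁻¹
          = tAut * (tAut ^ n * b₁ * (tAut ^ n)⁻¹) * tAut⁻¹ := by rw [pow_succ']; group
        _ = (tAut * c ^ n) * b₁ * tAut⁻¹ := by rw [ih]; group
        _ = c ^ n * (tAut * b₁ * tAut⁻¹) := by rw [hcomm]; group
        _ = c ^ n * (c * b₁) := by
            rw [show tAut * b₁ * tAut⁻¹ = c * b₁ from (inv_mul_cancel_right _ b₁).symm]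
        _ = c ^ (n + 1) * b₁ := by rw [pow_succ]; exact (mul_assoc (c ^ n) c b₁).symm
  have hc1 : c = 1 := by
    have h1 := hiter 23
    rw [show tAut ^ 23 = 1 from orderOf_tAut ▸ pow_orderOf_eq_one tAut] at h1
    simp only [one_mul, inv_one, mul_one] at h1
    have h2 : c ^ 23 = 1 := by
      have h3 := congrArg (· * b₁⁻¹) h1
      simpa using h3.symm
    exact eq_one_of_pow h2 (by rw [sq]; exact center_sq hcz) (by norm_num)
  have hfix : tAut * b₁ * tAut⁻¹ = b₁ := by
    have := hiter 1
    rwa [pow_one, pow_one, hc1, one_mul] at this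
  have hb₁2 : p b₁ * p b₁ = 1 := by
    rw [hb₁, map_mul, map_mul, map_inv]
    calc (p h)⁻¹ * p b₀ * p h * ((p h)⁻¹ * p b₀ * p h)
        = (p h)⁻¹ * (p b₀ * p b₀) * p h := by group
      _ = 1 := by rw [hb]; group
  have hz2 : b₁ * b₁ * (b₁ * b₁) = 1 :=
    center_sq ((QuotientGroup.eq_one_iff (b₁ * b₁)).mp (by show p (b₁ * b₁) = 1; rw [map_mul, hb₁2]))
  have hsq : b₁ ^ 2 = 1 := by
    have h46 := pow_twentythree_or hfix
    rw [← pow_mul, show 23 * 2 = 2 + 4 * 11 by norm_num, pow_add, pow_mul,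
      show b₁ ^ 4 = 1 by rw [← hz2, show 4 = 2 * 2 from rfl, pow_mul, pow_two, pow_two]] at h46
    simpa using h46
  have hn : p b₁ = 1 := by
    obtain ⟨n, e | e⟩ := commute_tAut hfix
    all_goals
      have hN : p negAut = 1 := (QuotientGroup.eq_one_iff negAut).mpr negAut_central
      have h1 : p b₁ = p tAut ^ n := by rw [e]; simp [hN]
      have h2 : p b₁ ^ 2 = 1 := by rw [sq]; exact hb₁2
      have h3 : p b₁ ^ 23 = 1 := by
        rw [h1, ← pow_mul, mul_comm, pow_mul, ← map_pow,
          show tAut ^ 23 = 1 from orderOf_tAut ▸ pow_orderOf_eq_one tAut, map_one, one_pow]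
      exact eq_one_of_pow h2 h3 (by norm_num)
  show p b₀ = 1
  rw [show b₀ = h * b₁ * h⁻¹ by rw [hb₁]; group, map_mul, map_mul, hn, mul_one, ← map_mul,
    mul_inv_cancel, map_one]

/-- A normal subgroup of two-power exponent in the monomial group consists of sign changes. -/
theorem signs_of_normal {N : Subgroup monoGroup} [N.Normal]
    (h2 : ∀ q : ℕ, q.Prime → q ∣ Nat.card N → q = 2) {g : monoGroup} (hg : g ∈ N) :
    ∃ w, (g : Co0) = signAut w := by
  haveI := m24_simple
  haveI : (N.map monoPerm).Normal := Subgroup.Normal.map inferInstance _ monoPerm_surjective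
  have hbot : N.map monoPerm = ⊥ := by
    refine (Subgroup.Normal.eq_bot_or_eq_top (inferInstance : (N.map monoPerm).Normal)).resolve_right
      fun h => ?_
    have h1 : Nat.card (N.map monoPerm) ∣ Nat.card N := Subgroup.card_map_dvd _ monoPerm
    rw [h, Subgroup.card_top, card_M24] at h1
    have := h2 3 (by norm_num) ((by norm_num : 3 ∣ 244823040).trans h1)
    omega
  refine eq_signAut_of_monoPerm ?_
  rw [← Subgroup.mem_bot, ← hbot]
  exact ⟨g, hg, rfl⟩

theorem card_golayCode' : Nat.card golayCode = 4096 := by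
  have := card_code
  rw [show Nat.card codeAdd = Nat.card golayCode from rfl] at this
  rw [this]; norm_num

theorem permHom_central {σ : M24} (h : permHom σ ∈ Subgroup.center Co0) : σ = 1 := by
  have h' : permHom σ ∈ (Subgroup.center Co0 : Set Co0) := h
  rw [center_eq, permHom_eq_monoAut] at h'
  rcases h' with e | e
  · rw [← map_one permHom, permHom_eq_monoAut] at e
    exact congrArg Prod.snd (monoAut_injective e)
  · rw [Set.mem_singleton_iff, ← signAut_one, signAut_eq_monoAut] at e
    exact congrArg Prod.snd (monoAut_injective e)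

end CfsgLib.Leech
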