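/-
The monomial group is maximal: its overgroups have orbits on the frames of size one modulo 23,
and the sign changes cut the frames into blocks of size divisible by sixteen, apart from the
standard one and one orbit of the monomial group.
-/
import Cfsg.Agent.Leech.Simple
import Cfsg.Agent.Leech.Cross
import Cfsg.Agent.Leech.ModTwoStab
import Cfsg.Agent.Golay.OutTwo

set_option autoImplicit false
set_option linter.constructorNameAsVariable false

namespace CfsgLib.Leech.MonoMax

open Cfsg CfsgLib.Golay CfsgLib.Leech MulAction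

attribute [local irreducible] shortVecs halfTable quarterTable codeFinset

/-- The frames as cosets. -/
abbrev Fr : Type := ↥Cfsg.Co0 ⧸ monoGroup

/-- The vector of an element. -/
def vecOf (g : Co0) : leechLattice := g • eightAt none

theorem mk_eq_iff (a b : Co0) : (a : Fr) = (b : Fr) ↔
    cls (vecOf a : GolayPt → ℤ) = cls (vecOf b : GolayPt → ℤ) := by
  rw [QuotientGroup.eq]
  constructor
  · intro h
    have h2 := cls_smul a (show cls (((a⁻¹ * b) • eightAt none : leechLattice) : GolayPt → ℤ) =
      cls (eightAt none : GolayPt → ℤ) from h)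
    rw [← mul_smul, mul_inv_cancel_left] at h2
    exact h2.symm
  · intro h
    have h2 := cls_smul a⁻¹ h
    simp only [vecOf] at h2
    rw [inv_smul_smul, ← mul_smul] at h2
    exact h2.symm

theorem vecOf_norm (g : Co0) : sqNorm (vecOf g : GolayPt → ℤ) = 64 := by
  rw [vecOf, sqNorm_smul, sqNorm_eightAt]

theorem eq_one_iff (g : Co0) : (g : Fr) = ((1 : Co0) : Fr) ↔
    cls (vecOf g : GolayPt → ℤ) = cls (eightAt none : GolayPt → ℤ) := by
  rw [mk_eq_iff, vecOf, vecOf, one_smul]

/-- The sign changes as a group homomorphism. -/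
def signHom : Multiplicative golayCode →* Co0 where
  toFun w := signAut w.toAdd
  map_one' := signAut_zero
  map_mul' a b := (signAut_mul a.toAdd b.toAdd).symm

instance : MulAction (Multiplicative golayCode) Fr := MulAction.compHom Fr signHom

theorem sign_smul_mk (w : Multiplicative golayCode) (g : Co0) :
    w • (g : Fr) = ((signAut w.toAdd * g : Co0) : Fr) := rfl

theorem vecOf_sign (w : golayCode) (g : Co0) :
    (vecOf (signAut w * g) : GolayPt → ℤ) = flipSign w (vecOf g : GolayPt → ℤ) := by
  rw [vecOf, mul_smul, signAut_apply]; rfl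

/-- Words whose values on five points of a small word are those at a sixth. -/
theorem card_const_le {d : GolayPt → ZMod 2} (hd : 6 ≤ (support₂ d).card) :
    ∀ P : Submodule (ZMod 2) (GolayPt → ZMod 2),
      (∀ v ∈ P, v ∈ golayCode ∧ ∀ p q, d p = 1 → d q = 1 → v p = v q) → Nat.card P ≤ 128 := by
  intro P hP
  classical
  obtain ⟨T, hTd, hTc⟩ := Finset.exists_subset_card_eq hd
  obtain ⟨p₀, hp₀⟩ : T.Nonempty := Finset.card_pos.1 (by omega)
  set T' := T.erase p₀ with hT'
  have hT'c : T'.card = 5 := by rw [hT', Finset.card_erase_of_mem hp₀, hTc]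
  let L : golayCode →ₗ[ZMod 2] (↥T' → ZMod 2) :=
    { toFun := fun v p => (v : GolayPt → ZMod 2) p + (v : GolayPt → ZMod 2) p₀
      map_add' := fun u v => by funext p; simp only [Submodule.coe_add, Pi.add_apply]; abel
      map_smul' := fun r v => by funext p; simp [mul_add] }
  have hsurj : Function.Surjective L := by
    rw [← LinearMap.range_eq_top]
    by_contra hne
    obtain ⟨φ, hφ0, hφ⟩ := Submodule.exists_le_ker_of_lt_top _ (lt_top_iff_ne_top.2 hne)
    apply hφ0
    let a : GolayPt → ZMod 2 := fun p =>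
      if h : p ∈ T' then φ (Pi.single ⟨p, h⟩ 1) else if p = p₀ then ∑ t : ↥T', φ (Pi.single t 1) else 0
    have hp₀' : p₀ ∉ T' := by simp [hT']
    have horth : ∀ v : GolayPt → ZMod 2, v ∈ golayCode → ∑ p, a p * v p = 0 := by
      intro v hv
      have h1 : φ (L ⟨v, hv⟩) = 0 := hφ ⟨⟨v, hv⟩, rfl⟩
      rw [← Finset.univ_sum_single (L ⟨v, hv⟩), map_sum] at h1
      have h2 : ∀ t : ↥T', φ (Pi.single t (L ⟨v, hv⟩ t)) = φ (Pi.single t 1) * (v t + v p₀) := by
        intro t
        rw [show (Pi.single t (L ⟨v, hv⟩ t) : ↥T' → ZMod 2) = (v t + v p₀) • Pi.single t 1 by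
          rw [← Pi.single_smul', smul_eq_mul, mul_one]; rfl, map_smul, smul_eq_mul, mul_comm]
      simp only [h2, mul_add, Finset.sum_add_distrib] at h1
      rw [← Finset.sum_subset (Finset.subset_univ (insert p₀ T')) ?_,
        Finset.sum_insert hp₀']
      · rw [← h1, add_comm, ← Finset.sum_mul]
        congr 1
        · rw [← Finset.sum_coe_sort]
          exact Finset.sum_congr rfl fun t _ => by simp [a, t.2]
        · simp [a, hp₀']
      · intro p _ hp
        simp only [Finset.mem_insert, not_or] at hp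
        simp [a, hp.1, hp.2]
    have hac : a ∈ golayCode := Cert.mem_code_of_orth fun c => horth _ (vec_word_mem c)
    have hsupp : (support₂ a).card ≤ 6 := by
      refine (Finset.card_le_card ?_).trans hTc.le
      intro p hp
      simp only [support₂, Finset.mem_filter, Finset.mem_univ, true_and] at hp
      by_contra hpT
      have h1 : p ∉ T' := fun h => hpT (Finset.mem_of_mem_erase h)
      have h2 : p ≠ p₀ := fun h => hpT (h ▸ hp₀)
      exact hp (by simp [a, h1, h2])
    have ha0 : a = 0 := by
      have := hammingNorm_mem a hac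
      rw [← hammingNorm_eq_zero]
      rw [hammingNorm_eq] at this ⊢
      omega
    refine LinearMap.pi_ext' fun t => LinearMap.ext_ring ?_
    show φ (Pi.single t 1) = 0
    have := congrFun ha0 t.1
    simpa [a, t.2] using this
  have hk : Nat.card (LinearMap.ker L) * 32 = 4096 := by
    have h1 := Submodule.card_eq_card_quotient_mul_card (LinearMap.ker L)
    rw [Nat.card_congr (L.quotKerEquivOfSurjective hsurj).toEquiv, Nat.card_fun,
      Nat.card_eq_fintype_card (α := ↥T'), Fintype.card_coe, hT'c, Nat.card_zmod,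
      card_golayCode'] at h1
    rw [h1]; ring
  refine (Nat.card_le_card_of_injective
    (fun v : P => (⟨⟨v.1, (hP _ v.2).1⟩, ?_⟩ : LinearMap.ker L)) ?_).trans (by omega)
  · rw [LinearMap.mem_ker]
    funext t
    have hd' : ∀ p ∈ T, d p = 1 := fun p hp => by
      have := hTd hp
      simpa [support₂, zmod2_ne_zero_iff] using this
    show v.1 t + v.1 p₀ = 0
    rw [(hP _ v.2).2 t p₀ (hd' _ (Finset.mem_of_mem_erase t.2)) (hd' _ hp₀)]
    exact CharTwo.add_self_eq_zero _
  · intro u v h
    exact Subtype.ext (congrArg (fun z : LinearMap.ker L => ((z : golayCode) : GolayPt → ZMod 2)) h)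

/-- A product inside a small word is empty or all of it. -/
theorem mul_const {d v : GolayPt → ZMod 2} (hd : d ∈ golayCode) (hdw : (support₂ d).card ≤ 12)
    (hvd : v * d ∈ golayCode) {p q : GolayPt} (hp : d p = 1) (hq : d q = 1) : v p = v q := by
  classical
  have hs : support₂ (v * d) ⊆ support₂ d := by
    intro r hr
    simp only [support₂, Finset.mem_filter, Finset.mem_univ, true_and, Pi.mul_apply] at hr ⊢
    exact fun h => hr (by rw [h, mul_zero])
  have hdiff : (support₂ (v * d + d)).card = (support₂ d).card - (support₂ (v * d)).card := by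
    rw [← Finset.card_sdiff_of_subset hs]
    congr 1
    ext r
    simp only [support₂, Finset.mem_sdiff, Finset.mem_filter, Finset.mem_univ, true_and,
      Pi.mul_apply, Pi.add_apply]
    generalize v r = a
    generalize d r = b
    revert a b; decide
  have h1 := hammingNorm_mem _ hvd
  have h2 := hammingNorm_mem _ (add_mem hvd hd)
  have h3 := hammingNorm_mem _ hd
  have h4 := Finset.card_le_card hs
  rw [hammingNorm_eq] at h1 h2 h3
  have h5 : (support₂ (v * d)).card = 0 ∨ (support₂ (v * d + d)).card = 0 := by omega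
  rcases h5 with h | h <;> rw [Finset.card_eq_zero] at h
  · have e := fun r => Finset.ext_iff.1 h r
    simp only [support₂, Finset.mem_filter, Finset.mem_univ, true_and, Pi.mul_apply,
      Finset.notMem_empty, iff_false, not_not] at e
    have ep := e p; have eq' := e q
    rw [hp, mul_one] at ep; rw [hq, mul_one] at eq'
    rw [ep, eq']
  · have e := fun r => Finset.ext_iff.1 h r
    simp only [support₂, Finset.mem_filter, Finset.mem_univ, true_and, Pi.mul_apply, Pi.add_apply,
      Finset.notMem_empty, iff_false, not_not] at e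
    have ep := e p; have eq' := e q
    rw [hp, mul_one] at ep; rw [hq, mul_one] at eq'
    exact add_right_cancel (ep.trans eq'.symm)

/-- The words keeping the class of a vector are few unless all coordinates are divisible by four. -/
theorem card_keep_le {x : GolayPt → ℤ} (hx : x ∈ leechLattice) (hn : sqNorm x = 64)
    (h4 : ¬ ∀ p, (4 : ℤ) ∣ x p) :
    Nat.card {w : golayCode // cls (flipSign w x) = cls x} ≤ 128 := by
  classical
  have hxc := mem_leech hx
  have hz : ∀ w : golayCode, cls (flipSign w x) = cls x →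
      InLeech fun p => if (w : GolayPt → ZMod 2) p = 1 then -x p else 0 := by
    intro w hw
    obtain ⟨z, hzL, he⟩ := (cls_eq_iff _ _).1 hw
    have : z = fun p => if (w : GolayPt → ZMod 2) p = 1 then -x p else 0 := by
      funext p
      have h := congrFun he p
      simp only [flipSign, Pi.sub_apply, Pi.smul_apply, nsmul_eq_mul, Nat.cast_ofNat] at h
      split_ifs at h ⊢ <;> omega
    exact this ▸ mem_leech hzL
  by_cases hodd : x none % 2 = 1
  · refine (Nat.card_le_card_of_injective
      (fun w : {w : golayCode // cls (flipSign w x) = cls x} => ((w.1 : GolayPt → ZMod 2) none)) ?_).trans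
      (by rw [Nat.card_zmod]; norm_num)
    have hconst : ∀ w : {w : golayCode // cls (flipSign w x) = cls x}, ∀ p,
        (w.1 : GolayPt → ZMod 2) p = (w.1 : GolayPt → ZMod 2) none := by
      intro w p
      have h := (hz _ w.2).par p
      have hp := hxc.par p
      rcases eq_zero_or_one ((w.1 : GolayPt → ZMod 2) p) with e | e <;>
        rcases eq_zero_or_one ((w.1 : GolayPt → ZMod 2) none) with e' | e' <;>
        rw [e, e'] at h ⊢ <;> first | rfl | (simp only [zero_ne_one, if_false, if_true] at h; omega)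
    intro u v h
    exact Subtype.ext (Subtype.ext (funext fun p => by rw [hconst u p, hconst v p]; exact h))
  set c := hi x with hc
  have hev : ∀ p, x p % 2 = 0 := fun p => by have := hxc.par p; omega
  have hprod : ∀ w : {w : golayCode // cls (flipSign w x) = cls x},
      (w.1 : GolayPt → ZMod 2) * c ∈ golayCode := by
    intro w
    convert (hz _ w.2).code using 1
    funext p
    have h2 := hev p
    rcases eq_zero_or_one ((w.1 : GolayPt → ZMod 2) p) with e | e
    · simp [hi, hc, e]
    · simp only [Pi.mul_apply, e, one_mul, hi, hc, if_true]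
      rw [ZMod.intCast_eq_intCast_iff']
      omega
  have hc0 : c ≠ 0 := fun h => h4 fun p => by
    have h2 := hev p
    have h1 := hi_apply_eq_one (x := x) p
    rw [← hc, h] at h1
    simp only [Pi.zero_apply, zero_ne_one, false_iff] at h1
    omega
  have hc1 : (support₂ c).card ≤ 16 := by
    have h : ∀ p ∈ support₂ c, (4 : ℤ) ≤ x p ^ 2 := by
      intro p hp
      simp only [support₂, Finset.mem_filter, Finset.mem_univ, true_and, zmod2_ne_zero_iff, hc,
        hi_apply_eq_one] at hp
      have h2 := hev p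
      rcases show x p ≤ -2 ∨ 2 ≤ x p by omega with h3 | h3 <;> nlinarith
    have h' := Finset.card_nsmul_le_sum _ _ _ h
    have h'' : ∑ p ∈ support₂ c, x p ^ 2 ≤ sqNorm x :=
      Finset.sum_le_sum_of_subset_of_nonneg (Finset.subset_univ _) fun p _ _ => sq_nonneg _
    rw [nsmul_eq_mul] at h'
    omega
  have hcw := hammingNorm_mem c hxc.code
  rw [hammingNorm_eq] at hcw
  have hc0' : (support₂ c).card ≠ 0 := fun h => hc0 (hammingNorm_eq_zero.1 (by rw [hammingNorm_eq, h]))
  obtain ⟨d, hdc, hd8, hd12, hd⟩ : ∃ d ∈ golayCode, 6 ≤ (support₂ d).card ∧ (support₂ d).card ≤ 12 ∧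
      ∀ w : {w : golayCode // cls (flipSign w x) = cls x}, (w.1 : GolayPt → ZMod 2) * d ∈ golayCode := by
    by_cases h12 : (support₂ c).card ≤ 12
    · exact ⟨c, hxc.code, by omega, h12, hprod⟩
    · have hcomp : (support₂ (c + 1)).card = 24 - (support₂ c).card := by
        rw [← card_golayPt, ← Finset.card_univ, ← Finset.card_sdiff_of_subset (Finset.subset_univ _)]
        congr 1
        ext r
        simp only [support₂, Finset.mem_sdiff, Finset.mem_filter, Finset.mem_univ, true_and,
          Pi.add_apply, Pi.one_apply]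
        generalize c r = a
        revert a; decide
      refine ⟨c + 1, add_mem hxc.code one_mem_code, by omega, by omega, fun w => ?_⟩
      rw [mul_add, mul_one]
      exact add_mem (hprod w) w.1.2
  let P : Submodule (ZMod 2) (GolayPt → ZMod 2) :=
    { carrier := {v | v ∈ golayCode ∧ ∀ p q, d p = 1 → d q = 1 → v p = v q}
      zero_mem' := ⟨zero_mem _, fun _ _ _ _ => rfl⟩
      add_mem' := fun hu hv => ⟨add_mem hu.1 hv.1, fun p q hp hq => by
        simp only [Pi.add_apply]; rw [hu.2 p q hp hq, hv.2 p q hp hq]⟩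
      smul_mem' := fun r v hv => ⟨Submodule.smul_mem _ r hv.1, fun p q hp hq => by
        simp only [Pi.smul_apply]; rw [hv.2 p q hp hq]⟩ }
  refine (Nat.card_le_card_of_injective (fun w : {w : golayCode // cls (flipSign w x) = cls x} =>
    (⟨(w.1 : GolayPt → ZMod 2), w.1.2, fun p q hp hq => mul_const hdc hd12 (hd w) hp hq⟩ : P))
    fun u v h => Subtype.ext (Subtype.ext (congrArg (fun z : P => (z : GolayPt → ZMod 2)) h))).trans
    (card_const_le hd8 P fun v hv => hv)

/-- A frame with all coordinates divisible by four, other than the standard one. -/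
def Special (q : Fr) : Prop :=
  q ≠ ((1 : Co0) : Fr) ∧ ∃ g : Co0, (g : Fr) = q ∧ ∀ p, (4 : ℤ) ∣ (vecOf g : GolayPt → ℤ) p

theorem sixteen_dvd_orbit {q : Fr} (h1 : q ≠ ((1 : Co0) : Fr)) (hs : ¬ Special q) :
    16 ∣ (orbit (Multiplicative golayCode) q).ncard := by
  obtain ⟨g, rfl⟩ := QuotientGroup.mk_surjective q
  have h4 : ¬ ∀ p, (4 : ℤ) ∣ (vecOf g : GolayPt → ℤ) p := fun h => hs ⟨h1, g, rfl, h⟩
  set E := stabilizer (Multiplicative golayCode) (g : Fr) with hE
  have hle : Nat.card E ≤ 128 := by
    refine le_trans ?_ (card_keep_le (vecOf g).2 (vecOf_norm g) h4)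
    refine Nat.card_le_card_of_injective
      (fun w : E => (⟨w.1.toAdd, ?_⟩ : {w : golayCode // cls (flipSign w (vecOf g : GolayPt → ℤ)) =
        cls (vecOf g : GolayPt → ℤ)})) ?_
    · have h := mem_stabilizer_iff.1 w.2
      rw [sign_smul_mk, mk_eq_iff, vecOf_sign] at h
      exact h
    · intro u v h
      simp only [Subtype.mk.injEq] at h
      exact Subtype.ext (Multiplicative.toAdd.injective h)
  have hmul : Nat.card E * (orbit (Multiplicative golayCode) (g : Fr)).ncard = 2 ^ 12 := by
    rw [← index_stabilizer, hE, Subgroup.card_mul_index]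
    exact card_golayCode'
  obtain ⟨j, -, hj⟩ := (Nat.dvd_prime_pow Nat.prime_two).1 (Dvd.intro_left _ hmul)
  rw [hj] at hmul ⊢
  have : 4 ≤ j := by
    by_contra hlt
    have : 2 ^ j ≤ 8 := le_trans (Nat.pow_le_pow_right (by norm_num) (show j ≤ 3 by omega)) (by norm_num)
    nlinarith
  exact dvd_trans (by norm_num) (pow_dvd_pow 2 this)

theorem sixteen_dvd (Z : Set Fr) (hinv : ∀ w : Multiplicative golayCode, ∀ q ∈ Z, w • q ∈ Z)
    (hZ : ∀ q ∈ Z, q ≠ ((1 : Co0) : Fr) ∧ ¬ Special q) : 16 ∣ Z.ncard := by
  induction h : Z.ncard using Nat.strong_induction_on generalizing Z with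
  | _ n ih =>
  rcases Z.eq_empty_or_nonempty with rfl | ⟨q, hq⟩
  · rw [← h, Set.ncard_empty]; exact dvd_zero _
  have hsub : orbit (Multiplicative golayCode) q ⊆ Z := by
    rintro _ ⟨w, rfl⟩; exact hinv w q hq
  have hsum := Set.ncard_sdiff_add_ncard_of_subset hsub (Set.toFinite Z)
  rw [← h, ← hsum]
  refine dvd_add ?_ (sixteen_dvd_orbit (hZ q hq).1 (hZ q hq).2)
  refine ih _ ?_ _ ?_ (fun r hr => hZ r hr.1) rfl
  · have : 0 < (orbit (Multiplicative golayCode) q).ncard :=
      (Set.ncard_pos (Set.toFinite _)).2 (nonempty_orbit q)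
    omega
  · intro w r hr
    refine ⟨hinv w r hr.1, fun hw => hr.2 ?_⟩
    rw [← orbit_eq_iff] at hw ⊢
    rw [← hw, orbit_smul]

/-- Four minus four and three fours on the base tetrad. -/
theorem to_quad {g : Co0} (h1 : (g : Fr) ≠ ((1 : Co0) : Fr))
    (h4 : ∀ p, (4 : ℤ) ∣ (vecOf g : GolayPt → ℤ) p) :
    ∃ m ∈ monoGroup, ((m • vecOf g : leechLattice) : GolayPt → ℤ) = quadVec := by
  have hn := vecOf_norm g
  set y := vecOf g
  choose z hz using h4
  have hz4 : ∑ p, z p ^ 2 = 4 := by
    have : sqNorm (y : GolayPt → ℤ) = 16 * ∑ p, z p ^ 2 := by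
      rw [sqNorm, Finset.mul_sum]; exact Finset.sum_congr rfl fun p _ => by rw [hz p]; ring
    omega
  have hsmall : ∀ p, z p ^ 2 < 4 := by
    intro i
    by_contra hi4
    refine h1 ((eq_one_iff g).2 ?_)
    have hsplit := Finset.add_sum_erase Finset.univ (fun p => z p ^ 2) (Finset.mem_univ i)
    rw [hz4] at hsplit
    have hnn : 0 ≤ ∑ p ∈ Finset.univ.erase i, z p ^ 2 := Finset.sum_nonneg fun p _ => sq_nonneg _
    have hr : ∀ p, p ≠ i → (y : GolayPt → ℤ) p = 0 := fun p hp => by
      have := (Finset.sum_eq_zero_iff_of_nonneg fun q _ => sq_nonneg (z q)).mp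
        (show ∑ q ∈ Finset.univ.erase i, z q ^ 2 = 0 by omega) p
        (Finset.mem_erase.mpr ⟨hp, Finset.mem_univ p⟩)
      rw [hz p, pow_eq_zero_iff two_ne_zero |>.mp this, mul_zero]
    have hy : (y : GolayPt → ℤ) = eightAt i ∨ (y : GolayPt → ℤ) = -(eightAt i : GolayPt → ℤ) := by
      rcases sq_eq_iff_abs (show z i ^ 2 = 2 ^ 2 by simp only [Int.reducePow]; omega) with e | e
      · left; funext p
        by_cases hp : p = i
        · subst hp; rw [hz p, e, eightAt_apply, if_pos rfl]; norm_num
        · rw [hr p hp, eightAt_apply, if_neg hp]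
      · right; funext p
        by_cases hp : p = i
        · subst hp; rw [Pi.neg_apply, hz p, e, eightAt_apply, if_pos rfl]; norm_num
        · rw [hr p hp, Pi.neg_apply, eightAt_apply, if_neg hp, neg_zero]
    rcases hy with e | e <;> rw [e]
    exacts [cls_eightAt i, (cls_neg (eightAt i).2).trans (cls_eightAt i)]
  have hsq : ∀ p, z p ^ 2 = if z p ≠ 0 then 1 else 0 := by
    intro p
    have h1 : z p = -1 ∨ z p = 0 ∨ z p = 1 := by
      have := hsmall p
      have : -2 < z p ∧ z p < 2 := ⟨by nlinarith, by nlinarith⟩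
      omega
    rcases h1 with e | e | e <;> rw [e] <;> norm_num
  rw [Finset.sum_congr rfl fun p _ => hsq p, Finset.sum_boole] at hz4
  obtain ⟨a, t, ha, hset, ht⟩ := Finset.card_eq_succ.mp
    (show (Finset.univ.filter fun p => z p ≠ 0).card = 3 + 1 by exact_mod_cast hz4)
  obtain ⟨b, c, d, hbc, hbd, hcd, rfl⟩ := Finset.card_eq_three.mp ht
  simp only [Finset.mem_insert, Finset.mem_singleton, not_or] at ha
  obtain ⟨σ, g1, g2, g3, g4⟩ := exists_mem_map_four ha.1 ha.2.1 ha.2.2 hbc hbd hcd
  obtain ⟨k, -, k1, k2, k3, k4⟩ := quadList_spec (if z a = 1 then 1 else 0)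
    (if z b = 1 then 0 else 1) (if z c = 1 then 0 else 1) (if z d = 1 then 0 else 1)
  have hne : ∀ p, z p ≠ 0 ↔ p = a ∨ p = b ∨ p = c ∨ p = d := fun p => by
    have := Finset.ext_iff.mp hset p
    simpa [eq_comm] using this.symm
  have hpm : ∀ p, z p ≠ 0 → z p = 1 ∨ z p = -1 := fun p hp0 => by
    have := hsq p
    rw [if_pos hp0] at this
    exact sq_eq_iff_abs (by rw [this]; norm_num)
  refine ⟨signAut ⟨_, vec_word_mem k⟩ * (permHom σ)⁻¹,
    monoGroup.mul_mem (signAut_mem _) (monoGroup.inv_mem (permHom_mem σ)), ?_⟩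
  rw [mul_smul, signAut_apply]
  funext p
  show flipSign (vec (word k)) _ p = quadVec p
  simp only [flipSign, permHom_inv_apply, hz, quadVec]
  by_cases p0 : p = none
  · subst p0
    rw [g1, k1]
    rcases hpm a ((hne a).mpr (Or.inl rfl)) with e | e <;> simp [e]
  by_cases p1 : p = some 0
  · subst p1
    rw [g2, k2]
    rcases hpm b ((hne b).mpr (Or.inr (Or.inl rfl))) with e | e <;> simp [e]
  by_cases p2 : p = pt 1
  · subst p2
    rw [g3, k3]
    rcases hpm c ((hne c).mpr (Or.inr (Or.inr (Or.inl rfl)))) with e | e <;>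
      simp [e, pts_distinct.1.1]
  by_cases p3 : p = pt 2
  · subst p3
    rw [g4, k4]
    rcases hpm d ((hne d).mpr (Or.inr (Or.inr (Or.inr rfl)))) with e | e <;>
      simp [e, pts_distinct.2.1.1]
  have : z ((σ : Equiv.Perm GolayPt) p) = 0 := by
    by_contra h0
    rcases (hne _).mp h0 with e | e | e | e
    · exact p0 ((σ : Equiv.Perm GolayPt).injective (e.trans g1.symm))
    · exact p1 ((σ : Equiv.Perm GolayPt).injective (e.trans g2.symm))
    · exact p2 ((σ : Equiv.Perm GolayPt).injective (e.trans g3.symm))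
    · exact p3 ((σ : Equiv.Perm GolayPt).injective (e.trans g4.symm))
  simp [this, p0, p1, p2, p3]

theorem special_conj {q r : Fr} (hq : Special q) (hr : Special r) : ∃ m ∈ monoGroup, m • q = r := by
  obtain ⟨hq1, g, rfl, hg⟩ := hq
  obtain ⟨hr1, h, rfl, hh⟩ := hr
  obtain ⟨m, hm, em⟩ := to_quad hq1 hg
  obtain ⟨n, hn, en⟩ := to_quad hr1 hh
  refine ⟨n⁻¹ * m, monoGroup.mul_mem (monoGroup.inv_mem hn) hm, ?_⟩
  show ((n⁻¹ * m * g : Co0) : Fr) = (h : Fr)
  rw [mk_eq_iff]
  congr 2
  have : m • vecOf g = n • vecOf h := Subtype.ext (em.trans en.symm)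
  rw [vecOf, mul_assoc, mul_smul, mul_smul]
  show n⁻¹ • m • vecOf g = vecOf h
  rw [this, inv_smul_smul]

theorem special_sign (w : Multiplicative golayCode) {q : Fr} (hq : Special q) : Special (w • q) := by
  obtain ⟨hq1, g, rfl, hg⟩ := hq
  refine ⟨fun e => hq1 ?_, signAut w.toAdd * g, rfl, fun p => ?_⟩
  · rw [sign_smul_mk] at e
    have hs := signAut_mem w.toAdd
    rw [QuotientGroup.eq, mul_one, mul_inv_rev] at e
    rw [QuotientGroup.eq, mul_one]
    have := monoGroup.mul_mem e hs
    rwa [inv_mul_cancel_right] at this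
  · rw [vecOf_sign]
    unfold flipSign
    split
    exacts [(hg p).neg_right, hg p]

/-- An invariant set of frames splits into the standard one, the special ones and blocks of sixteen. -/
theorem mod_sixteen (U : Set Fr) (h1 : ((1 : Co0) : Fr) ∈ U)
    (hinv : ∀ m ∈ monoGroup, ∀ q ∈ U, m • q ∈ U) :
    U.ncard % 16 = 1 ∨ U.ncard % 16 = (1 + {q : Fr | Special q}.ncard) % 16 := by
  have hs : ∀ w : Multiplicative golayCode, ∀ q ∈ U, w • q ∈ U := fun w q hq =>
    hinv _ (signAut_mem w.toAdd) q hq
  set Z := {q ∈ U | q ≠ ((1 : Co0) : Fr) ∧ ¬ Special q} with hZdef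
  have hZ : 16 ∣ Z.ncard := by
    refine sixteen_dvd Z (fun w q hq => ⟨hs w q hq.1, ?_, ?_⟩) fun q hq => hq.2
    · intro e
      apply hq.2.1
      have h := congrArg (fun r => w⁻¹ • r) e
      simp only [inv_smul_smul] at h
      rw [h, sign_smul_mk, QuotientGroup.eq, mul_one]
      exact monoGroup.inv_mem (signAut_mem _)
    · intro e
      exact hq.2.2 (by simpa using special_sign w⁻¹ e)
  by_cases hS : ∃ q ∈ U, Special q
  · obtain ⟨q, hqU, hq⟩ := hS
    have hsub : ∀ r, Special r → r ∈ U := fun r hr => by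
      obtain ⟨m, hm, rfl⟩ := special_conj hq hr
      exact hinv m hm q hqU
    have he : U = insert ((1 : Co0) : Fr) ({q : Fr | Special q} ∪ Z) := by
      ext r
      simp only [Set.mem_insert_iff, Set.mem_union, hZdef, Set.mem_setOf_eq]
      constructor
      · intro hr; tauto
      · rintro (rfl | hr | hr)
        exacts [h1, hsub r hr, hr.1]
    right
    rw [he, Set.ncard_insert_of_notMem, Set.ncard_union_eq]
    · obtain ⟨k, hk⟩ := hZ; omega
    · exact Set.disjoint_left.2 fun r hr hr' => hr'.2.2 hr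
    · rintro (h | h)
      exacts [h.1 rfl, h.2.1 rfl]
  · have he : U = insert ((1 : Co0) : Fr) Z := by
      ext r
      simp only [Set.mem_insert_iff, hZdef, Set.mem_setOf_eq]
      constructor
      · intro hr
        by_cases e : r = ((1 : Co0) : Fr)
        · exact Or.inl e
        · exact Or.inr ⟨hr, e, fun hsp => hS ⟨r, hr, hsp⟩⟩
      · rintro (rfl | hr)
        exacts [h1, hr.1]
    left
    rw [he, Set.ncard_insert_of_notMem]
    · obtain ⟨k, hk⟩ := hZ; omega
    · rintro h; exact h.2.1 rfl

theorem special_count : {q : Fr | Special q}.ncard % 16 = 6 ∨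
    {q : Fr | Special q}.ncard % 16 = 0 := by
  have h := mod_sixteen Set.univ trivial (fun _ _ _ _ => trivial)
  rw [Set.ncard_univ] at h
  have hc : Nat.card Fr = 8292375 := index_monoGroup
  rw [hc] at h
  omega

theorem sylow_count (K : Subgroup Co0) (hT : tAut ∈ K) :
    (Subgroup.normalizer ((Subgroup.zpowers tAut : Subgroup Co0) : Set Co0)).relIndex K % 23 = 1 := by
  haveI := fact23
  have hle : Subgroup.zpowers tAut ≤ K := Subgroup.zpowers_le.2 hT
  set T := (Subgroup.zpowers tAut).subgroupOf K
  have hc : Nat.card T = 23 := by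
    rw [Nat.card_congr (Subgroup.subgroupOfEquivOfLe hle).toEquiv, Nat.card_zpowers, orderOf_tAut]
  have hf : (Nat.card K).factorization 23 = 1 := by
    refine le_antisymm ?_ ?_
    · by_contra h
      apply not_sq_dvd_card
      exact (((Nat.Prime.pow_dvd_iff_le_factorization (by norm_num) Nat.card_pos.ne').2 (by omega)).trans
        (Subgroup.card_subgroup_dvd_card K))
    · refine (Nat.Prime.dvd_iff_one_le_factorization (by norm_num) Nat.card_pos.ne').1 ?_
      exact hc ▸ Subgroup.card_subgroup_dvd_card T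
  let P : Sylow 23 K := Sylow.ofCard T (by rw [hc, hf, pow_one])
  have h := card_sylow_modEq_one (p := 23) (G := K)
  rw [P.card_eq_index_normalizer] at h
  rw [Subgroup.relIndex, Subgroup.subgroupOf_normalizer_eq hle]
  exact h

theorem normalizer_le :
    Subgroup.normalizer ((Subgroup.zpowers tAut : Subgroup Co0) : Set Co0) ≤ monoGroup := by
  intro g hg
  have h := (Subgroup.mem_normalizer_iff.1 hg tAut).1 (Subgroup.mem_zpowers _)
  obtain ⟨k, hk⟩ := (mem_powers_iff_mem_zpowers (x := tAut)).2 h
  exact mem_monoGroup_of_conj hk.symm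

set_option synthInstance.maxSize 2000 in
theorem small_divisors : ∀ i < 64, ∀ k < 64, (64 * i + k) ∣ 8292375 →
    ((64 * i + k) % 23 = 1 → (64 * i + k) % 16 = 1 ∨ (64 * i + k) % 16 = 7 → 64 * i + k = 1) ∧
    (8292375 / (64 * i + k) % 23 = 1 → 8292375 / (64 * i + k) % 16 = 1 ∨
      8292375 / (64 * i + k) % 16 = 7 → 64 * i + k = 1) := by decide +kernel

theorem arith (m : ℕ) (hd : m ∣ 8292375) (h23 : m % 23 = 1) (h16 : m % 16 = 1 ∨ m % 16 = 7) :
    m = 1 ∨ m = 8292375 := by
  obtain ⟨a, ha⟩ := hd
  rcases lt_or_ge m 4096 with h | h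
  · have := (small_divisors (m / 64) (by omega) (m % 64) (Nat.mod_lt _ (by norm_num)))
    rw [Nat.div_add_mod] at this
    exact Or.inl ((this ⟨a, ha⟩).1 h23 h16)
  · have ha' : a < 4096 := by nlinarith
    have := (small_divisors (a / 64) (by omega) (a % 64) (Nat.mod_lt _ (by norm_num)))
    rw [Nat.div_add_mod] at this
    have hm : 8292375 / a = m := by
      rcases Nat.eq_zero_or_pos a with rfl | hpos
      · simp at ha
      · rw [ha, Nat.mul_div_cancel _ hpos]
    have h1 := (this ⟨m, by rw [ha, mul_comm]⟩).2 (hm.symm ▸ h23) (hm.symm ▸ h16)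
    right; rw [ha, h1, mul_one]

theorem maximal {H : Subgroup Co0} (hH : monoGroup ≤ H) : H = monoGroup ∨ H = ⊤ := by
  have hT : tAut ∈ monoGroup := permHom_mem trans23
  set m := monoGroup.relIndex H with hm
  have h23 : m % 23 = 1 := by
    have h1 := sylow_count monoGroup hT
    have h2 := sylow_count H (hH hT)
    rw [← Subgroup.relIndex_mul_relIndex _ _ _ normalizer_le hH, Nat.mul_mod, h1] at h2
    simpa [hm] using h2
  have hdvd : m ∣ 8292375 := index_monoGroup ▸ Dvd.intro _ (Subgroup.relIndex_mul_index hH)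
  set U := orbit H ((1 : Co0) : Fr) with hUdef
  have hU : U.ncard = m := by
    rw [hm, hUdef, ← index_stabilizer, Subgroup.relIndex]
    congr 1
    ext h
    rw [mem_stabilizer_iff, Subgroup.mem_subgroupOf]
    show ((((h : Co0) * 1 : Co0)) : Fr) = ((1 : Co0) : Fr) ↔ _
    rw [QuotientGroup.eq, mul_one, mul_one, inv_mem_iff]
  have h16 := mod_sixteen U (mem_orbit_self _) (by
    rintro g hg _ ⟨h, rfl⟩
    exact ⟨⟨g, hH hg⟩ * h, mul_smul _ _ _⟩)
  rw [hU] at h16
  have hS := special_count
  rcases arith m hdvd h23 (by omega) with h | h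
  · exact Or.inl (le_antisymm (Subgroup.relIndex_eq_one.1 h) hH)
  · refine Or.inr (Subgroup.index_eq_one.1 ?_)
    have := Subgroup.relIndex_mul_index hH
    rw [← hm, h, index_monoGroup] at this
    omega

end CfsgLib.Leech.MonoMax
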