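/-
Counting shortest vectors with prescribed coordinates and coordinate sum, by reading digits of a
product of generating numbers.
-/
import Cfsg.Agent.Leech.ShortCount
import Cfsg.Agent.Leech.MinVectors

set_option autoImplicit false
set_option maxHeartbeats 400000
set_option linter.constructorNameAsVariable false

namespace CfsgLib.Leech.PinCount

open Cfsg CfsgLib.Golay

/-- The base of the positional encoding. -/
def radix : ℕ := 2 ^ 40

/-- The `k`-th digit of a number in this base. -/
def digit (n k : ℕ) : ℕ := n / radix ^ k % radix

theorem card_eq_digit {α : Type*} (E : α → ℕ) (k : ℕ) :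
    ∀ S : Finset α, S.card < radix →
      (S.filter fun f => E f = k).card = digit (∑ f ∈ S, radix ^ E f) k := by
  induction k generalizing E with
  | zero =>
    intro S hS
    have hsplit : ∑ f ∈ S, radix ^ E f =
        (S.filter fun f => E f = 0).card + radix * ∑ f ∈ S.filter (fun f => ¬ E f = 0),
          radix ^ (E f - 1) := by
      rw [← Finset.sum_filter_add_sum_filter_not S (fun f => E f = 0), Finset.mul_sum,
        Finset.card_eq_sum_ones]
      congr 1
      · exact Finset.sum_congr rfl fun f hf => by rw [(Finset.mem_filter.mp hf).2, pow_zero]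
      · exact Finset.sum_congr rfl fun f hf => by
          rw [← pow_succ', Nat.sub_add_cancel (Nat.one_le_iff_ne_zero.mpr (Finset.mem_filter.mp hf).2)]
    rw [digit, pow_zero, Nat.div_one, hsplit, Nat.add_mul_mod_self_left, Nat.mod_eq_of_lt]
    exact lt_of_le_of_lt (Finset.card_filter_le _ _) hS
  | succ k ih =>
    intro S hS
    have hsplit : ∑ f ∈ S, radix ^ E f =
        (S.filter fun f => E f = 0).card + radix * ∑ f ∈ S.filter (fun f => ¬ E f = 0),
          radix ^ (E f - 1) := by
      rw [← Finset.sum_filter_add_sum_filter_not S (fun f => E f = 0), Finset.mul_sum,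
        Finset.card_eq_sum_ones]
      congr 1
      · exact Finset.sum_congr rfl fun f hf => by rw [(Finset.mem_filter.mp hf).2, pow_zero]
      · exact Finset.sum_congr rfl fun f hf => by
          rw [← pow_succ', Nat.sub_add_cancel (Nat.one_le_iff_ne_zero.mpr (Finset.mem_filter.mp hf).2)]
    have hlt : (S.filter fun f => E f = 0).card < radix :=
      lt_of_le_of_lt (Finset.card_filter_le _ _) hS
    rw [digit, hsplit, pow_succ', ← Nat.div_div_eq_div_mul, Nat.add_mul_div_left _ _ (by norm_num [radix]),
      Nat.div_eq_of_lt hlt, zero_add]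
    rw [show (∑ f ∈ S.filter (fun f => ¬ E f = 0), radix ^ (E f - 1)) / radix ^ k % radix =
      digit (∑ f ∈ S.filter (fun f => ¬ E f = 0), radix ^ (E f - 1)) k from rfl,
      ← ih (fun f => E f - 1) _ (lt_of_le_of_lt (Finset.card_filter_le _ _) hS), Finset.filter_filter]
    exact congrArg Finset.card (Finset.filter_congr fun f _ => by omega)

variable {ι : Type*} [Fintype ι] [DecidableEq ι]

theorem card_box_digit (A : ι → Finset ℤ) (E : ℤ → ℕ) (k : ℕ)
    (hbox : (Fintype.piFinset A).card < radix) :
    ((Fintype.piFinset A).filter fun f => ∑ i, E (f i) = k).card =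
      digit (∏ i, ∑ v ∈ A i, radix ^ E v) k := by
  rw [card_eq_digit (fun f => ∑ i, E (f i)) k _ hbox, Finset.prod_univ_sum]
  exact congrArg (digit · k) (Finset.sum_congr rfl fun f _ => (Finset.prod_pow_eq_pow_sum _ _ _).symm)

/-- The values of a coordinate of a shortest vector of given parity and word bit. -/
def alph : Bool → Bool → Finset ℤ
  | false, false => {0, 4, -4}
  | false, true => {2, -2}
  | true, false => {1, -3}
  | true, true => {-1, 3}

/-- Squared value and shifted value of a coordinate, packed. -/
def enc (v : ℤ) : ℕ := (v * v).natAbs * 256 + (v + 4).toNat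

/-- The packed key of squared length 32 and coordinate sum `s`. -/
def key (s : ℤ) : ℕ := 32 * 256 + (s + 96).toNat

/-- The generating number of a coordinate. -/
def gen (A : Finset ℤ) : ℕ := ∑ v ∈ A, radix ^ enc v

attribute [local irreducible] radix key gen digit

/-- The generating number of the pinned coordinates. -/
def pinGen (par : Bool) : List ℤ → List Bool → ℕ
  | a :: as, b :: bs => gen ((alph par b).filter fun v => v = a) * pinGen par as bs
  | _, _ => 1

/-- The number of vectors with given word class. -/
def classCount (par : Bool) (as : List ℤ) (S : List ℤ) (key' : ℕ × List Bool) : ℕ :=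
  let N := pinGen par as key'.2 * gen (alph par true) ^ (key'.1 - key'.2.countP id) *
    gen (alph par false) ^ (24 - as.length - (key'.1 - key'.2.countP id))
  (S.map fun s => digit N (key s)).sum

/-- The class of a word: weight and bits at the pinned positions. -/
def wordKey (T : List ℕ) (c : ℕ) : ℕ × List Bool := (wt 24 (word c), T.map fun i => (word c).testBit i)

/-- All bit lists of given length. -/
def bitLists : ℕ → List (List Bool)
  | 0 => [[]]
  | n + 1 => (bitLists n).map (List.cons false) ++ (bitLists n).map (List.cons true)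

theorem mem_bitLists : ∀ l : List Bool, l ∈ bitLists l.length := by
  intro l
  induction l with
  | nil => simp [bitLists]
  | cons b l ih =>
    simp only [List.length_cons, bitLists, List.mem_append, List.mem_map]
    cases b
    · exact Or.inl ⟨l, ih, rfl⟩
    · exact Or.inr ⟨l, ih, rfl⟩

theorem nodup_bitLists : ∀ n, (bitLists n).Nodup := by
  intro n
  induction n with
  | zero => simp [bitLists]
  | succ n ih =>
    refine List.Nodup.append (ih.map (by intro a b h; simpa using h))
      (ih.map (by intro a b h; simpa using h)) ?_
    intro l h1 h2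
    simp only [List.mem_map] at h1 h2
    obtain ⟨a, -, rfl⟩ := h1
    obtain ⟨b, -, hb⟩ := h2
    simp at hb

/-- All classes. -/
def keys (n : ℕ) : List (ℕ × List Bool) :=
  [0, 8, 12, 16, 24].flatMap fun w => (bitLists n).map fun l => (w, l)

theorem nodup_keys (n : ℕ) : (keys n).Nodup := by
  rw [keys, show ([0, 8, 12, 16, 24].flatMap fun w => (bitLists n).map fun l => (w, l)) =
    ([0, 8, 12, 16, 24] : List ℕ) ×ˢ bitLists n from rfl]
  exact List.Nodup.product (by decide) (nodup_bitLists n)

/-- The number of words of a class. -/
def mult (T : List ℕ) (K : ℕ × List Bool) : ℕ :=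
  ((List.range 64).map fun a =>
    ((List.range 64).countP fun b => decide (wordKey T (64 * a + b) = K))).sum

theorem sum_map_range' (n : ℕ) (f : ℕ → ℕ) :
    ((List.range n).map f).sum = ∑ a ∈ Finset.range n, f a := rfl

theorem countP_range' (n : ℕ) (P : ℕ → Prop) [DecidablePred P] :
    (List.range n).countP (fun b => decide (P b)) = ((Finset.range n).filter P).card := by
  rw [List.countP_eq_length_filter]
  rfl

theorem mult_eq (T : List ℕ) (K : ℕ × List Bool) :
    mult T K = ((Finset.range 4096).filter fun c => wordKey T c = K).card := by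
  rw [show (4096 : ℕ) = 64 * 64 from rfl, card_filter_range_mul (fun c => wordKey T c = K) 64 64,
    mult]
  rw [sum_map_range']
  exact Finset.sum_congr rfl fun a _ => countP_range' 64 _

theorem sum_code (T : List ℕ) (F : ℕ × List Bool → ℕ) :
    ∑ c ∈ Finset.range 4096, F (wordKey T c) =
      ((keys T.length).map fun K => mult T K * F K).sum := by
  rw [← Finset.sum_fiberwise_of_maps_to (t := (keys T.length).toFinset) (g := wordKey T)]
  · rw [List.sum_toFinset _ (nodup_keys _)]
    refine congrArg List.sum (List.map_congr_left fun K _ => ?_)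
    rw [mult_eq, Finset.sum_congr rfl (g := fun _ => F K) fun c hc => by
      rw [(Finset.mem_filter.mp hc).2], Finset.sum_const, smul_eq_mul]
  · intro c hc
    simp only [List.mem_toFinset, keys, List.mem_flatMap, List.mem_map]
    refine ⟨_, ?_, _, ?_, rfl⟩
    · rcases weights c (Finset.mem_range.mp hc) with h | h | h | h | h <;> simp [h]
    · simpa using mem_bitLists (T.map fun i => (word c).testBit i)

/-- The count as a closed expression. -/
def count (T : List GolayPt) (as : List ℤ) (par : Bool) (S : List ℤ) : ℕ :=
  ((keys (T.map idx).length).map fun K => mult (T.map idx) K * classCount par as S K).sum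

/-- The box of a word with pinned values. -/
def box (par : Bool) (m : ℕ) (P : List (GolayPt × ℤ)) : GolayPt → Finset ℤ := fun p =>
  (alph par (m.testBit (idx p))).filter fun v => ∀ e ∈ P, e.1 = p → v = e.2

theorem min_value_le {x : GolayPt → ℤ} (hx : x ∈ leechLattice) (hn : sqNorm x = 32) (p : GolayPt) :
    -4 ≤ x p ∧ x p ≤ 4 := by
  rcases min_shape hx hn with ⟨i, j, -, hi4, hj4, hr⟩ | ⟨o, -, hon, hoff⟩ | ⟨i, hi3, hr⟩
  · by_cases h1 : p = i
    · subst h1; omega
    by_cases h2 : p = j
    · subst h2; omega
    rw [hr p h1 h2]; omega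
  · by_cases h1 : p ∈ o
    · rcases hon p h1 with e | e <;> omega
    · rw [hoff p h1]; omega
  · by_cases h1 : p = i
    · subst h1; omega
    rcases hr p h1 with e | e <;> omega

theorem mem_alph_of_min {x : GolayPt → ℤ} (hx : x ∈ leechLattice) (hn : sqNorm x = 32) {par : Bool}
    (hpar : x none % 2 = if par then 1 else 0) {m : ℕ} (hm : hi x = vec m) (p : GolayPt) :
    x p ∈ alph par (m.testBit (idx p)) := by
  have h1 := min_value_le hx hn p
  have h2 := (mem_leech hx).par p
  have h3 := hi_apply_eq_one (x := x) p
  rw [hm, vec] at h3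
  cases par <;> cases hb : m.testBit (idx p) <;>
    simp only [hb, Bool.false_eq_true, if_true, if_false, zero_ne_one, false_iff, true_iff,
      iff_true] at h3 hpar <;>
    simp only [alph, Finset.mem_insert, Finset.mem_singleton] <;> omega

theorem alph_spec (par b : Bool) : ∀ v ∈ alph par b, (-4 ≤ v ∧ v ≤ 4) ∧
    v % 2 = (if par then 1 else 0) ∧ (((v / 2 : ℤ) : ZMod 2) = if b then 1 else 0) := by
  cases par <;> cases b <;> decide

theorem card_piFinset_lt (par : Bool) (m : ℕ) (P : List (GolayPt × ℤ)) :
    (Fintype.piFinset (box par m P)).card < radix := by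
  rw [Fintype.card_piFinset]
  refine lt_of_le_of_lt (Finset.prod_le_pow_card Finset.univ (fun p => (box par m P p).card) 3
    fun p _ => (Finset.card_filter_le _ _).trans ?_) (by rw [Finset.card_univ, card_golayPt]; norm_num [radix])
  cases par <;> cases m.testBit (idx p) <;> decide

theorem sum_enc {f : GolayPt → ℤ} (hf : ∀ p, -4 ≤ f p ∧ f p ≤ 4) :
    (∑ p, enc (f p) : ℕ) = (∑ p, (f p * f p).natAbs) * 256 + ((∑ p, f p) + 96).toNat ∧
      ((∑ p, f p) + 96).toNat < 256 ∧ 0 ≤ (∑ p, f p) + 96 := by
  have h1 : ∑ p : GolayPt, (f p + 4) = (∑ p, f p) + 96 := by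
    rw [Finset.sum_add_distrib, Finset.sum_const, Finset.card_univ, card_golayPt]; norm_num
  have h2 : ((∑ p, (f p + 4).toNat : ℕ) : ℤ) = (∑ p, f p) + 96 := by
    rw [← h1, Nat.cast_sum]
    exact Finset.sum_congr rfl fun p _ => Int.toNat_of_nonneg (by have := hf p; omega)
  have h3 : ∑ p, (f p + 4).toNat ≤ 192 := by
    have := Finset.sum_le_card_nsmul Finset.univ (fun p => (f p + 4).toNat) 8
      fun p _ => by have := hf p; omega
    rw [Finset.card_univ, card_golayPt, smul_eq_mul] at this
    exact this
  refine ⟨?_, by omega, by omega⟩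
  simp only [enc, Finset.sum_add_distrib, ← Finset.sum_mul]
  omega

theorem key_iff {f : GolayPt → ℤ} (hf : ∀ p, -4 ≤ f p ∧ f p ≤ 4) {s : ℤ} (hs : -96 ≤ s ∧ s < 160) :
    (∑ p, enc (f p)) = key s ↔ sqNorm f = 32 ∧ ∑ p, f p = s := by
  obtain ⟨he, h1, h2⟩ := sum_enc hf
  have hsq : ((∑ p, (f p * f p).natAbs : ℕ) : ℤ) = sqNorm f := by
    rw [Nat.cast_sum, sqNorm]
    exact Finset.sum_congr rfl fun p _ => by
      rw [Int.natCast_natAbs, abs_of_nonneg (mul_self_nonneg _), sq]
  rw [he, key]
  omega

theorem prod_box (par : Bool) (m : ℕ) : ∀ (T : List GolayPt) (as : List ℤ),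
    T.Nodup → T.length = as.length →
    (∏ p ∈ T.toFinset, gen (box par m (T.zip as) p)) =
      pinGen par as (T.map fun p => m.testBit (idx p)) := by
  intro T
  induction T with
  | nil => intro as _ _; cases as <;> simp [pinGen]
  | cons t T ih =>
    intro as hnd hlen
    cases as with
    | nil => simp at hlen
    | cons a as =>
      simp only [List.nodup_cons] at hnd
      simp only [List.length_cons, Nat.add_right_cancel_iff] at hlen
      rw [List.toFinset_cons, Finset.prod_insert (by simpa using hnd.1), List.map_cons, pinGen,
        ← ih as hnd.2 hlen]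
      congr 1
      · refine congrArg gen (Finset.filter_congr fun v _ => ?_)
        constructor
        · exact fun h => h (t, a) (by simp) rfl
        · intro hv e he het
          simp only [List.zip_cons_cons, List.mem_cons] at he
          rcases he with rfl | he
          · exact hv
          · exact absurd (het ▸ (List.of_mem_zip he).1) hnd.1
      · refine Finset.prod_congr rfl fun p hp => congrArg gen (Finset.filter_congr fun v _ => ?_)
        simp only [List.zip_cons_cons, List.mem_cons, forall_eq_or_imp]
        constructor
        · exact fun h => h.2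
        · refine fun h => ⟨fun e => ?_, h⟩
          exact absurd (e ▸ List.mem_toFinset.mp hp) hnd.1

theorem prod_gen (par : Bool) (m : ℕ) {T : List GolayPt} {as : List ℤ} (hT : T.Nodup)
    (hlen : T.length = as.length) :
    (∏ p, gen (box par m (T.zip as) p)) = pinGen par as ((T.map idx).map fun i => m.testBit i) *
      gen (alph par true) ^ (wt 24 m - ((T.map idx).map fun i => m.testBit i).countP id) *
      gen (alph par false) ^
        (24 - as.length - (wt 24 m - ((T.map idx).map fun i => m.testBit i).countP id)) := by
  rw [List.map_map]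
  have hmap : ((fun i => m.testBit i) ∘ idx) = fun p => m.testBit (idx p) := rfl
  rw [hmap]
  have hcnt : (T.map fun p => m.testBit (idx p)).countP id = (T.toFinset ∩ pts m).card := by
    rw [List.countP_map, List.countP_eq_length_filter, ← List.toFinset_card_of_nodup (hT.filter _)]
    congr 1
    ext p
    simp [pts]
  have hin : (pts m \ T.toFinset).card = wt 24 m - (T.toFinset ∩ pts m).card := by
    rw [Finset.card_sdiff, card_pts]
  have hTc : T.toFinset.card = as.length := by rw [List.toFinset_card_of_nodup hT, hlen]
  have hout : ((pts m ∪ T.toFinset)ᶜ).card =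
      24 - as.length - (wt 24 m - (T.toFinset ∩ pts m).card) := by
    rw [Finset.card_compl, card_golayPt, ← Finset.sdiff_union_self_eq_union,
      Finset.card_union_of_disjoint Finset.sdiff_disjoint, hin, hTc]
    omega
  have hfree : ∀ p, p ∉ T.toFinset → box par m (T.zip as) p = alph par (m.testBit (idx p)) :=
    fun p hp => Finset.filter_true_of_mem fun v _ e he het =>
      absurd (List.mem_toFinset.mpr (het ▸ (List.of_mem_zip he).1)) hp
  have hpart : (Finset.univ : Finset GolayPt) =
      (T.toFinset ∪ (pts m \ T.toFinset)) ∪ (pts m ∪ T.toFinset)ᶜ := by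
    rw [Finset.union_sdiff_self_eq_union, Finset.union_comm T.toFinset, Finset.union_compl]
  conv_lhs => rw [hpart]
  rw [Finset.prod_union, Finset.prod_union Finset.disjoint_sdiff, prod_box par m T as hT hlen,
    hcnt, ← hout, ← hin]
  · congr 1
    · congr 1
      rw [Finset.prod_congr rfl (g := fun _ => gen (alph par true)) fun p hp => ?_,
        Finset.prod_const]
      obtain ⟨h1, h2⟩ := Finset.mem_sdiff.mp hp
      rw [hfree p h2, (Finset.mem_filter.mp h1).2]
    · rw [Finset.prod_congr rfl (g := fun _ => gen (alph par false)) fun p hp => ?_,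
        Finset.prod_const]
      simp only [Finset.mem_compl, Finset.mem_union, not_or] at hp
      have : m.testBit (idx p) = false := by
        have := hp.1
        simpa [pts] using this
      rw [hfree p hp.2, this]
  · rw [Finset.union_sdiff_self_eq_union, Finset.union_comm T.toFinset]
    exact disjoint_compl_right

/-- The vectors of a word class with the prescribed coordinates and sum. -/
def fib (par : Bool) (T : List GolayPt) (as : List ℤ) (s : ℤ) (m : ℕ) : Finset (GolayPt → ℤ) :=
  (Fintype.piFinset (box par m (T.zip as))).filter fun f => ∑ p, enc (f p) = key s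

theorem card_fib {par : Bool} {T : List GolayPt} {as : List ℤ} (hT : T.Nodup)
    (hlen : T.length = as.length) (s : ℤ) (m : ℕ) :
    (fib par T as s m).card = digit (pinGen par as ((T.map idx).map fun i => m.testBit i) *
      gen (alph par true) ^ (wt 24 m - ((T.map idx).map fun i => m.testBit i).countP id) *
      gen (alph par false) ^
        (24 - as.length - (wt 24 m - ((T.map idx).map fun i => m.testBit i).countP id))) (key s) := by
  have h := card_box_digit (box par m (T.zip as)) enc (key s)
    (card_piFinset_lt par m (T.zip as))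
  have h' : (∏ p, ∑ v ∈ box par m (T.zip as) p, radix ^ enc v) =
      ∏ p, gen (box par m (T.zip as) p) :=
    Finset.prod_congr rfl fun p _ => by rw [gen]
  rw [h', prod_gen par m hT hlen] at h
  exact h

/-- The shortest vectors with prescribed coordinates and allowed sums. -/
def pinned (T : List GolayPt) (as : List ℤ) (S : List ℤ) : Set (GolayPt → ℤ) :=
  {x | x ∈ leechLattice ∧ sqNorm x = 32 ∧ (∀ e ∈ T.zip as, x e.1 = e.2) ∧ (∑ p, x p) ∈ S}

theorem ncard_pinned {T : List GolayPt} {as : List ℤ} (hT : T.Nodup) (hlen : T.length = as.length)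
    (par : Bool) {S : List ℤ} (hS : S.Nodup)
    (hSb : ∀ s ∈ S, (-96 ≤ s ∧ s < 160) ∧ s % 8 = if par then 4 else 0) :
    (pinned T as S).ncard = count T as par S := by
  have hset : pinned T as S = ((Finset.range 4096 ×ˢ S.toFinset).biUnion
      fun cs => fib par T as cs.2 (word cs.1) : Finset (GolayPt → ℤ)) := by
    ext x
    simp only [pinned, Set.mem_ofPred_eq, Finset.coe_biUnion, Set.mem_iUnion, Finset.mem_coe,
      Finset.mem_product, Finset.mem_range, List.mem_toFinset, exists_prop, Prod.exists, fib,
      Finset.mem_filter, Fintype.mem_piFinset, box]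
    constructor
    · rintro ⟨hx, hn, hp, hs⟩
      obtain ⟨c, hc, hcx⟩ := (mem_code_iff _).mp (mem_leech hx).code
      have hpar : x none % 2 = if par then 1 else 0 := by
        have h1 := (hSb _ hs).2
        have h2 := (mem_leech hx).sum
        cases par <;> simp only [Bool.false_eq_true, if_true, if_false] at h1 ⊢ <;> omega
      refine ⟨c, _, ⟨hc, hs⟩, fun p => ⟨mem_alph_of_min hx hn hpar hcx p, fun e he hep => ?_⟩, ?_⟩
      · rw [← hep]; exact hp e he
      · exact (key_iff (fun p => min_value_le hx hn p) (hSb _ hs).1).mpr ⟨hn, rfl⟩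
    · rintro ⟨c, s, ⟨hc, hs⟩, hbox, hk⟩
      have hspec := fun p => alph_spec par _ _ (hbox p).1
      obtain ⟨hn, hsum⟩ := (key_iff (fun p => (hspec p).1) (hSb s hs).1).mp hk
      refine ⟨mem_leech_iff.mpr ⟨fun p => ?_, ?_, ?_⟩, hn, fun e he => (hbox e.1).2 e he rfl,
        hsum ▸ hs⟩
      · have := (hspec p).2.1; have := (hspec none).2.1; omega
      · have h1 := (hSb s hs).2
        have h2 := (hspec none).2.1
        rw [hsum]
        cases par <;> simp only [Bool.false_eq_true, if_true, if_false] at h1 h2 <;> omega
      · rw [show hi x = vec (word c) from funext fun p => (hspec p).2.2]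
        exact vec_word_mem c
  rw [hset, Set.ncard_coe_finset, Finset.card_biUnion]
  · rw [Finset.sum_product, count, ← sum_code]
    refine Finset.sum_congr rfl fun c _ => ?_
    rw [classCount, ← List.sum_toFinset _ hS]
    exact Finset.sum_congr rfl fun s _ => card_fib hT hlen s _
  · rintro ⟨c, s⟩ hcs ⟨c', s'⟩ hcs' hne
    simp only [Finset.coe_product, Set.mem_prod, Finset.mem_coe, Finset.mem_range,
      List.mem_toFinset] at hcs hcs'
    rw [Function.onFun, Finset.disjoint_left]
    intro x hx hx'
    simp only [fib, Finset.mem_filter, Fintype.mem_piFinset, box] at hx hx'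
    have hspec := fun p => alph_spec par _ _ (hx.1 p).1
    have hspec' := fun p => alph_spec par _ _ (hx'.1 p).1
    refine hne (Prod.ext (word_inj hcs.1 hcs'.1 ?_) ?_)
    · rw [← support_vec (word c), ← support_vec (word c')]
      exact congrArg support₂ (funext fun p => (hspec p).2.2.symm.trans (hspec' p).2.2)
    · exact ((key_iff (fun p => (hspec p).1) (hSb s hcs.2).1).mp hx.2).2.symm.trans
        ((key_iff (fun p => (hspec p).1) (hSb s' hcs'.2).1).mp hx'.2).2

/-- The count from a given table of class sizes. -/
def countWith (n : ℕ) (L : List ℕ) (as : List ℤ) (par : Bool) (S : List ℤ) : ℕ :=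
  ((L.zip (keys n)).map fun e => if e.1 = 0 then 0 else e.1 * classCount par as S e.2).sum

theorem count_eq_with {T : List GolayPt} {n : ℕ} (hn : T.length = n) {L : List ℕ}
    (hL : (keys n).map (mult (T.map idx)) = L) (as : List ℤ) (par : Bool) (S : List ℤ) :
    count T as par S = countWith n L as par S := by
  subst hL
  rw [countWith, count, List.length_map, hn]
  have : ((keys n).map (mult (T.map idx))).zip (keys n) =
      (keys n).map fun K => (mult (T.map idx) K, K) := by
    generalize keys n = l
    induction l with
    | nil => rfl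
    | cons a l ih => simp [ih]
  rw [this, List.map_map]
  refine congrArg List.sum (List.map_congr_left fun K _ => ?_)
  simp only [Function.comp]
  split
  · rename_i h; rw [h, zero_mul]
  · rfl

theorem pairTable :
    (keys ([none, some 0] : List GolayPt).length).map
        (mult (([none, some 0] : List GolayPt).map idx)) =
      [1, 0, 0, 0, 330, 176, 176, 77, 616, 672, 672, 616, 77, 176, 176, 330, 0, 0, 0, 1] := by
  decide +kernel

/-- Counting with the first two standard points pinned. -/
theorem ncard_pinned_pair (a b : ℤ) (par : Bool) {S : List ℤ} (hS : S.Nodup)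
    (hSb : ∀ s ∈ S, (-96 ≤ s ∧ s < 160) ∧ s % 8 = if par then 4 else 0) :
    (pinned [none, some 0] [a, b] S).ncard =
      countWith 2 [1, 0, 0, 0, 330, 176, 176, 77, 616, 672, 672, 616, 77, 176, 176, 330, 0, 0, 0, 1]
        [a, b] par S :=
  (ncard_pinned (by decide) rfl par hS hSb).trans (count_eq_with rfl pairTable [a, b] par S)

end CfsgLib.Leech.PinCount
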