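/-
The numbers of shortest vectors with a given inner product with a fixed shortest vector.
-/
import Cfsg.Agent.Leech.PinCount
import Cfsg.Agent.Leech.Frame

set_option autoImplicit false

namespace CfsgLib.Leech

open Cfsg CfsgLib.Golay

attribute [local irreducible] shortVecs halfTable quarterTable codeFinset

theorem ncard_coe (P : (GolayPt → ℤ) → Prop) :
    {v : leechLattice | P (v : GolayPt → ℤ)}.ncard =
      {x : GolayPt → ℤ | x ∈ leechLattice ∧ P x}.ncard := by
  refine (Set.ncard_image_of_injective _ Subtype.val_injective).symm.trans (congrArg Set.ncard ?_)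
  ext x
  simp only [Set.mem_image, Set.mem_ofPred_eq]
  exact ⟨fun ⟨v, hv, e⟩ => e ▸ ⟨v.2, hv⟩, fun h => ⟨⟨x, h.1⟩, h.2, rfl⟩⟩

theorem ncard_smul (g : Co0) {P Q : leechLattice → Prop} (h : ∀ v, Q (g • v) ↔ P v) :
    {v | P v}.ncard = {v | Q v}.ncard := by
  refine (Set.ncard_image_of_injective _ (MulAction.injective g)).symm.trans (congrArg Set.ncard ?_)
  ext x
  simp only [Set.mem_image, Set.mem_ofPred_eq]
  exact ⟨fun ⟨v, hv, e⟩ => e ▸ (h v).mpr hv,
    fun hx => ⟨g⁻¹ • x, (h _).mp (by rwa [smul_inv_smul]), smul_inv_smul _ _⟩⟩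

/-- Counting shortest vectors by the inner product with a given one reduces to the standard one. -/
theorem ncard_dot_min {v : GolayPt → ℤ} (hv : v ∈ leechLattice) (hn : sqNorm v = 32) (d : ℤ) :
    {w : GolayPt → ℤ | w ∈ leechLattice ∧ sqNorm w = 32 ∧ dotInt v w = 4 * d}.ncard =
      {w : GolayPt → ℤ | w ∈ leechLattice ∧ sqNorm w = 32 ∧ w none + w (some 0) = d}.ncard := by
  obtain ⟨g, hg⟩ := min_orbit (v := ⟨v, hv⟩) hn
  rw [← ncard_coe fun w => sqNorm w = 32 ∧ dotInt v w = 4 * d,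
    ← ncard_coe fun w => sqNorm w = 32 ∧ w none + w (some 0) = d]
  refine ncard_smul g fun w => ?_
  rw [sqNorm_smul, ← dot_smul' g ⟨v, hv⟩ w, hg, dot_U]
  constructor <;> rintro ⟨h1, h2⟩ <;> exact ⟨h1, by omega⟩

/-- The possible coordinate sums. -/
def sums (par : Bool) : List ℤ :=
  if par then [-28, -20, -12, -4, 4, 12, 20, 28] else [-32, -24, -16, -8, 0, 8, 16, 24, 32]

theorem sum_le_norm {x : GolayPt → ℤ} (hn : sqNorm x = 32) : -32 ≤ ∑ p, x p ∧ ∑ p, x p ≤ 32 := by
  have h : ∀ p, x p ≤ x p ^ 2 ∧ -(x p) ≤ x p ^ 2 := fun p =>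
    ⟨(le_abs_self _).trans (Int.natCast_natAbs (x p) ▸ Int.natAbs_le_self_sq (x p)),
      (neg_le_abs _).trans (Int.natCast_natAbs (x p) ▸ Int.natAbs_le_self_sq (x p))⟩
  have h1 := Finset.sum_le_sum fun p (_ : p ∈ Finset.univ) => (h p).1
  have h2 := Finset.sum_le_sum fun p (_ : p ∈ Finset.univ) => (h p).2
  rw [Finset.sum_neg_distrib] at h2
  simp only [sqNorm] at hn
  omega

theorem ncard_pair_sum (d : ℤ) :
    {w : GolayPt → ℤ | w ∈ leechLattice ∧ sqNorm w = 32 ∧ w none + w (some 0) = d}.ncard =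
      ∑ a ∈ Finset.Icc (-4 : ℤ) 4, PinCount.countWith 2
        [1, 0, 0, 0, 330, 176, 176, 77, 616, 672, 672, 616, 77, 176, 176, 330, 0, 0, 0, 1]
        [a, d - a] (decide (a % 2 = 1)) (sums (decide (a % 2 = 1))) := by
  have hset : {w : GolayPt → ℤ | w ∈ leechLattice ∧ sqNorm w = 32 ∧ w none + w (some 0) = d} =
      ⋃ a ∈ Finset.Icc (-4 : ℤ) 4,
        PinCount.pinned [none, some 0] [a, d - a] (sums (decide (a % 2 = 1))) := by
    ext w
    simp only [PinCount.pinned, Set.mem_ofPred_eq, Set.mem_iUnion, Finset.mem_Icc,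
      List.zip_cons_cons, List.zip_nil_right, List.mem_cons, List.not_mem_nil, or_false,
      forall_eq_or_imp, forall_eq, exists_prop]
    constructor
    · rintro ⟨hw, hn, hd⟩
      refine ⟨w none, PinCount.min_value_le hw hn none, hw, hn, ⟨rfl, by omega⟩, ?_⟩
      have h1 := (mem_leech hw).sum
      have h2 := sum_le_norm hn
      unfold sums
      by_cases h : w none % 2 = 1 <;> simp only [h, decide_true, decide_false, if_true, if_false,
        Bool.false_eq_true, List.mem_cons, List.not_mem_nil, or_false] <;> omega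
    · rintro ⟨a, -, hw, hn, ⟨e1, e2⟩, -⟩
      exact ⟨hw, hn, by omega⟩
  have hfin : {w : GolayPt → ℤ | w ∈ leechLattice ∧ sqNorm w = 32}.Finite :=
    Set.finite_of_ncard_pos (by rw [ncard_norm_32]; norm_num)
  rw [hset, ← Finset.set_biUnion_coe, Set.Finite.ncard_biUnion (Finset.Icc (-4 : ℤ) 4).finite_toSet
    (fun a _ => hfin.subset fun w hw => ⟨hw.1, hw.2.1⟩) ?_, finsum_mem_coe_finset]
  · refine Finset.sum_congr rfl fun a _ => PinCount.ncard_pinned_pair a (d - a) _ ?_ ?_
    · unfold sums; split <;> decide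
    · intro s hs
      unfold sums at hs
      by_cases h : a % 2 = 1 <;> simp only [h, decide_true, decide_false, if_true, if_false,
        Bool.false_eq_true, List.mem_cons, List.not_mem_nil, or_false] at hs ⊢ <;> omega
  · intro a _ b _ hab
    rw [Function.onFun, Set.disjoint_left]
    rintro w ⟨-, -, ha, -⟩ ⟨-, -, hb, -⟩
    exact hab ((ha (none, a) (by simp)).symm.trans (hb (none, b) (by simp)))

theorem ncard_dot_sixteen {v : GolayPt → ℤ} (hv : v ∈ leechLattice) (hn : sqNorm v = 32) :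
    {w : GolayPt → ℤ | w ∈ leechLattice ∧ sqNorm w = 32 ∧ dotInt v w = -16}.ncard = 4600 := by
  rw [show (-16 : ℤ) = 4 * -4 from rfl, ncard_dot_min hv hn, ncard_pair_sum]
  decide +kernel

theorem ncard_dot_eight {v : GolayPt → ℤ} (hv : v ∈ leechLattice) (hn : sqNorm v = 32) :
    {w : GolayPt → ℤ | w ∈ leechLattice ∧ sqNorm w = 32 ∧ dotInt v w = -8}.ncard = 47104 := by
  rw [show (-8 : ℤ) = 4 * -2 from rfl, ncard_dot_min hv hn, ncard_pair_sum]
  decide +kernel

theorem ncard_dot_zero {v : GolayPt → ℤ} (hv : v ∈ leechLattice) (hn : sqNorm v = 32) :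
    {w : GolayPt → ℤ | w ∈ leechLattice ∧ sqNorm w = 32 ∧ dotInt v w = 0}.ncard = 93150 := by
  rw [show (0 : ℤ) = 4 * 0 from rfl, ncard_dot_min hv hn, ncard_pair_sum]
  decide +kernel

end CfsgLib.Leech
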