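/-
Orbits of the stabiliser of a shortest vector on the shortest vectors.
-/
import Cfsg.Agent.Leech.Frame

set_option autoImplicit false
set_option linter.constructorNameAsVariable false

namespace CfsgLib.Leech

open Cfsg CfsgLib.Golay

attribute [local irreducible] shortVecs halfTable quarterTable codeFinset

/-- Being related by an element fixing the standard shortest vector. -/
def FixRel (b b' : leechLattice) : Prop :=
  ∃ h : Co0, h • Spor.leechU = Spor.leechU ∧ h • b = b'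

theorem FixRel.refl (b : leechLattice) : FixRel b b := ⟨1, one_smul _ _, one_smul _ _⟩

theorem FixRel.symm {b b' : leechLattice} : FixRel b b' → FixRel b' b := by
  rintro ⟨h, hU, rfl⟩
  exact ⟨h⁻¹, inv_smul_eq_iff.mpr hU.symm, inv_smul_smul _ _⟩

theorem FixRel.trans {b b' b'' : leechLattice} : FixRel b b' → FixRel b' b'' → FixRel b b'' := by
  rintro ⟨h, hU, rfl⟩ ⟨k, kU, rfl⟩
  exact ⟨k * h, by rw [mul_smul, hU, kU], mul_smul _ _ _⟩

theorem FixRel.sqNorm_eq {b b' : leechLattice} (hr : FixRel b b') :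
    sqNorm (b' : GolayPt → ℤ) = sqNorm (b : GolayPt → ℤ) := by
  obtain ⟨h, -, rfl⟩ := hr
  exact sqNorm_smul h b

theorem FixRel.pair_sum {b b' : leechLattice} (hr : FixRel b b') :
    (b' : GolayPt → ℤ) none + (b' : GolayPt → ℤ) (some 0) =
      (b : GolayPt → ℤ) none + (b : GolayPt → ℤ) (some 0) := by
  obtain ⟨h, hU, rfl⟩ := hr
  have h2 := dot_smul' h Spor.leechU b
  rw [hU, dot_U, dot_U] at h2
  omega

/-- A move fixing the standard shortest vector with prescribed effect at the extra point. -/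
theorem exists_fix_value (b : leechLattice) {p q : GolayPt} (hpq : p ≠ q)
    (hp : p ≠ none ∧ p ≠ some 0) (hq : q ≠ none ∧ q ≠ some 0) :
    ∃ b' : leechLattice, FixRel b b' ∧ (b' : GolayPt → ℤ) none =
      -((b : GolayPt → ℤ) p - ((b : GolayPt → ℤ) none + (b : GolayPt → ℤ) (some 0) +
        (b : GolayPt → ℤ) p + (b : GolayPt → ℤ) q) / 2) := by
  obtain ⟨π, h1, h2, h3, h4⟩ := exists_mem_map_four (a := none) (b := some 0) (c := p) (d := q)
    (by simp) hp.1.symm hq.1.symm hp.2.symm hq.2.symm hpq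
  obtain ⟨τ, t1, t2⟩ := exists_mem_map_two pts_distinct.2.2
  rw [bp_values.1] at t1
  rw [bp_values.2.1] at t2
  refine ⟨((permHom τ)⁻¹ * xiAut * (permHom π)⁻¹) • b, ⟨_, ?_, rfl⟩, ?_⟩
  · rw [mul_smul, mul_smul, perm_fix_U h1 h2]
    refine Subtype.ext (funext fun i => ?_)
    rw [permHom_inv_apply, xiAut_apply, leechU_apply]
    show xi Spor.vecU _ = _
    by_cases hi1 : i = none
    · subst hi1; rw [t1, xiU_apply.1]; simp
    by_cases hi0 : i = some 0
    · subst hi0; rw [t2, xiU_apply.2.1]; simp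
    rw [xiU_apply.2.2 _ (fun h => hi1 ((τ : Equiv.Perm GolayPt).injective (h.trans t1.symm)))
      (fun h => hi0 ((τ : Equiv.Perm GolayPt).injective (h.trans t2.symm)))]
    simp [hi1, hi0]
  · rw [mul_smul, mul_smul, permHom_inv_apply, t1, xiAut_apply, xi_at_one]
    simp only [permHom_inv_apply, h1, h2, h3, h4]

/-- Exchanging the two points of the standard pair. -/
theorem exists_swap_pair (b : leechLattice) :
    ∃ σ : M24, (σ : Equiv.Perm GolayPt) none = some 0 ∧
      (σ : Equiv.Perm GolayPt) (some 0) = none ∧ FixRel b ((permHom σ)⁻¹ • b) := by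
  obtain ⟨σ, s1, s2⟩ := exists_mem_map_two (show (some 0 : GolayPt) ≠ none by simp)
  rw [bp_values.1] at s1
  rw [bp_values.2.1] at s2
  refine ⟨σ, s1, s2, _, Subtype.ext (funext fun i => ?_), rfl⟩
  rw [permHom_inv_apply, leechU_apply, leechU_apply]
  refine if_congr ?_ rfl rfl
  constructor
  · rintro (h | h)
    · exact Or.inr ((σ : Equiv.Perm GolayPt).injective (h.trans s2.symm))
    · exact Or.inl ((σ : Equiv.Perm GolayPt).injective (h.trans s1.symm))
  · rintro (rfl | rfl)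
    exacts [Or.inr s1, Or.inl s2]

theorem signedC_hi {b : leechLattice} {i : GolayPt}
    (hi3 : (b : GolayPt → ℤ) i = 3 ∨ (b : GolayPt → ℤ) i = -3)
    (hrest : ∀ p, p ≠ i → (b : GolayPt → ℤ) p = 1 ∨ (b : GolayPt → ℤ) p = -1) :
    signedC ⟨hi (b : GolayPt → ℤ), (mem_leech b.2).code⟩ i = b :=
  Subtype.ext (stdC_eq_flip hi3 hrest).symm

/-- Two odd shortest vectors with the three at the same point and the same values on the pair. -/
theorem shapeC_fix_same {b b' : leechLattice} {i : GolayPt}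
    (hi3 : (b : GolayPt → ℤ) i = 3 ∨ (b : GolayPt → ℤ) i = -3)
    (hrest : ∀ p, p ≠ i → (b : GolayPt → ℤ) p = 1 ∨ (b : GolayPt → ℤ) p = -1)
    (hi3' : (b' : GolayPt → ℤ) i = 3 ∨ (b' : GolayPt → ℤ) i = -3)
    (hrest' : ∀ p, p ≠ i → (b' : GolayPt → ℤ) p = 1 ∨ (b' : GolayPt → ℤ) p = -1)
    (e0 : (b : GolayPt → ℤ) none = (b' : GolayPt → ℤ) none)
    (e1 : (b : GolayPt → ℤ) (some 0) = (b' : GolayPt → ℤ) (some 0)) : FixRel b b' := by
  obtain ⟨h, hU, hb⟩ := signedC_to_target b hi3 hrest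
    ⟨hi (b' : GolayPt → ℤ), (mem_leech b'.2).code⟩ (by simp [hi, e0]) (by simp [hi, e1])
  exact ⟨h, hU, hb.trans (signedC_hi hi3' hrest')⟩

/-- Two odd shortest vectors with the three away from the pair and the same values on it. -/
theorem shapeC_fix_away {b b' : leechLattice} {i i' : GolayPt}
    (hi3 : (b : GolayPt → ℤ) i = 3 ∨ (b : GolayPt → ℤ) i = -3)
    (hrest : ∀ p, p ≠ i → (b : GolayPt → ℤ) p = 1 ∨ (b : GolayPt → ℤ) p = -1)
    (hin : i ≠ none) (hi0 : i ≠ some 0)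
    (hi3' : (b' : GolayPt → ℤ) i' = 3 ∨ (b' : GolayPt → ℤ) i' = -3)
    (hrest' : ∀ p, p ≠ i' → (b' : GolayPt → ℤ) p = 1 ∨ (b' : GolayPt → ℤ) p = -1)
    (hin' : i' ≠ none) (hi0' : i' ≠ some 0)
    (e0 : (b : GolayPt → ℤ) none = (b' : GolayPt → ℤ) none)
    (e1 : (b : GolayPt → ℤ) (some 0) = (b' : GolayPt → ℤ) (some 0)) : FixRel b b' := by
  obtain ⟨h, hU, hb⟩ := normal_away b hi3 hrest hin hi0
    ⟨hi (b' : GolayPt → ℤ), (mem_leech b'.2).code⟩ (by simp [hi, e0]) (by simp [hi, e1])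
  obtain ⟨k, kU, kb⟩ := normal_away b' hi3' hrest' hin' hi0'
    ⟨hi (b' : GolayPt → ℤ), (mem_leech b'.2).code⟩ rfl rfl
  exact FixRel.trans ⟨h, hU, hb⟩ (FixRel.symm ⟨k, kU, kb⟩)

theorem exists_in_octad {o : Finset GolayPt} (ho : o ∈ octads) :
    ∃ p, p ∈ o ∧ p ≠ none ∧ p ≠ some 0 := by
  obtain ⟨p, hp, h1, h2⟩ := exists_outside oᶜ
    (by rw [Finset.card_compl, card_golayPt, octad_card ho])
  rw [Finset.mem_compl, not_not] at hp
  exact ⟨p, hp, h1, h2⟩

/-- Every even shortest vector of shape two on an octad moves to an odd one. -/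
theorem exists_fix_odd_of_shapeB {b : leechLattice} (hn : sqNorm (b : GolayPt → ℤ) = 32)
    {o : Finset GolayPt} (ho : o ∈ octads)
    (hon : ∀ p ∈ o, (b : GolayPt → ℤ) p = 2 ∨ (b : GolayPt → ℤ) p = -2)
    (hoff : ∀ p ∉ o, (b : GolayPt → ℤ) p = 0) :
    ∃ b' : leechLattice, FixRel b b' ∧ ShapeC (b' : GolayPt → ℤ) := by
  have h2 : ∀ p, (2 : ℤ) ∣ (b : GolayPt → ℤ) p := fun p => by
    by_cases hp : p ∈ o
    · rcases hon p hp with e | e <;> omega
    · rw [hoff p hp]; exact dvd_zero _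
  obtain ⟨q, hq, hqn, hq0⟩ := exists_outside o (by rw [octad_card ho]; norm_num)
  obtain ⟨p, hp, hpn, hp0⟩ := exists_in_octad ho
  by_cases hs : (4 : ℤ) ∣ (b : GolayPt → ℤ) none + (b : GolayPt → ℤ) (some 0)
  · obtain ⟨b', hr, hb⟩ := exists_fix_value b (p := p) (q := q) (fun e => hq (e ▸ hp))
      ⟨hpn, hp0⟩ ⟨hqn, hq0⟩
    refine ⟨b', hr, odd_shape_of_min (hr.sqNorm_eq.trans hn) ?_⟩
    rw [hb, hoff q hq]
    rcases hon p hp with e | e <;> omega
  · obtain ⟨r, hr', hrn, hr0⟩ := exists_outside (insert q o)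
      ((Finset.card_insert_le _ _).trans (by rw [octad_card ho]; norm_num))
    simp only [Finset.mem_insert, not_or] at hr'
    obtain ⟨b', hr, hb⟩ := exists_fix_value b (p := r) (q := q) hr'.1 ⟨hrn, hr0⟩ ⟨hqn, hq0⟩
    refine ⟨b', hr, odd_shape_of_min (hr.sqNorm_eq.trans hn) ?_⟩
    rw [hb, hoff q hq, hoff r hr'.2]
    have := h2 none
    have := h2 (some 0)
    omega

/-- A four-shape moves to one of the other shapes unless the pair values cancel. -/
theorem exists_fix_notA {b : leechLattice} (hn : sqNorm (b : GolayPt → ℤ) = 32) {p q : GolayPt}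
    (hpq : p ≠ q) (hp : p ≠ none ∧ p ≠ some 0) (hq : q ≠ none ∧ q ≠ some 0)
    (hv : ¬ (4 : ℤ) ∣ ((b : GolayPt → ℤ) p - ((b : GolayPt → ℤ) none +
      (b : GolayPt → ℤ) (some 0) + (b : GolayPt → ℤ) p + (b : GolayPt → ℤ) q) / 2)) :
    ∃ b' : leechLattice, FixRel b b' ∧ ShapeC (b' : GolayPt → ℤ) := by
  obtain ⟨b', hr, hb⟩ := exists_fix_value b hpq hp hq
  rcases min_shape b'.2 (hr.sqNorm_eq.trans hn) with ⟨i, j, -, hi4, hj4, hz⟩ | ⟨o, ho, hon, hoff⟩ | h
  · exfalso
    by_cases h1 : none = i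
    · subst h1; omega
    by_cases h2 : none = j
    · subst h2; omega
    rw [hz none h1 h2] at hb
    omega
  · obtain ⟨b'', hr', hC⟩ := exists_fix_odd_of_shapeB (hr.sqNorm_eq.trans hn) ho hon hoff
    exact ⟨b'', hr.trans hr', hC⟩
  · exact ⟨b', hr, h⟩

theorem shapeA_dvd {x : GolayPt → ℤ} (h : ShapeA x) (p : GolayPt) : (4 : ℤ) ∣ x p := by
  obtain ⟨i, j, -, hi4, hj4, hr⟩ := h
  by_cases h1 : p = i
  · subst h1; omega
  by_cases h2 : p = j
  · subst h2; omega
  rw [hr p h1 h2]; exact dvd_zero _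

/-- Every shortest vector moves to one of odd shape. -/
theorem exists_fix_shapeC {b : leechLattice} (hn : sqNorm (b : GolayPt → ℤ) = 32)
    (hne : (b : GolayPt → ℤ) none + (b : GolayPt → ℤ) (some 0) ≠ 8 ∧
      (b : GolayPt → ℤ) none + (b : GolayPt → ℤ) (some 0) ≠ -8) :
    ∃ b' : leechLattice, FixRel b b' ∧ ShapeC (b' : GolayPt → ℤ) := by
  rcases min_shape b.2 hn with hA | ⟨o, ho, hon, hoff⟩ | h
  · obtain ⟨i, j, hij, hi4, hj4, hz⟩ := id hA
    have h4 := shapeA_dvd hA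
    obtain ⟨r, hr', hrn, hr0⟩ := exists_outside {i, j} (Finset.card_le_two.trans (by norm_num))
    obtain ⟨q, hq, hqn, hq0⟩ := exists_outside {i, j, r} (Finset.card_le_three.trans (by norm_num))
    simp only [Finset.mem_insert, Finset.mem_singleton, not_or] at hr' hq
    have er := hz r hr'.1 hr'.2
    have eq := hz q hq.1 hq.2.1
    by_cases hs : (8 : ℤ) ∣ (b : GolayPt → ℤ) none + (b : GolayPt → ℤ) (some 0)
    swap
    · refine exists_fix_notA hn (Ne.symm hq.2.2) ⟨hrn, hr0⟩ ⟨hqn, hq0⟩ ?_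
      rw [er, eq]
      have := h4 none; have := h4 (some 0)
      omega
    have hzero : (b : GolayPt → ℤ) none + (b : GolayPt → ℤ) (some 0) = 0 := by
      have hv : ∀ p, (b : GolayPt → ℤ) p = 0 ∨ (b : GolayPt → ℤ) p = 4 ∨
          (b : GolayPt → ℤ) p = -4 := fun p => by
        by_cases h1 : p = i
        · subst h1; omega
        by_cases h2 : p = j
        · subst h2; omega
        exact Or.inl (hz p h1 h2)
      have := hv none; have := hv (some 0)
      omega
    by_cases hin : i ≠ none ∧ i ≠ some 0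
    · refine exists_fix_notA hn (fun e => hq.1 e.symm) hin ⟨hqn, hq0⟩ ?_
      rw [eq, hzero]
      omega
    by_cases hjn : j ≠ none ∧ j ≠ some 0
    · refine exists_fix_notA hn (fun e => hq.2.1 e.symm) hjn ⟨hqn, hq0⟩ ?_
      rw [eq, hzero]
      omega
    obtain ⟨b', hr, hb⟩ := exists_fix_value b (Ne.symm hq.2.2) ⟨hrn, hr0⟩ ⟨hqn, hq0⟩
    rw [er, eq, hzero] at hb
    norm_num at hb
    have hb0 : (b' : GolayPt → ℤ) (some 0) = 0 := by
      have := hr.pair_sum; omega
    have hn' := hr.sqNorm_eq.trans hn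
    rcases min_shape b'.2 hn' with ⟨i', j', hij', hi4', hj4', hz'⟩ | ⟨o, ho, hon, hoff⟩ | h
    · have hi' : i' ≠ none ∧ i' ≠ some 0 := by
        constructor <;> rintro rfl <;> omega
      have hj' : j' ≠ none ∧ j' ≠ some 0 := by
        constructor <;> rintro rfl <;> omega
      obtain ⟨q', hq', hqn', hq0'⟩ := exists_outside {i', j'}
        (Finset.card_le_two.trans (by norm_num))
      simp only [Finset.mem_insert, Finset.mem_singleton, not_or] at hq'
      obtain ⟨b'', hr'', hC⟩ := exists_fix_notA hn' (fun e => hq'.1 e.symm) hi' ⟨hqn', hq0'⟩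
        (by rw [hz' q' hq'.1 hq'.2, hb, hb0]; omega)
      exact ⟨b'', hr.trans hr'', hC⟩
    · obtain ⟨b'', hr'', hC⟩ := exists_fix_odd_of_shapeB hn' ho hon hoff
      exact ⟨b'', hr.trans hr'', hC⟩
    · exact ⟨b', hr, h⟩
  · exact exists_fix_odd_of_shapeB hn ho hon hoff
  · exact ⟨b, FixRel.refl b, h⟩

/-- The three at the extra point with given values on the pair. -/
def AtNone (x : GolayPt → ℤ) (s t : ℤ) : Prop :=
  x none = s ∧ x (some 0) = t ∧ ∀ p, p ≠ none → x p = 1 ∨ x p = -1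

theorem atNone_fix {b b' : leechLattice} {s t : ℤ} (hs : s = 3 ∨ s = -3)
    (h : AtNone (b : GolayPt → ℤ) s t) (h' : AtNone (b' : GolayPt → ℤ) s t) : FixRel b b' :=
  shapeC_fix_same (h.1 ▸ hs) h.2.2 (h'.1 ▸ hs) h'.2.2 (h.1.trans h'.1.symm) (h.2.1.trans h'.2.1.symm)

theorem atNone_of_swap {b : leechLattice} {s t : ℤ} (e1 : (b : GolayPt → ℤ) (some 0) = s)
    (e0 : (b : GolayPt → ℤ) none = t)
    (hrest : ∀ p, p ≠ some 0 → (b : GolayPt → ℤ) p = 1 ∨ (b : GolayPt → ℤ) p = -1) :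
    ∃ b' : leechLattice, FixRel b b' ∧ AtNone (b' : GolayPt → ℤ) s t := by
  obtain ⟨σ, s1, s2, hr⟩ := exists_swap_pair b
  refine ⟨_, hr, by rw [permHom_inv_apply, s1, e1], by rw [permHom_inv_apply, s2, e0],
    fun p hp => ?_⟩
  rw [permHom_inv_apply]
  exact hrest _ fun e => hp ((σ : Equiv.Perm GolayPt).injective (e.trans s1.symm))

theorem normal_sixteen {b : leechLattice} (hn : sqNorm (b : GolayPt → ℤ) = 32)
    (hs : (b : GolayPt → ℤ) none + (b : GolayPt → ℤ) (some 0) = -4) :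
    ∃ b' : leechLattice, FixRel b b' ∧ AtNone (b' : GolayPt → ℤ) (-3) (-1) := by
  obtain ⟨c, hr, i, hi3, hrest⟩ := exists_fix_shapeC hn (by omega)
  have hc := hr.pair_sum
  rw [hs] at hc
  by_cases hin : i = none
  · subst hin
    have := hrest (some 0) (by simp)
    exact ⟨c, hr, by omega, by omega, hrest⟩
  have h0 := hrest none (Ne.symm hin)
  by_cases hi0 : i = some 0
  · subst hi0
    obtain ⟨c', hr', h⟩ := atNone_of_swap (b := c) (s := -3) (t := -1) (by omega) (by omega) hrest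
    exact ⟨c', hr.trans hr', h⟩
  have := hrest (some 0) (Ne.symm hi0)
  omega

/-- Three at the first base point and minus one elsewhere. -/
def awayC : leechLattice := signedC oneWord (pt 1)

theorem awayC_values : (awayC : GolayPt → ℤ) (pt 1) = 3 ∧
    ∀ p, p ≠ pt 1 → (awayC : GolayPt → ℤ) p = -1 := by decide +kernel

theorem normal_eight {b : leechLattice} (hn : sqNorm (b : GolayPt → ℤ) = 32)
    (hs : (b : GolayPt → ℤ) none + (b : GolayPt → ℤ) (some 0) = -2) :
    ∃ b' : leechLattice, FixRel b b' ∧ AtNone (b' : GolayPt → ℤ) (-3) 1 := by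
  obtain ⟨c, hr, i, hi3, hrest⟩ := exists_fix_shapeC hn (by omega)
  have hc := hr.pair_sum
  rw [hs] at hc
  by_cases hin : i = none
  · subst hin
    have := hrest (some 0) (by simp)
    exact ⟨c, hr, by omega, by omega, hrest⟩
  have h0 := hrest none (Ne.symm hin)
  by_cases hi0 : i = some 0
  · subst hi0
    obtain ⟨c', hr', h⟩ := atNone_of_swap (b := c) (s := -3) (t := 1) (by omega) (by omega) hrest
    exact ⟨c', hr.trans hr', h⟩
  have h1 := hrest (some 0) (Ne.symm hi0)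
  have d1 := pts_distinct
  have hr1 : FixRel c awayC := shapeC_fix_away hi3 hrest hin hi0 (Or.inl awayC_values.1)
    (fun p hp => Or.inr (awayC_values.2 p hp)) d1.1.1 d1.1.2
    (by rw [awayC_values.2 _ d1.1.1.symm]; omega) (by rw [awayC_values.2 _ d1.1.2.symm]; omega)
  obtain ⟨d, hr2, hd⟩ := exists_fix_value awayC d1.2.2 d1.1 d1.2.1
  rw [awayC_values.1, awayC_values.2 _ d1.1.1.symm, awayC_values.2 _ d1.1.2.symm,
    awayC_values.2 _ d1.2.2.symm] at hd
  norm_num at hd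
  have hrd := (hr.trans hr1).trans hr2
  have hsum := hrd.pair_sum
  rw [hs] at hsum
  obtain ⟨k, hk3, hkrest⟩ := odd_shape_of_min (hrd.sqNorm_eq.trans hn) (by omega)
  obtain rfl : k = none := by
    by_contra hk
    have := hkrest none (Ne.symm hk)
    omega
  exact ⟨d, hrd, hd, by omega, hkrest⟩

theorem orbit_sixteen {b b' : leechLattice} (hn : sqNorm (b : GolayPt → ℤ) = 32)
    (hn' : sqNorm (b' : GolayPt → ℤ) = 32)
    (hd : dotInt (Spor.leechU : GolayPt → ℤ) (b : GolayPt → ℤ) = -16)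
    (hd' : dotInt (Spor.leechU : GolayPt → ℤ) (b' : GolayPt → ℤ) = -16) : FixRel b b' := by
  rw [dot_U] at hd hd'
  obtain ⟨c, hr, hc⟩ := normal_sixteen hn (by omega)
  obtain ⟨c', hr', hc'⟩ := normal_sixteen hn' (by omega)
  exact (hr.trans (atNone_fix (Or.inr rfl) hc hc')).trans hr'.symm

theorem orbit_eight {b b' : leechLattice} (hn : sqNorm (b : GolayPt → ℤ) = 32)
    (hn' : sqNorm (b' : GolayPt → ℤ) = 32)
    (hd : dotInt (Spor.leechU : GolayPt → ℤ) (b : GolayPt → ℤ) = -8)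
    (hd' : dotInt (Spor.leechU : GolayPt → ℤ) (b' : GolayPt → ℤ) = -8) : FixRel b b' := by
  rw [dot_U] at hd hd'
  obtain ⟨c, hr, hc⟩ := normal_eight hn (by omega)
  obtain ⟨c', hr', hc'⟩ := normal_eight hn' (by omega)
  exact (hr.trans (atNone_fix (Or.inr rfl) hc hc')).trans hr'.symm

theorem normal_zero {b : leechLattice} (hn : sqNorm (b : GolayPt → ℤ) = 32)
    (hs : (b : GolayPt → ℤ) none + (b : GolayPt → ℤ) (some 0) = 0) :
    ∃ (c : leechLattice) (i : GolayPt), FixRel b c ∧ i ≠ none ∧ i ≠ some 0 ∧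
      ((c : GolayPt → ℤ) i = 3 ∨ (c : GolayPt → ℤ) i = -3) ∧
      (∀ p, p ≠ i → (c : GolayPt → ℤ) p = 1 ∨ (c : GolayPt → ℤ) p = -1) ∧
      (c : GolayPt → ℤ) none + (c : GolayPt → ℤ) (some 0) = 0 := by
  obtain ⟨c, hr, i, hi3, hrest⟩ := exists_fix_shapeC hn (by omega)
  have hc := hr.pair_sum
  rw [hs] at hc
  refine ⟨c, i, hr, ?_, ?_, hi3, hrest, hc⟩
  · rintro rfl
    have := hrest (some 0) (by simp)
    omega
  · rintro rfl
    have := hrest none (by simp)
    omega

theorem orbit_zero {b b' : leechLattice} (hn : sqNorm (b : GolayPt → ℤ) = 32)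
    (hn' : sqNorm (b' : GolayPt → ℤ) = 32)
    (hd : dotInt (Spor.leechU : GolayPt → ℤ) (b : GolayPt → ℤ) = 0)
    (hd' : dotInt (Spor.leechU : GolayPt → ℤ) (b' : GolayPt → ℤ) = 0) :
    FixRel b b' ∨ FixRel b (-b') := by
  rw [dot_U] at hd hd'
  obtain ⟨c, i, hr, hin, hi0, hi3, hrest, hcs⟩ := normal_zero hn (by omega)
  obtain ⟨c', i', hr', hin', hi0', hi3', hrest', hcs'⟩ := normal_zero hn' (by omega)
  have h0 := hrest none (Ne.symm hin)
  have h0' := hrest' none (Ne.symm hin')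
  by_cases he : (c : GolayPt → ℤ) none = (c' : GolayPt → ℤ) none
  · exact Or.inl ((hr.trans (shapeC_fix_away hi3 hrest hin hi0 hi3' hrest' hin' hi0' he
      (by omega))).trans hr'.symm)
  · refine Or.inr ((hr.trans (shapeC_fix_away hi3 hrest hin hi0
      (b' := -c') (i' := i') ?_ (fun p hp => ?_) hin' hi0' ?_ ?_)).trans ?_)
    · simp only [AddSubgroup.coe_neg, Pi.neg_apply]; omega
    · simp only [AddSubgroup.coe_neg, Pi.neg_apply]; have := hrest' p hp; omega
    · simp only [AddSubgroup.coe_neg, Pi.neg_apply]; omega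
    · simp only [AddSubgroup.coe_neg, Pi.neg_apply]; omega
    · obtain ⟨h, hU, e⟩ := hr'.symm
      exact ⟨h, hU, by rw [smul_neg', e]⟩

/-- Transport of the orbit statements to an arbitrary shortest vector. -/
theorem exists_fix_of_min {v w w' : leechLattice} (hv : sqNorm (v : GolayPt → ℤ) = 32)
    {P : leechLattice → Prop}
    (hP : ∀ g : Co0, g • v = Spor.leechU → P (g • w) ∧ P (g • w'))
    (horb : ∀ b b', P b → P b' → FixRel b b') : ∃ g : Co0, g • v = v ∧ g • w = w' := by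
  obtain ⟨g, hg⟩ := min_orbit hv
  obtain ⟨h, hU, hb⟩ := horb _ _ (hP g hg).1 (hP g hg).2
  refine ⟨g⁻¹ * h * g, ?_, ?_⟩
  · rw [mul_smul, mul_smul, hg, hU, ← hg, inv_smul_smul]
  · rw [mul_smul, mul_smul, hb, inv_smul_smul]

end CfsgLib.Leech
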