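/-
Counting shortest vectors by their inner product with a vector of squared length 48.
-/
import Cfsg.Agent.Leech.PairCount
import Cfsg.Agent.Leech.Middle

set_option autoImplicit false

namespace CfsgLib.Leech

open Cfsg CfsgLib.Golay

attribute [local irreducible] shortVecs halfTable quarterTable codeFinset

theorem singleTable :
    (PinCount.keys ([none] : List GolayPt).length).map
        (PinCount.mult (([none] : List GolayPt).map idx)) =
      [1, 0, 506, 253, 1288, 1288, 253, 506, 0, 1] := by
  decide +kernel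

theorem dot_five (x : GolayPt → ℤ) :
    dotInt (fiveVec : GolayPt → ℤ) x = 4 * x none + ∑ p, x p := by
  simp only [dotInt, fiveVec_apply]
  rw [← Finset.add_sum_erase Finset.univ _ (Finset.mem_univ none), if_pos rfl,
    Finset.sum_congr rfl (g := fun p => x p) fun p hp => by
      rw [if_neg (Finset.ne_of_mem_erase hp), one_mul],
    ← Finset.add_sum_erase Finset.univ x (Finset.mem_univ none)]
  ring

theorem ncard_dot_five (d : ℤ) (hd : d % 8 = 0) (hdb : -32 ≤ d ∧ d ≤ 32) :
    {x : GolayPt → ℤ | x ∈ leechLattice ∧ sqNorm x = 32 ∧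
      dotInt (fiveVec : GolayPt → ℤ) x = d}.ncard =
      ∑ a ∈ Finset.Icc (-4 : ℤ) 4, PinCount.countWith 1
        [1, 0, 506, 253, 1288, 1288, 253, 506, 0, 1] [a] (decide (a % 2 = 1)) [d - 4 * a] := by
  have hset : {x : GolayPt → ℤ | x ∈ leechLattice ∧ sqNorm x = 32 ∧
      dotInt (fiveVec : GolayPt → ℤ) x = d} =
      ⋃ a ∈ Finset.Icc (-4 : ℤ) 4, PinCount.pinned [none] [a] [d - 4 * a] := by
    ext w
    simp only [PinCount.pinned, Set.mem_ofPred_eq, Set.mem_iUnion, Finset.mem_Icc, dot_five,
      List.zip_cons_cons, List.zip_nil_right, List.mem_cons, List.not_mem_nil, or_false,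
      forall_eq, exists_prop]
    constructor
    · rintro ⟨hw, hn, he⟩
      exact ⟨w none, PinCount.min_value_le hw hn none, hw, hn, rfl, by omega⟩
    · rintro ⟨a, -, hw, hn, e1, e2⟩
      exact ⟨hw, hn, by omega⟩
  have hfin : {w : GolayPt → ℤ | w ∈ leechLattice ∧ sqNorm w = 32}.Finite :=
    Set.finite_of_ncard_pos (by rw [ncard_norm_32]; norm_num)
  rw [hset, ← Finset.set_biUnion_coe,
    Set.Finite.ncard_biUnion (Finset.Icc (-4 : ℤ) 4).finite_toSet
      (fun a _ => hfin.subset fun w hw => ⟨hw.1, hw.2.1⟩) ?_, finsum_mem_coe_finset]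
  · refine Finset.sum_congr rfl fun a ha => ?_
    rw [Finset.mem_Icc] at ha
    refine (PinCount.ncard_pinned (T := [none]) (as := [a]) (S := [d - 4 * a]) (by simp) rfl
      (decide (a % 2 = 1)) (by simp) ?_).trans (PinCount.count_eq_with rfl singleTable _ _ _)
    intro s hs
    rw [List.mem_singleton] at hs
    subst hs
    by_cases h : a % 2 = 1 <;> simp only [h, decide_true, decide_false, if_true, if_false,
      Bool.false_eq_true] <;> omega
  · intro a _ b _ hab
    rw [Function.onFun, Set.disjoint_left]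
    rintro w ⟨-, -, ha, -⟩ ⟨-, -, hb, -⟩
    exact hab ((ha (none, a) (by simp)).symm.trans (hb (none, b) (by simp)))

theorem sqNorm_fiveVec : sqNorm (fiveVec : GolayPt → ℤ) = 48 := by
  have h : (fiveVec : GolayPt → ℤ) = fun p => if p = none then 5 else 1 := funext fiveVec_apply
  rw [h]
  decide +kernel

theorem ncard_middle_sixteen {u : leechLattice} (hu : sqNorm (u : GolayPt → ℤ) = 48) :
    {x : leechLattice | sqNorm (x : GolayPt → ℤ) = 32 ∧
      dotInt (u : GolayPt → ℤ) (x : GolayPt → ℤ) = -16}.ncard = 11178 := by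
  obtain ⟨g, hg⟩ := middle_transitive hu sqNorm_fiveVec
  rw [ncard_smul g (Q := fun x : leechLattice => sqNorm (x : GolayPt → ℤ) = 32 ∧
      dotInt (fiveVec : GolayPt → ℤ) (x : GolayPt → ℤ) = -16)
    (fun x => by rw [sqNorm_smul, ← hg, dot_smul']),
    ncard_coe fun x => sqNorm x = 32 ∧ dotInt (fiveVec : GolayPt → ℤ) x = -16,
    ncard_dot_five (-16) (by norm_num) (by norm_num)]
  decide +kernel

end CfsgLib.Leech
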