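/-
The shapes of the lattice vectors of squared length 48.
-/
import Cfsg.Agent.Leech.ShortCount
import Cfsg.Agent.Leech.MinVectors

set_option autoImplicit false
set_option maxHeartbeats 1000000

namespace CfsgLib.Leech

open Cfsg CfsgLib.Golay

attribute [local irreducible] halfTable quarterTable codeFinset

/-- The even vectors of squared length 48. -/
def midEven : Finset (GolayPt → ℤ) := codeFinset.biUnion (evenFib 12)

/-- The odd vectors of squared length 48. -/
def midOdd : Finset (GolayPt → ℤ) := codeFinset.biUnion (oddFib 3)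

theorem mem_midEven (x : GolayPt → ℤ) :
    x ∈ midEven ↔ x ∈ leechLattice ∧ sqNorm x = 48 ∧ (2 : ℤ) ∣ x none := by
  simp only [midEven, Finset.mem_biUnion, mem_codeFinset]
  constructor
  · rintro ⟨c, hc, hx⟩
    obtain ⟨a, b, d, -⟩ := (mem_evenFib (by norm_num) hc x).mp hx
    exact ⟨a, by simpa using b, d⟩
  · rintro ⟨a, b, d⟩
    exact ⟨hi x, (mem_leech a).code,
      (mem_evenFib (by norm_num) (mem_leech a).code x).mpr ⟨a, by simpa using b, d, rfl⟩⟩

theorem mem_midOdd (x : GolayPt → ℤ) :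
    x ∈ midOdd ↔ x ∈ leechLattice ∧ sqNorm x = 48 ∧ ¬ (2 : ℤ) ∣ x none := by
  simp only [midOdd, Finset.mem_biUnion, mem_codeFinset]
  constructor
  · rintro ⟨c, hc, hx⟩
    obtain ⟨a, b, d, -⟩ := (mem_oddFib (by norm_num) hc x).mp hx
    exact ⟨a, by simpa using b, d⟩
  · rintro ⟨a, b, d⟩
    exact ⟨hi x, (mem_leech a).code,
      (mem_oddFib (by norm_num) (mem_leech a).code x).mpr ⟨a, by simpa using b, d, rfl⟩⟩

theorem disjoint_evenFib {k : ℕ} (hk : k ≤ 16) :
    (codeFinset : Set (GolayPt → ZMod 2)).PairwiseDisjoint (evenFib k) := by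
  intro a ha b hb hab
  rw [Function.onFun, Finset.disjoint_left]
  intro x hxa hxb
  rw [Finset.mem_coe, mem_codeFinset] at ha hb
  exact hab (((mem_evenFib hk ha x).mp hxa).2.2.2.symm.trans ((mem_evenFib hk hb x).mp hxb).2.2.2)

theorem card_evenFib_filter {k : ℕ} (hk : k ≤ 16) (P : ℕ → Prop) [DecidablePred P] :
    ((codeFinset.filter fun c => P (support₂ c).card).biUnion (evenFib k)).card =
      (if P 0 then (halfTable 0).getD (k * 4) 0 else 0) +
        759 * (if P 8 then (halfTable 8).getD (k * 4) 0 else 0) +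
        2576 * (if P 12 then (halfTable 12).getD (k * 4) 0 else 0) +
        759 * (if P 16 then (halfTable 16).getD (k * 4) 0 else 0) +
        (if P 24 then (halfTable 24).getD (k * 4) 0 else 0) := by
  rw [Finset.card_biUnion ((disjoint_evenFib hk).subset
      (Finset.coe_subset.mpr (Finset.filter_subset _ _))), Finset.sum_filter,
    ← sum_codeFinset fun w => if P w then (halfTable w).getD (k * 4) 0 else 0]
  refine Finset.sum_congr rfl fun c _ => ?_
  rw [evenFib, Finset.card_image_of_injective _ two_mul_injective, card_halfBox c hk]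

theorem card_midEven_filter (P : ℕ → Prop) [DecidablePred P] :
    ((codeFinset.filter fun c => P (support₂ c).card).biUnion (evenFib 12)).card =
      (if P 0 then (halfTable 0).getD (12 * 4) 0 else 0) +
        759 * (if P 8 then (halfTable 8).getD (12 * 4) 0 else 0) +
        2576 * (if P 12 then (halfTable 12).getD (12 * 4) 0 else 0) +
        759 * (if P 16 then (halfTable 16).getD (12 * 4) 0 else 0) +
        (if P 24 then (halfTable 24).getD (12 * 4) 0 else 0) :=
  card_evenFib_filter (k := 12) (by norm_num) P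

theorem half_values : (halfTable 0).getD (12 * 4) 0 + 759 * (halfTable 8).getD (12 * 4) 0 +
      2576 * (halfTable 12).getD (12 * 4) 0 + 759 * (halfTable 16).getD (12 * 4) 0 +
      (halfTable 24).getD (12 * 4) 0 = 8384512 ∧
    (halfTable 12).getD (12 * 4) 0 = 2048 ∧ 4096 * quarterTable.getD (3 * 2 + 1) 0 = 8388608 := by decide +kernel

theorem card_midEven : midEven.card = 8384512 := by
  have h := card_midEven_filter fun _ => True
  simp only [Finset.filter_true, if_true] at h
  exact h.trans half_values.1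

theorem card_oddFib_union {k : ℕ} (hk : k ≤ 5) :
    (codeFinset.biUnion (oddFib k)).card = 4096 * quarterTable.getD (k * 2 + 1) 0 := by
  rw [Finset.card_biUnion, Finset.sum_congr rfl (g := fun _ => quarterTable.getD (k * 2 + 1) 0)
    fun c _ => by rw [oddFib, Finset.card_image_of_injective _ (quarter_injective c),
      card_quarterBox hk],
    Finset.sum_const, smul_eq_mul, card_codeFinset]
  intro a ha b hb hab
  rw [Function.onFun, Finset.disjoint_left]
  intro x hxa hxb
  rw [Finset.mem_coe, mem_codeFinset] at ha hb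
  exact hab (((mem_oddFib hk ha x).mp hxa).2.2.2.symm.trans ((mem_oddFib hk hb x).mp hxb).2.2.2)

theorem card_midOdd : midOdd.card = 8388608 :=
  (card_oddFib_union (k := 3) (by norm_num)).trans half_values.2.2

theorem abs_le_of_mid {x : GolayPt → ℤ} (hn : sqNorm x = 48) (p : GolayPt) :
    -6 ≤ x p ∧ x p ≤ 6 := by
  have := Finset.single_le_sum (fun j _ => sq_nonneg (x j)) (Finset.mem_univ p)
  simp only [sqNorm] at hn
  rw [hn] at this
  constructor <;> nlinarith

theorem mem_support_hi {x : GolayPt → ℤ} (hx : x ∈ leechLattice) (h2 : (2 : ℤ) ∣ x none) (p : GolayPt) :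
    p ∈ support₂ (hi x) ↔ x p % 4 = 2 := by
  have := (mem_leech hx).par p
  simp only [support₂, Finset.mem_filter, Finset.mem_univ, true_and, zmod2_ne_zero_iff,
    hi_apply_eq_one]
  omega

theorem twos_iff {x : GolayPt → ℤ} (hx : x ∈ leechLattice) (hn : sqNorm x = 48)
    (h2 : (2 : ℤ) ∣ x none) :
    ((∀ i, x i = 0 ∨ x i = 2 ∨ x i = -2) ↔ (support₂ (hi x)).card = 12) ∧
      ((∀ i, x i = 0 ∨ x i = 2 ∨ x i = -2) ∨ ∃ i, |x i| = 4) := by
  have hsum : ∑ p, x p ^ 2 = 48 := hn
  have hv := abs_le_of_mid hn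
  have hpar : ∀ p, x p % 2 = 0 := fun p => by have := (mem_leech hx).par p; omega
  set o := support₂ (hi x) with ho
  have hge : ∀ p ∈ o, 4 ≤ x p ^ 2 := fun p hp => by
    have := (mem_support_hi hx h2 p).mp hp
    rcases le_or_gt (x p) 0 with hle | hgt
    · nlinarith [show x p ≤ -2 by omega]
    · nlinarith [show x p ≥ 2 by omega]
  refine ⟨⟨fun hall => ?_, fun hcard p => ?_⟩, ?_⟩
  · have hval : ∀ p, x p ^ 2 = if p ∈ o then 4 else 0 := fun p => by
      rcases hall p with e | e | e <;> rw [e]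
      · rw [if_neg fun hp => by have := (mem_support_hi hx h2 p).mp hp; omega]; norm_num
      all_goals rw [if_pos ((mem_support_hi hx h2 p).mpr (by omega))]; norm_num
    rw [Finset.sum_congr rfl fun p _ => hval p, Finset.sum_ite_mem, Finset.univ_inter,
      Finset.sum_const, nsmul_eq_mul] at hsum
    omega
  · have hout : ∑ p ∈ o, (x p ^ 2 - 4) + ∑ p ∈ oᶜ, x p ^ 2 = 0 := by
      rw [Finset.sum_sub_distrib, Finset.sum_const, hcard]
      rw [← Finset.sum_add_sum_compl o] at hsum
      simp only [nsmul_eq_mul]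
      push_cast
      omega
    have hn1 : 0 ≤ ∑ p ∈ o, (x p ^ 2 - 4) :=
      Finset.sum_nonneg fun p hp => by linarith [hge p hp]
    have hn2 : 0 ≤ ∑ p ∈ oᶜ, x p ^ 2 := Finset.sum_nonneg fun p _ => sq_nonneg _
    by_cases hp : p ∈ o
    · have := (Finset.sum_eq_zero_iff_of_nonneg fun q hq => by linarith [hge q hq]).mp
        (show ∑ p ∈ o, (x p ^ 2 - 4) = 0 by omega) p hp
      rcases sq_eq_iff_abs (t := x p) (a := 2) (by simp only [Int.reducePow]; omega) with e | e <;>
        omega
    · have := (Finset.sum_eq_zero_iff_of_nonneg fun q _ => sq_nonneg (x q)).mp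
        (show ∑ p ∈ oᶜ, x p ^ 2 = 0 by omega) p (Finset.mem_compl.mpr hp)
      exact Or.inl (pow_eq_zero_iff two_ne_zero |>.mp this)
  · by_contra hne
    simp only [not_or, not_forall, not_exists] at hne
    obtain ⟨⟨p, hp⟩, hno4⟩ := hne
    have h6 : x p = 6 ∨ x p = -6 := by
      have := hv p; have := hpar p
      have := hno4 p
      rw [abs_eq (by norm_num)] at this
      omega
    have hpo : p ∈ o := (mem_support_hi hx h2 p).mpr (by omega)
    have h8 : 8 ≤ o.card := by
      have hne : hammingNorm (hi x) ≠ 0 := by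
        rw [hammingNorm_eq, ← ho]
        exact (Finset.card_pos.mpr ⟨p, hpo⟩).ne'
      have heq := hammingNorm_eq (hi x)
      rcases hammingNorm_mem _ (mem_leech hx).code with e | e | e | e | e <;> rw [← ho] at heq <;>
        omega
    have h1 : (4 : ℤ) * ((o.erase p).card : ℤ) ≤ ∑ q ∈ o.erase p, x q ^ 2 := by
      have := Finset.card_nsmul_le_sum (o.erase p) (fun q => x q ^ 2) 4
        fun q hq => hge q (Finset.mem_of_mem_erase hq)
      rw [nsmul_eq_mul] at this
      linarith
    have h3 : ∑ q ∈ o, x q ^ 2 ≤ 48 := hsum ▸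
      Finset.sum_le_sum_of_subset_of_nonneg (Finset.subset_univ _) fun q _ _ => sq_nonneg (x q)
    rw [← Finset.add_sum_erase _ _ hpo, Finset.card_erase_of_mem hpo] at *
    rcases h6 with e | e <;> rw [e] at h3 <;> omega

theorem even_of_four {x : GolayPt → ℤ} (hx : x ∈ leechLattice) {i : GolayPt} (h : |x i| = 4) :
    (2 : ℤ) ∣ x none := by
  have := (mem_leech hx).par i
  rw [abs_eq (by norm_num)] at h
  omega

theorem ncard_twos :
    {x : GolayPt → ℤ | x ∈ leechLattice ∧ sqNorm x = 48 ∧
      ∀ i, x i = 0 ∨ x i = 2 ∨ x i = -2}.ncard = 5275648 := by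
  have hset : {x : GolayPt → ℤ | x ∈ leechLattice ∧ sqNorm x = 48 ∧
      ∀ i, x i = 0 ∨ x i = 2 ∨ x i = -2} =
      ((codeFinset.filter fun c => (support₂ c).card = 12).biUnion (evenFib 12) :
        Finset (GolayPt → ℤ)) := by
    ext x
    simp only [Set.mem_ofPred_eq, Finset.coe_biUnion, Set.mem_iUnion, Finset.mem_coe,
      Finset.mem_filter, mem_codeFinset, exists_prop]
    constructor
    · rintro ⟨hx, hn, hall⟩
      have h2 : (2 : ℤ) ∣ x none := by rcases hall none with e | e | e <;> omega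
      exact ⟨hi x, ⟨(mem_leech hx).code, (twos_iff hx hn h2).1.mp hall⟩,
        (mem_evenFib (by norm_num) (mem_leech hx).code x).mpr ⟨hx, by simpa using hn, h2, rfl⟩⟩
    · rintro ⟨c, ⟨hc, h12⟩, hx⟩
      obtain ⟨a, b, d, rfl⟩ := (mem_evenFib (by norm_num) hc x).mp hx
      have b' : sqNorm x = 48 := by simpa using b
      exact ⟨a, b', (twos_iff a b' d).1.mpr h12⟩
  rw [hset, Set.ncard_coe_finset, card_midEven_filter fun w => w = 12, if_neg (by decide),
    if_neg (by decide), if_pos rfl, if_neg (by decide), if_neg (by decide), half_values.2.1]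

theorem ncard_fours :
    {x : GolayPt → ℤ | x ∈ leechLattice ∧ sqNorm x = 48 ∧ ∃ i, |x i| = 4}.ncard = 3108864 := by
  have hset : {x : GolayPt → ℤ | x ∈ leechLattice ∧ sqNorm x = 48 ∧ ∃ i, |x i| = 4} =
      (midEven : Set (GolayPt → ℤ)) \ {x | x ∈ leechLattice ∧ sqNorm x = 48 ∧
        ∀ i, x i = 0 ∨ x i = 2 ∨ x i = -2} := by
    ext x
    simp only [Set.mem_sdiff, Set.mem_ofPred_eq, Finset.mem_coe, mem_midEven]
    constructor
    · rintro ⟨hx, hn, i, h4⟩
      refine ⟨⟨hx, hn, even_of_four hx h4⟩, fun h => ?_⟩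
      rw [abs_eq (by norm_num)] at h4
      rcases h.2.2 i with e | e | e <;> omega
    · rintro ⟨⟨hx, hn, h2⟩, hne⟩
      exact ⟨hx, hn, (twos_iff hx hn h2).2.resolve_left fun h => hne ⟨hx, hn, h⟩⟩
  have hsub : {x : GolayPt → ℤ | x ∈ leechLattice ∧ sqNorm x = 48 ∧
      ∀ i, x i = 0 ∨ x i = 2 ∨ x i = -2} ⊆ (midEven : Set (GolayPt → ℤ)) := fun x hx =>
    (mem_midEven x).mpr ⟨hx.1, hx.2.1, by rcases hx.2.2 none with e | e | e <;> omega⟩
  rw [hset, Set.ncard_sdiff hsub (midEven.finite_toSet.subset hsub), Set.ncard_coe_finset,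
    card_midEven, ncard_twos]

/-- Five at a point and one elsewhere, with signs. -/
def fiveAt (q : GolayPt × (GolayPt → ZMod 2)) : GolayPt → ℤ :=
  flipSign q.2 fun p => if p = q.1 then 5 else 1

theorem sum_five (i : GolayPt) : ∑ p : GolayPt, (if p = i then (5 : ℤ) else 1) = 28 := by
  rw [← Finset.add_sum_erase Finset.univ _ (Finset.mem_univ i),
    Finset.sum_congr rfl (g := fun _ => (1 : ℤ)) fun p hp => if_neg (Finset.ne_of_mem_erase hp)]
  simp [Finset.card_erase_of_mem, card_golayPt]

theorem odd_rest {x : GolayPt → ℤ} (hx : x ∈ leechLattice) (hn : sqNorm x = 48) {i : GolayPt}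
    (h5 : |x i| = 5) : ∀ p, p ≠ i → x p = 1 ∨ x p = -1 := by
  rw [abs_eq (by norm_num)] at h5
  have hodd : ∀ p, x p % 2 = 1 := fun p => by
    have h1 := (mem_leech hx).par p; have h2 := (mem_leech hx).par i
    rcases h5 with e | e <;> omega
  have h1 : ∀ p, 0 ≤ x p ^ 2 - 1 := fun p => by
    have : x p ≠ 0 := by have := hodd p; omega
    have : 0 < x p ^ 2 := by positivity
    omega
  have htot : ∑ p, (x p ^ 2 - 1) = 24 := by
    rw [Finset.sum_sub_distrib, Finset.sum_const, Finset.card_univ, card_golayPt]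
    rw [show (∑ p, x p ^ 2) = 48 from hn]
    norm_num
  rw [← Finset.add_sum_erase Finset.univ _ (Finset.mem_univ i)] at htot
  intro p hp
  have hz : ∑ q ∈ Finset.univ.erase i, (x q ^ 2 - 1) = 0 := by
    rcases h5 with e | e <;> rw [e] at htot <;> norm_num at htot ⊢ <;> linarith
  have := (Finset.sum_eq_zero_iff_of_nonneg fun q _ => h1 q).mp hz p
    (Finset.mem_erase.mpr ⟨hp, Finset.mem_univ p⟩)
  exact sq_eq_iff_abs (by simp only [Int.reducePow]; omega)

theorem ncard_fives :
    {x : GolayPt → ℤ | x ∈ leechLattice ∧ sqNorm x = 48 ∧ ∃ i, |x i| = 5}.ncard = 98304 := by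
  have hset : {x : GolayPt → ℤ | x ∈ leechLattice ∧ sqNorm x = 48 ∧ ∃ i, |x i| = 5} =
      ((Finset.univ ×ˢ codeFinset).image fiveAt : Finset (GolayPt → ℤ)) := by
    ext x
    simp only [Set.mem_ofPred_eq, Finset.coe_image, Set.mem_image, Finset.mem_coe,
      Finset.mem_product, Finset.mem_univ, true_and, mem_codeFinset]
    constructor
    · rintro ⟨hx, hn, i, h5⟩
      have hr := odd_rest hx hn h5
      rw [abs_eq (by norm_num)] at h5
      refine ⟨(i, hi x), (mem_leech hx).code, funext fun p => ?_⟩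
      simp only [fiveAt, flipSign, hi_apply_eq_one]
      by_cases hp : p = i
      · subst hp; rcases h5 with e | e <;> simp [e]
      · rcases hr p hp with e | e <;> simp [e, hp]
    · rintro ⟨⟨i, c⟩, hc, rfl⟩
      refine ⟨flipSign_mem hc (AddSubgroup.subset_closure
        (Spor.mem_leechSet_of_const_mod_four _ 1 1 rfl (fun p => ?_) ?_)), ?_, i, ?_⟩
      · simp only [Int.ModEq]; split <;> omega
      · rw [sum_five]; decide
      · simp only [sqNorm, fiveAt, flipSign]
        rw [← Finset.add_sum_erase Finset.univ _ (Finset.mem_univ i),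
          Finset.sum_congr rfl (g := fun _ => (1 : ℤ)) fun p hp => by
            rw [if_neg (Finset.ne_of_mem_erase hp)]; split <;> norm_num]
        simp [Finset.card_erase_of_mem, card_golayPt]
      · simp only [fiveAt, flipSign]
        split <;> simp
  rw [hset, Set.ncard_coe_finset, Finset.card_image_of_injective, Finset.card_product,
    Finset.card_univ, card_golayPt, card_codeFinset]
  rintro ⟨i, c⟩ ⟨j, d⟩ h
  have hij : i = j := by
    have := congrFun h i
    simp only [fiveAt, flipSign, if_true] at this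
    by_contra hne
    rw [if_neg hne] at this
    split at this <;> split at this <;> omega
  subst hij
  refine Prod.ext rfl (funext fun p => ?_)
  have := congrFun h p
  simp only [fiveAt, flipSign] at this
  rcases (show c p = 0 ∨ c p = 1 by generalize c p = a; revert a; decide) with e | e <;>
    rcases (show d p = 0 ∨ d p = 1 by generalize d p = a; revert a; decide) with e' | e' <;>
    simp only [e, e', zero_ne_one, if_true, if_false] at this ⊢ <;>
    split at this <;> omega

theorem threes_iff {x : GolayPt → ℤ} (hx : x ∈ leechLattice) (hn : sqNorm x = 48) :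
    (∃ i j k, i ≠ j ∧ j ≠ k ∧ i ≠ k ∧ |x i| = 3 ∧ |x j| = 3 ∧ |x k| = 3) ↔
      ¬ (2 : ℤ) ∣ x none ∧ ¬ ∃ i, |x i| = 5 := by
  constructor
  · rintro ⟨i, j, k, hij, hjk, hik, h1, h2, h3⟩
    refine ⟨fun hd => ?_, ?_⟩
    · have := (mem_leech hx).par i
      rw [abs_eq (by norm_num)] at h1
      omega
    · rintro ⟨p, hp⟩
      have hr := odd_rest hx hn hp
      rw [abs_eq (by norm_num)] at h1 h2
      have hip : i ≠ p := fun e => by subst e; rw [abs_eq (by norm_num)] at hp; omega
      rcases hr i hip with e | e <;> omega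
  · rintro ⟨hodd, hno5⟩
    simp only [not_exists] at hno5
    have hval : ∀ p, x p = 1 ∨ x p = -1 ∨ x p = 3 ∨ x p = -3 := fun p => by
      have := abs_le_of_mid hn p
      have := (mem_leech hx).par p
      have := hno5 p
      rw [abs_eq (by norm_num)] at this
      omega
    have hsq : ∀ p, x p ^ 2 - 1 = 8 * if |x p| = 3 then 1 else 0 := fun p => by
      rcases hval p with e | e | e | e <;> rw [e] <;> norm_num
    have htot : ∑ p, (x p ^ 2 - 1) = 24 := by
      rw [Finset.sum_sub_distrib, Finset.sum_const, Finset.card_univ, card_golayPt]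
      rw [show (∑ p, x p ^ 2) = 48 from hn]
      norm_num
    rw [Finset.sum_congr rfl fun p _ => hsq p, ← Finset.mul_sum, Finset.sum_boole] at htot
    obtain ⟨i, j, k, hij, hik, hjk, hs⟩ := Finset.card_eq_three.mp
      (show (Finset.univ.filter fun p => |x p| = 3).card = 3 by
        have : ((Finset.univ.filter fun p => |x p| = 3).card : ℤ) = 3 := by linarith
        exact_mod_cast this)
    have hm : ∀ p, p ∈ ({i, j, k} : Finset GolayPt) → |x p| = 3 := fun p hp =>
      (Finset.mem_filter.mp ((Finset.ext_iff.mp hs p).mpr hp)).2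
    exact ⟨i, j, k, hij, hjk, hik, hm i (by simp), hm j (by simp), hm k (by simp)⟩

theorem ncard_threes :
    {x : GolayPt → ℤ | x ∈ leechLattice ∧ sqNorm x = 48 ∧
      ∃ i j k, i ≠ j ∧ j ≠ k ∧ i ≠ k ∧ |x i| = 3 ∧ |x j| = 3 ∧ |x k| = 3}.ncard = 8290304 := by
  have hset : {x : GolayPt → ℤ | x ∈ leechLattice ∧ sqNorm x = 48 ∧
      ∃ i j k, i ≠ j ∧ j ≠ k ∧ i ≠ k ∧ |x i| = 3 ∧ |x j| = 3 ∧ |x k| = 3} =
      (midOdd : Set (GolayPt → ℤ)) \
        {x | x ∈ leechLattice ∧ sqNorm x = 48 ∧ ∃ i, |x i| = 5} := by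
    ext x
    simp only [Set.mem_sdiff, Set.mem_ofPred_eq, Finset.mem_coe, mem_midOdd]
    constructor
    · rintro ⟨hx, hn, h⟩
      obtain ⟨a, b⟩ := (threes_iff hx hn).mp h
      exact ⟨⟨hx, hn, a⟩, fun e => b e.2.2⟩
    · rintro ⟨⟨hx, hn, a⟩, hne⟩
      exact ⟨hx, hn, (threes_iff hx hn).mpr ⟨a, fun e => hne ⟨hx, hn, e⟩⟩⟩
  have hsub : {x : GolayPt → ℤ | x ∈ leechLattice ∧ sqNorm x = 48 ∧ ∃ i, |x i| = 5} ⊆
      (midOdd : Set (GolayPt → ℤ)) := by
    rintro x ⟨hx, hn, i, h5⟩
    refine (mem_midOdd x).mpr ⟨hx, hn, ?_⟩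
    have := (mem_leech hx).par i
    rw [abs_eq (by norm_num)] at h5
    omega
  rw [hset, Set.ncard_sdiff hsub (midOdd.finite_toSet.subset hsub), Set.ncard_coe_finset,
    card_midOdd, ncard_fives]

end CfsgLib.Leech
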