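/-
The stabiliser of a shortest vector on the vectors of squared length 48 with inner product minus 16.
-/
import Cfsg.Agent.Leech.StabOrbits
import Cfsg.Agent.Leech.MiddleShapes
import Cfsg.Agent.Leech.Middle

set_option autoImplicit false
set_option linter.constructorNameAsVariable false

namespace CfsgLib.Leech

open Cfsg CfsgLib.Golay

attribute [local irreducible] shortVecs halfTable quarterTable codeFinset

theorem signAut_fix_U (w : golayCode) (h0 : (w : GolayPt → ZMod 2) none = 0)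
    (h1 : (w : GolayPt → ZMod 2) (some 0) = 0) : signAut w • Spor.leechU = Spor.leechU := by
  refine Subtype.ext (funext fun p => ?_)
  rw [signAut_apply]
  show (if (w : GolayPt → ZMod 2) p = 1 then -Spor.vecU p else Spor.vecU p) = Spor.vecU p
  by_cases hp : p = none ∨ p = some 0
  · rcases hp with rfl | rfl <;> simp [h0, h1]
  · simp [Spor.vecU, hp]

/-- Signs of a code word may be changed when they agree on the standard pair. -/
theorem flip_fix {b b' : leechLattice} (a : GolayPt → ℤ) (c c' : golayCode)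
    (hb : (b : GolayPt → ℤ) = flipSign c a) (hb' : (b' : GolayPt → ℤ) = flipSign c' a)
    (h0 : (c : GolayPt → ZMod 2) none = (c' : GolayPt → ZMod 2) none)
    (h1 : (c : GolayPt → ZMod 2) (some 0) = (c' : GolayPt → ZMod 2) (some 0)) : FixRel b b' := by
  have hself : ∀ z : ZMod 2, z + z = 0 := by decide
  refine ⟨signAut (c + c'), signAut_fix_U _ ?_ ?_, Subtype.ext (funext fun p => ?_)⟩
  · show (c : GolayPt → ZMod 2) none + (c' : GolayPt → ZMod 2) none = 0
    rw [h0, hself]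
  · show (c : GolayPt → ZMod 2) (some 0) + (c' : GolayPt → ZMod 2) (some 0) = 0
    rw [h1, hself]
  · rw [signAut_apply, hb, hb']
    show flipSign ((c : GolayPt → ZMod 2) + (c' : GolayPt → ZMod 2)) (flipSign c a) p = _
    simp only [flipSign, Pi.add_apply]
    rcases eq_zero_or_one ((c : GolayPt → ZMod 2) p) with e | e <;>
      rcases eq_zero_or_one ((c' : GolayPt → ZMod 2) p) with e' | e' <;> simp [e, e', hself]

/-- Minus five at the extra point with one at zero. -/
def AtFive (x : GolayPt → ℤ) : Prop :=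
  x none = -5 ∧ x (some 0) = 1 ∧ ∀ p, p ≠ none → x p = 1 ∨ x p = -1

theorem atFive_fix {b b' : leechLattice} (h : AtFive (b : GolayPt → ℤ))
    (h' : AtFive (b' : GolayPt → ℤ)) : FixRel b b' := by
  have key : ∀ c : leechLattice, AtFive (c : GolayPt → ℤ) → (c : GolayPt → ℤ) =
      flipSign (hi (c : GolayPt → ℤ)) fun p => if p = none then 5 else 1 := fun c hc => by
    funext p
    simp only [flipSign, hi_apply_eq_one]
    by_cases hp : p = none
    · subst hp; simp [hc.1]
    · rcases hc.2.2 p hp with e | e <;> simp [e, hp]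
  exact flip_fix _ ⟨hi (b : GolayPt → ℤ), (mem_leech b.2).code⟩
    ⟨hi (b' : GolayPt → ℤ), (mem_leech b'.2).code⟩ (key b h) (key b' h')
    (by simp only [hi, h.1, h'.1]) (by simp only [hi, h.2.1, h'.2.1])

theorem to_atFive_of_five {b : leechLattice} (hn : sqNorm (b : GolayPt → ℤ) = 48)
    (hs : (b : GolayPt → ℤ) none + (b : GolayPt → ℤ) (some 0) = -4) {i : GolayPt}
    (h5 : |(b : GolayPt → ℤ) i| = 5) :
    ∃ c : leechLattice, FixRel b c ∧ AtFive (c : GolayPt → ℤ) := by
  have hr := odd_rest b.2 hn h5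
  rw [abs_eq (by norm_num)] at h5
  by_cases hin : i = none
  · subst hin
    have := hr (some 0) (by simp)
    exact ⟨b, FixRel.refl b, by omega, by omega, hr⟩
  have h0 := hr none (Ne.symm hin)
  by_cases hi0 : i = some 0
  · subst hi0
    obtain ⟨σ, s1, s2, hrel⟩ := exists_swap_pair b
    refine ⟨_, hrel, by rw [permHom_inv_apply, s1]; omega, by rw [permHom_inv_apply, s2]; omega,
      fun p hp => ?_⟩
    rw [permHom_inv_apply]
    exact hr _ fun e => hp ((σ : Equiv.Perm GolayPt).injective (e.trans s1.symm))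
  have := hr (some 0) (Ne.symm hi0)
  omega

/-- A move with prescribed effect, after a first reflection. -/
theorem exists_fix_value_xi (b : leechLattice)
    (hU : (b : GolayPt → ℤ) none + (b : GolayPt → ℤ) (some 0) = -4) {p q : GolayPt} (hpq : p ≠ q)
    (hp : p ≠ pt 1 ∧ p ≠ pt 2) (hq : q ≠ pt 1 ∧ q ≠ pt 2)
    (hval : xi (b : GolayPt → ℤ) p - xi (b : GolayPt → ℤ) q = 6) :
    ∃ c : leechLattice, FixRel b c ∧ (c : GolayPt → ℤ) none = -5 := by
  obtain ⟨τ, t1, t2⟩ := exists_mem_map_two pts_distinct.2.2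
  rw [bp_values.1] at t1
  rw [bp_values.2.1] at t2
  set y := ((permHom τ)⁻¹ * xiAut) • b with hy
  have hrel : FixRel b y := by
    refine ⟨_, ?_, hy.symm⟩
    rw [mul_smul]
    refine Subtype.ext (funext fun i => ?_)
    rw [permHom_inv_apply, xiAut_apply, leechU_apply]
    show xi Spor.vecU _ = _
    by_cases hi1 : i = none
    · subst hi1; rw [t1, xiU_apply.1]; simp
    by_cases hi0 : i = some 0
    · subst hi0; rw [t2, xiU_apply.2.1]; simp
    rw [xiU_apply.2.2 _ (fun h => hi1 ((τ : Equiv.Perm GolayPt).injective (h.trans t1.symm)))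
      (fun h => hi0 ((τ : Equiv.Perm GolayPt).injective (h.trans t2.symm)))]
    simp [hi1, hi0]
  have hv : ∀ r, (y : GolayPt → ℤ) r = xi (b : GolayPt → ℤ) ((τ : Equiv.Perm GolayPt) r) := fun r => by
    rw [hy, mul_smul, permHom_inv_apply, xiAut_apply]
  have hne : ∀ r : GolayPt, r ≠ pt 1 ∧ r ≠ pt 2 →
      (τ : Equiv.Perm GolayPt).symm r ≠ none ∧ (τ : Equiv.Perm GolayPt).symm r ≠ some 0 := fun r hr =>
    ⟨fun e => hr.1 (by rw [← t1, ← e, Equiv.apply_symm_apply]),
      fun e => hr.2 (by rw [← t2, ← e, Equiv.apply_symm_apply])⟩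
  obtain ⟨c, hc, hcv⟩ := exists_fix_value y (fun e => hpq ((τ : Equiv.Perm GolayPt).symm.injective e))
    (hne p hp) (hne q hq)
  refine ⟨c, hrel.trans hc, ?_⟩
  have h4 := hrel.pair_sum
  rw [hcv, hv ((τ : Equiv.Perm GolayPt).symm p), hv ((τ : Equiv.Perm GolayPt).symm q),
    Equiv.apply_symm_apply, Equiv.apply_symm_apply]
  omega

/-- Minus three at the extra point and the first two base points, one elsewhere. -/
def threeBase : GolayPt → ℤ := fun p => if p = none ∨ p = pt 1 ∨ p = pt 2 then -3 else 1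

theorem threeBase_mem : threeBase ∈ leechLattice := by
  refine AddSubgroup.subset_closure (Spor.mem_leechSet_of_const_mod_four _ 1 1 rfl (fun p => ?_) ?_)
  · unfold threeBase; split <;> decide
  · decide +kernel

theorem three_witness : ∀ k ∈ [7, 17], ∃ p q : GolayPt, p ≠ q ∧ (p ≠ pt 1 ∧ p ≠ pt 2) ∧
    (q ≠ pt 1 ∧ q ≠ pt 2) ∧
      xi (flipSign (vec (word k)) threeBase) p - xi (flipSign (vec (word k)) threeBase) q = 6 := by
  decide +kernel

theorem three_words : ∀ k ∈ [7, 17], vec (word k) none = 0 ∧ vec (word k) (some 0) = 1 ∧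
    vec (word k) (pt 1) = vec (word k) (pt 2) ∧
    vec (word k) (pt 1) = (if k = 7 then 1 else 0) := by decide +kernel

theorem to_atFive_of_odd {b : leechLattice} (hn : sqNorm (b : GolayPt → ℤ) = 48)
    (hs : (b : GolayPt → ℤ) none + (b : GolayPt → ℤ) (some 0) = -4)
    (hodd : ¬ (2 : ℤ) ∣ (b : GolayPt → ℤ) none) :
    ∃ c : leechLattice, FixRel b c ∧ AtFive (c : GolayPt → ℤ) := by
  by_cases h5 : ∃ i, |(b : GolayPt → ℤ) i| = 5
  · obtain ⟨i, hi5⟩ := h5
    exact to_atFive_of_five hn hs hi5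
  have five : ∀ c : leechLattice, FixRel b c → (c : GolayPt → ℤ) none = -5 →
      ∃ d : leechLattice, FixRel b d ∧ AtFive (d : GolayPt → ℤ) := fun c hc hv => by
    obtain ⟨d, hd, hA⟩ := to_atFive_of_five (hc.sqNorm_eq.trans hn)
      (by rw [hc.pair_sum]; exact hs) (i := none) (by rw [hv]; rfl)
    exact ⟨d, hc.trans hd, hA⟩
  -- put minus three at the extra point
  obtain ⟨a, hra, hno, han, ha0⟩ : ∃ a : leechLattice, FixRel b a ∧
      (¬ ∃ i, |(a : GolayPt → ℤ) i| = 5) ∧ (a : GolayPt → ℤ) none = -3 ∧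
      (a : GolayPt → ℤ) (some 0) = -1 := by
    have hn1 := abs_le_of_mid hn none
    have hn2 := abs_le_of_mid hn (some 0)
    have hp := (mem_leech b.2).par (some 0)
    have e1 : |(b : GolayPt → ℤ) none| ≠ 5 := fun e => h5 ⟨_, e⟩
    have e2 : |(b : GolayPt → ℤ) (some 0)| ≠ 5 := fun e => h5 ⟨_, e⟩
    rw [Ne, abs_eq (by norm_num)] at e1 e2
    rcases (show ((b : GolayPt → ℤ) none = -3 ∧ (b : GolayPt → ℤ) (some 0) = -1) ∨
        ((b : GolayPt → ℤ) none = -1 ∧ (b : GolayPt → ℤ) (some 0) = -3) by omega) with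
      ⟨u, v⟩ | ⟨u, v⟩
    · exact ⟨b, FixRel.refl b, h5, u, v⟩
    · obtain ⟨σ, s1, s2, hrel⟩ := exists_swap_pair b
      exact ⟨_, hrel,
        fun ⟨i, hi5⟩ => h5 ⟨(σ : Equiv.Perm GolayPt) i, by rwa [permHom_inv_apply] at hi5⟩,
        by rw [permHom_inv_apply, s1, v], by rw [permHom_inv_apply, s2, u]⟩
  have hna := hra.sqNorm_eq.trans hn
  have hsa : (a : GolayPt → ℤ) none + (a : GolayPt → ℤ) (some 0) = -4 := by omega
  -- the other two threes
  obtain ⟨i, j, k, hij, hjk, hik, h1, h2, h3⟩ := (threes_iff a.2 hna).mpr ⟨by omega, hno⟩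
  rw [abs_eq (by norm_num)] at h1 h2 h3
  obtain ⟨p, q, hpq, hp, hq, e1, e2⟩ : ∃ p q, p ≠ q ∧ (p ≠ none ∧ p ≠ some 0) ∧
      (q ≠ none ∧ q ≠ some 0) ∧ ((a : GolayPt → ℤ) p = 3 ∨ (a : GolayPt → ℤ) p = -3) ∧
      ((a : GolayPt → ℤ) q = 3 ∨ (a : GolayPt → ℤ) q = -3) := by
    have h0 : ∀ r, ((a : GolayPt → ℤ) r = 3 ∨ (a : GolayPt → ℤ) r = -3) → r ≠ some 0 := by
      rintro r hr rfl; omega
    by_cases u1 : i = none
    · exact ⟨j, k, hjk, ⟨fun e => hij (u1.trans e.symm), h0 j h2⟩,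
        ⟨fun e => hik (u1.trans e.symm), h0 k h3⟩, h2, h3⟩
    by_cases u2 : j = none
    · exact ⟨i, k, hik, ⟨u1, h0 i h1⟩, ⟨fun e => hjk (u2.trans e.symm), h0 k h3⟩, h1, h3⟩
    exact ⟨i, j, hij, ⟨u1, h0 i h1⟩, ⟨u2, h0 j h2⟩, h1, h2⟩
  rcases (show ((a : GolayPt → ℤ) p = 3 ∧ (a : GolayPt → ℤ) q = -3) ∨
      ((a : GolayPt → ℤ) q = 3 ∧ (a : GolayPt → ℤ) p = -3) ∨
      (a : GolayPt → ℤ) p = (a : GolayPt → ℤ) q by omega) with ⟨u, v⟩ | ⟨u, v⟩ | hsame
  · obtain ⟨c, hc, hcv⟩ := exists_fix_value a hpq hp hq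
    exact five c (hra.trans hc) (by rw [hcv, u, v, han, ha0]; rfl)
  · obtain ⟨c, hc, hcv⟩ := exists_fix_value a hpq.symm hq hp
    exact five c (hra.trans hc) (by rw [hcv, u, v, han, ha0]; rfl)
  -- equal signs
  obtain ⟨σ, s1, s2, s3, s4⟩ := exists_mem_map_four (a := none) (b := some 0) (c := p) (d := q)
    (by simp) hp.1.symm hq.1.symm hp.2.symm hq.2.symm hpq
  set d := (permHom σ)⁻¹ • a with hd
  have hrd : FixRel a d := ⟨_, perm_fix_U s1 s2, hd.symm⟩
  have hv : ∀ r, (d : GolayPt → ℤ) r = (a : GolayPt → ℤ) ((σ : Equiv.Perm GolayPt) r) :=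
    fun r => permHom_inv_apply σ a r
  have d0 : (d : GolayPt → ℤ) none = -3 := by rw [hv, s1, han]
  have d1 : (d : GolayPt → ℤ) (some 0) = -1 := by rw [hv, s2, ha0]
  have d2 : (d : GolayPt → ℤ) (pt 1) = (a : GolayPt → ℤ) p := by rw [hv, s3]
  have d3 : (d : GolayPt → ℤ) (pt 2) = (a : GolayPt → ℤ) p := by rw [hv, s4, hsame]
  have hnd := hrd.sqNorm_eq.trans hna
  have hform : (d : GolayPt → ℤ) = flipSign (hi (d : GolayPt → ℤ)) threeBase := by
    have hsq : ∀ r, (r = none ∨ r = pt 1 ∨ r = pt 2) → (d : GolayPt → ℤ) r ^ 2 - 1 = 8 := by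
      rintro r (rfl | rfl | rfl)
      · rw [d0]; norm_num
      · rcases e1 with e | e <;> rw [d2, e] <;> norm_num
      · rcases e1 with e | e <;> rw [d3, e] <;> norm_num
    have hodd' : ∀ r, (d : GolayPt → ℤ) r % 2 = 1 := fun r => by
      have := (mem_leech d.2).par r; omega
    have hge : ∀ r, 0 ≤ (d : GolayPt → ℤ) r ^ 2 - 1 := fun r => by
      have : (d : GolayPt → ℤ) r ≠ 0 := by have := hodd' r; omega
      have : 0 < (d : GolayPt → ℤ) r ^ 2 := by positivity
      omega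
    have htot : ∑ r, ((d : GolayPt → ℤ) r ^ 2 - 1) = 24 := by
      rw [Finset.sum_sub_distrib, Finset.sum_const, Finset.card_univ, card_golayPt]
      rw [show (∑ r, (d : GolayPt → ℤ) r ^ 2) = 48 from hnd]
      norm_num
    rw [← Finset.sum_add_sum_compl ({none, pt 1, pt 2} : Finset GolayPt),
      Finset.sum_congr rfl (g := fun _ => (8 : ℤ)) fun r hr => hsq r (by simpa using hr),
      Finset.sum_const, show ({none, pt 1, pt 2} : Finset GolayPt).card = 3 by decide +kernel,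
      nsmul_eq_mul] at htot
    have hz : ∑ r ∈ ({none, pt 1, pt 2} : Finset GolayPt)ᶜ, ((d : GolayPt → ℤ) r ^ 2 - 1) = 0 := by
      push_cast at htot ⊢
      linarith
    funext r
    simp only [flipSign, hi_apply_eq_one, threeBase]
    by_cases hr : r = none ∨ r = pt 1 ∨ r = pt 2
    · have := hsq r hr
      rcases sq_eq_iff_abs (t := (d : GolayPt → ℤ) r) (a := 3) (by simp only [Int.reducePow]; omega)
        with e | e <;> simp [e, hr]
    · have := (Finset.sum_eq_zero_iff_of_nonneg fun r _ => hge r).mp hz r (by simpa using hr)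
      rcases sq_eq_iff_abs (t := (d : GolayPt → ℤ) r) (a := 1) (by simp only [Int.reducePow]; omega)
        with e | e <;> simp [e, hr]
  obtain ⟨w, hw, hw0, hw1⟩ : ∃ w ∈ [7, 17], vec (word w) none = hi (d : GolayPt → ℤ) none ∧
      vec (word w) (pt 1) = hi (d : GolayPt → ℤ) (pt 1) := by
    rcases e1 with e | e
    · exact ⟨7, by simp, by rw [(three_words 7 (by simp)).1]; simp [hi, d0] <;> decide,
        by rw [(three_words 7 (by simp)).2.2.2]; simp [hi, d2, e] <;> decide⟩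
    · exact ⟨17, by simp, by rw [(three_words 17 (by simp)).1]; simp [hi, d0] <;> decide,
        by rw [(three_words 17 (by simp)).2.2.2]; simp [hi, d2, e] <;> decide⟩
  let r : leechLattice := ⟨flipSign (vec (word w)) threeBase,
    flipSign_mem (vec_word_mem w) threeBase_mem⟩
  have hrr : FixRel d r := flip_fix threeBase ⟨hi (d : GolayPt → ℤ), (mem_leech d.2).code⟩
    ⟨vec (word w), vec_word_mem w⟩ hform rfl hw0.symm
    (by show hi _ (some 0) = vec (word w) (some 0)
        rw [(three_words w hw).2.1]; simp [hi, d1] <;> decide)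
  obtain ⟨p', q', hpq', hp', hq', hval⟩ := three_witness w hw
  obtain ⟨c, hc, hcv⟩ := exists_fix_value_xi r (by rw [hrr.pair_sum, hrd.pair_sum, hsa]) hpq' hp' hq' hval
  exact five c (((hra.trans hrd).trans hrr).trans hc) hcv

theorem to_atFive {b : leechLattice} (hn : sqNorm (b : GolayPt → ℤ) = 48)
    (hs : (b : GolayPt → ℤ) none + (b : GolayPt → ℤ) (some 0) = -4) :
    ∃ c : leechLattice, FixRel b c ∧ AtFive (c : GolayPt → ℤ) := by
  by_cases hodd : ¬ (2 : ℤ) ∣ (b : GolayPt → ℤ) none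
  · exact to_atFive_of_odd hn hs hodd
  rw [not_not] at hodd
  have hsum : ∑ r, (b : GolayPt → ℤ) r ^ 2 = 48 := hn
  set o := support₂ (hi (b : GolayPt → ℤ)) with ho
  have hw : o.card = 8 ∨ o.card = 12 := by
    have h4 : (4 : ℤ) * o.card ≤ ∑ r ∈ o, (b : GolayPt → ℤ) r ^ 2 := by
      have := Finset.card_nsmul_le_sum o (fun r => (b : GolayPt → ℤ) r ^ 2) 4 fun r hr => by
        have := (mem_support_hi b.2 hodd r).mp hr
        rcases le_or_gt ((b : GolayPt → ℤ) r) 0 with hle | hgt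
        · nlinarith [show (b : GolayPt → ℤ) r ≤ -2 by omega]
        · nlinarith [show (b : GolayPt → ℤ) r ≥ 2 by omega]
      rw [nsmul_eq_mul] at this
      linarith
    have h5 : ∑ r ∈ o, (b : GolayPt → ℤ) r ^ 2 ≤ 48 := hsum ▸
      Finset.sum_le_sum_of_subset_of_nonneg (Finset.subset_univ _) fun r _ _ => sq_nonneg _
    have hne : o.card ≠ 0 := by
      intro h0
      have hc : hi (b : GolayPt → ℤ) = 0 := by
        rw [← hammingNorm_eq_zero, hammingNorm_eq, ← ho]; exact h0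
      have h4 := sum_eq_zero_of_code_zero (mem_leech b.2) (by omega) hc
      choose z hz using h4
      have hz3 : ∑ r, z r ^ 2 = 3 := by
        have : ∑ r, (b : GolayPt → ℤ) r ^ 2 = 16 * ∑ r, z r ^ 2 := by
          rw [Finset.mul_sum]; exact Finset.sum_congr rfl fun r _ => by rw [hz r]; ring
        omega
      have hs8 := (mem_leech b.2).sum
      have hz2 : ∑ r, (b : GolayPt → ℤ) r = 4 * ∑ r, z r := by
        rw [Finset.mul_sum]; exact Finset.sum_congr rfl fun r _ => hz r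
      have hpar : (2 : ℤ) ∣ ∑ r, (z r ^ 2 - z r) := Finset.dvd_sum fun r _ => by
        rcases Int.even_or_odd (z r) with ⟨t, ht⟩ | ⟨t, ht⟩ <;> rw [ht]
        · exact ⟨2 * t ^ 2 - t, by ring⟩
        · exact ⟨2 * t ^ 2 + t, by ring⟩
      rw [Finset.sum_sub_distrib, hz3] at hpar
      have := hz none
      omega
    have heq := hammingNorm_eq (hi (b : GolayPt → ℤ))
    rcases hammingNorm_mem _ (mem_leech b.2).code with e | e | e | e | e <;> rw [← ho] at heq <;>
      omega
  obtain ⟨p, hp, hpn, hp0⟩ := exists_outside oᶜ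
    (by rw [Finset.card_compl, card_golayPt]; omega)
  obtain ⟨q, hq, hqn, hq0⟩ := exists_outside o (by omega)
  rw [Finset.mem_compl, not_not] at hp
  obtain ⟨c, hc, hcv⟩ := exists_fix_value b (p := p) (q := q) (fun e => hq (e ▸ hp)) ⟨hpn, hp0⟩ ⟨hqn, hq0⟩
  have h1 := (mem_support_hi b.2 hodd p).mp hp
  have h2 : ¬ ((b : GolayPt → ℤ) q % 4 = 2) := fun e => hq ((mem_support_hi b.2 hodd q).mpr e)
  have h3 := (mem_leech b.2).par q
  obtain ⟨d, hd, hA⟩ := to_atFive_of_odd (hc.sqNorm_eq.trans hn) (by rw [hc.pair_sum]; exact hs)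
    (by rw [hcv]; omega)
  exact ⟨d, hc.trans hd, hA⟩

theorem orbit_middle_sixteen {b b' : leechLattice} (hn : sqNorm (b : GolayPt → ℤ) = 48)
    (hn' : sqNorm (b' : GolayPt → ℤ) = 48)
    (hd : dotInt (Spor.leechU : GolayPt → ℤ) (b : GolayPt → ℤ) = -16)
    (hd' : dotInt (Spor.leechU : GolayPt → ℤ) (b' : GolayPt → ℤ) = -16) : FixRel b b' := by
  rw [dot_U] at hd hd'
  obtain ⟨c, hr, hc⟩ := to_atFive hn (by omega)
  obtain ⟨c', hr', hc'⟩ := to_atFive hn' (by omega)
  exact (hr.trans (atFive_fix hc hc')).trans hr'.symm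

theorem dotInt_comm' (x y : GolayPt → ℤ) : dotInt x y = dotInt y x :=
  Finset.sum_congr rfl fun p _ => mul_comm _ _

theorem exists_fix_middle_sixteen {u x x' : leechLattice} (hu : sqNorm (u : GolayPt → ℤ) = 48)
    (hx : sqNorm (x : GolayPt → ℤ) = 32) (hx' : sqNorm (x' : GolayPt → ℤ) = 32)
    (hd : dotInt (u : GolayPt → ℤ) (x : GolayPt → ℤ) = -16)
    (hd' : dotInt (u : GolayPt → ℤ) (x' : GolayPt → ℤ) = -16) :
    ∃ g : Co0, g • u = u ∧ g • x = x' := by
  obtain ⟨g, hg⟩ := min_orbit hx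
  obtain ⟨g', hg'⟩ := min_orbit hx'
  have e := (dot_smul' g x u).trans ((dotInt_comm' _ _).trans hd)
  have e' := (dot_smul' g' x' u).trans ((dotInt_comm' _ _).trans hd')
  rw [hg] at e
  rw [hg'] at e'
  obtain ⟨h, hU, hb⟩ := orbit_middle_sixteen ((sqNorm_smul g u).trans hu)
    ((sqNorm_smul g' u).trans hu) e e'
  refine ⟨g'⁻¹ * h * g, ?_, ?_⟩
  · rw [mul_smul, mul_smul, hb, inv_smul_smul]
  · rw [mul_smul, mul_smul, hg, hU, ← hg', inv_smul_smul]

theorem exists_swap_middle {v w : leechLattice} (hv : sqNorm (v : GolayPt → ℤ) = 48)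
    (hw : sqNorm (w : GolayPt → ℤ) = 48)
    (hvw : dotInt (v : GolayPt → ℤ) (w : GolayPt → ℤ) = -32) :
    ∃ g : Co0, g • v = w ∧ g • w = v := by
  obtain ⟨g, hg⟩ := middle_transitive hv hw
  have hs := sqNorm_add (v : GolayPt → ℤ) (w : GolayPt → ℤ)
  rw [hv, hw, hvw] at hs
  norm_num at hs
  have hz : sqNorm ((-(v + w) : leechLattice) : GolayPt → ℤ) = 32 := by
    rw [AddSubgroup.coe_neg, AddSubgroup.coe_add, ← hs]
    exact Finset.sum_congr rfl fun p _ => neg_sq _
  have hlin : ∀ a : leechLattice, dotInt (a : GolayPt → ℤ) ((-(v + w) : leechLattice) : GolayPt → ℤ) =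
      -(dotInt (a : GolayPt → ℤ) (v : GolayPt → ℤ) + dotInt (a : GolayPt → ℤ) (w : GolayPt → ℤ)) :=
    fun a => by
      simp only [dotInt, ← Finset.sum_add_distrib, ← Finset.sum_neg_distrib]
      refine Finset.sum_congr rfl fun p _ => ?_
      rw [AddSubgroup.coe_neg, AddSubgroup.coe_add, Pi.neg_apply, Pi.add_apply]
      ring
  have hvv : dotInt (v : GolayPt → ℤ) (v : GolayPt → ℤ) = 48 := by
    rw [← hv]; exact Finset.sum_congr rfl fun p _ => (sq _).symm
  have hww : dotInt (w : GolayPt → ℤ) (w : GolayPt → ℤ) = 48 := by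
    rw [← hw]; exact Finset.sum_congr rfl fun p _ => (sq _).symm
  have d1 : dotInt (w : GolayPt → ℤ) ((g • -(v + w) : leechLattice) : GolayPt → ℤ) = -16 := by
    have e := (dot_smul' g v (-(v + w))).trans (hlin v)
    rw [hg, hvv, hvw] at e
    rw [e]; norm_num
  have d2 : dotInt (w : GolayPt → ℤ) ((-(v + w) : leechLattice) : GolayPt → ℤ) = -16 := by
    rw [hlin, hww, dotInt_comm', hvw]; norm_num
  obtain ⟨h, hh, hhx⟩ := exists_fix_middle_sixteen hw ((sqNorm_smul g _).trans hz) hz d1 d2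
  refine ⟨h * g, by rw [mul_smul, hg, hh], ?_⟩
  have e : (h * g) • -(v + w) = -(v + w) := by rw [mul_smul, hhx]
  rw [smul_neg', smul_add', neg_inj, mul_smul, hg, hh] at e
  rwa [add_comm v w, add_right_inj] at e

end CfsgLib.Leech
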