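/-
Decompositions of a vector of squared length 48 into two shortest vectors.
-/
import Cfsg.Agent.Leech.StabOrbits
import Cfsg.Agent.Leech.PairCount
import Cfsg.Agent.Leech.Middle

set_option autoImplicit false

namespace CfsgLib.Leech

open Cfsg CfsgLib.Golay

attribute [local irreducible] shortVecs halfTable quarterTable codeFinset

/-- A shortest vector whose complement in `u` is a shortest vector. -/
def Splits (u v : leechLattice) : Prop :=
  sqNorm (v : GolayPt → ℤ) = 32 ∧ sqNorm ((u - v : leechLattice) : GolayPt → ℤ) = 32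

theorem Splits.dot {u v : leechLattice} (hu : sqNorm (u : GolayPt → ℤ) = 48) (h : Splits u v) :
    dotInt (v : GolayPt → ℤ) ((u - v : leechLattice) : GolayPt → ℤ) = -8 := by
  have h2 := sqNorm_add (v : GolayPt → ℤ) ((u - v : leechLattice) : GolayPt → ℤ)
  rw [← AddSubgroup.coe_add, add_sub_cancel, hu, h.1, h.2] at h2
  omega

theorem Splits.smul {u v : leechLattice} (g : Co0) (h : Splits u v) : Splits (g • u) (g • v) := by
  refine ⟨(sqNorm_smul g v).trans h.1, ?_⟩
  rw [← smul_sub', sqNorm_smul]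
  exact h.2

theorem splits_smul_iff {u v : leechLattice} (g : Co0) : Splits (g • u) (g • v) ↔ Splits u v :=
  ⟨fun h => by simpa using h.smul g⁻¹, fun h => h.smul g⟩

theorem exists_fix_splits {u v v' : leechLattice} (hu : sqNorm (u : GolayPt → ℤ) = 48)
    (hv : Splits u v) (hv' : Splits u v') : ∃ g : Co0, g • u = u ∧ g • v = v' := by
  obtain ⟨g, hg⟩ := min_orbit hv.1
  obtain ⟨g', hg'⟩ := min_orbit hv'.1
  have hd := (dot_smul' g v (u - v)).trans (hv.dot hu)
  have hd' := (dot_smul' g' v' (u - v')).trans (hv'.dot hu)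
  rw [hg] at hd
  rw [hg'] at hd'
  obtain ⟨h, hU, hb⟩ := orbit_eight ((sqNorm_smul g _).trans hv.2) ((sqNorm_smul g' _).trans hv'.2)
    hd hd'
  have e1 : (g'⁻¹ * h * g) • v = v' := by
    rw [mul_smul, mul_smul, hg, hU, ← hg', inv_smul_smul]
  have e2 : (g'⁻¹ * h * g) • (u - v) = u - v' := by
    rw [mul_smul, mul_smul, hb, inv_smul_smul]
  refine ⟨_, ?_, e1⟩
  rw [smul_sub', e1] at e2
  exact sub_left_inj.mp e2

theorem ncard_splits_const {u u' : leechLattice} (hu : sqNorm (u : GolayPt → ℤ) = 48)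
    (hu' : sqNorm (u' : GolayPt → ℤ) = 48) : {v | Splits u v}.ncard = {v | Splits u' v}.ncard := by
  obtain ⟨g, rfl⟩ := middle_transitive hu hu'
  exact ncard_smul g fun v => splits_smul_iff g

theorem ncard_complements {v : leechLattice} (hv : sqNorm (v : GolayPt → ℤ) = 32) :
    {b : leechLattice | sqNorm (b : GolayPt → ℤ) = 32 ∧
      dotInt (v : GolayPt → ℤ) (b : GolayPt → ℤ) = -8}.ncard = 47104 := by
  rw [ncard_coe fun b => sqNorm b = 32 ∧ dotInt (v : GolayPt → ℤ) b = -8]
  exact ncard_dot_eight v.2 hv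

theorem card_norm_sub (n : ℤ) :
    Nat.card {u : leechLattice // sqNorm (u : GolayPt → ℤ) = n} =
      {x : GolayPt → ℤ | x ∈ leechLattice ∧ sqNorm x = n}.ncard :=
  (Nat.card_coe_set_eq {u : leechLattice | sqNorm (u : GolayPt → ℤ) = n}).trans
    (ncard_coe fun x => sqNorm x = n)

theorem ncard_splits {u : leechLattice} (hu : sqNorm (u : GolayPt → ℤ) = 48) :
    {v | Splits u v}.ncard = 552 := by
  let A := {a : leechLattice // sqNorm (a : GolayPt → ℤ) = 48}
  let B := {b : leechLattice // sqNorm (b : GolayPt → ℤ) = 32}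
  have hA : Nat.card A = 16773120 := (card_norm_sub 48).trans ncard_norm_48
  have hB : Nat.card B = 196560 := (card_norm_sub 32).trans ncard_norm_32
  have : Finite A := Nat.finite_of_card_ne_zero (by omega)
  have : Finite B := Nat.finite_of_card_ne_zero (by omega)
  have := Fintype.ofFinite A
  have := Fintype.ofFinite B
  let fA : A → Type := fun a => {v : leechLattice // Splits a.1 v}
  let fB : B → Type := fun v => {b : leechLattice // sqNorm (b : GolayPt → ℤ) = 32 ∧
    dotInt (v.1 : GolayPt → ℤ) (b : GolayPt → ℤ) = -8}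
  let e : (Σ a, fA a) ≃ (Σ v, fB v) :=
    { toFun := fun x => ⟨⟨x.2.1, x.2.2.1⟩, ⟨x.1.1 - x.2.1, x.2.2.2, x.2.2.dot x.1.2⟩⟩
      invFun := fun y => ⟨⟨y.1.1 + y.2.1, by
          rw [AddSubgroup.coe_add, sqNorm_add, y.1.2, y.2.2.1, y.2.2.2]; norm_num⟩,
        ⟨y.1.1, y.1.2, by rw [add_sub_cancel_left]; exact y.2.2.1⟩⟩
      left_inv := fun ⟨⟨a, ha⟩, ⟨v, hv⟩⟩ => by
        refine Sigma.subtype_ext (Subtype.ext ?_) rfl
        exact add_sub_cancel v a
      right_inv := fun ⟨⟨v, hv⟩, ⟨b, hb⟩⟩ => by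
        refine Sigma.subtype_ext rfl ?_
        exact add_sub_cancel_left v b }
  have hfA : ∀ a : A, Nat.card (fA a) = {v | Splits u v}.ncard := fun a =>
    (Nat.card_coe_set_eq {v | Splits a.1 v}).trans (ncard_splits_const a.2 hu)
  have hfB : ∀ v : B, Nat.card (fB v) = 47104 := fun v =>
    (Nat.card_coe_set_eq {b : leechLattice | sqNorm (b : GolayPt → ℤ) = 32 ∧
      dotInt (v.1 : GolayPt → ℤ) (b : GolayPt → ℤ) = -8}).trans (ncard_complements v.2)
  have : ∀ a, Finite (fA a) := fun a =>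
    Finite.of_injective (fun x : fA a => (⟨x.1, x.2.1⟩ : B))
      fun x y h => Subtype.ext (congrArg (fun b : B => b.1) h)
  have : ∀ v, Finite (fB v) := fun v => Nat.finite_of_card_ne_zero (by rw [hfB]; norm_num)
  have h := Nat.card_congr e
  rw [Nat.card_sigma, Nat.card_sigma, Finset.sum_congr rfl (fun a _ => hfA a),
    Finset.sum_congr rfl (fun v _ => hfB v), Finset.sum_const, Finset.sum_const,
    Finset.card_univ, Finset.card_univ, ← Nat.card_eq_fintype_card, ← Nat.card_eq_fintype_card,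
    hA, hB, smul_eq_mul, smul_eq_mul] at h
  omega

end CfsgLib.Leech
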