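/-
The action of the automorphism group on coordinates modulo 13, and its restriction to the
hyperplane orthogonal to the standard shortest vector.
-/
import Cfsg.Agent.Leech.Linear

set_option autoImplicit false

namespace CfsgLib.Leech

open Cfsg CfsgLib.Golay

/-- The field of thirteen elements. -/
abbrev K13 := ZMod 13

theorem fact13 : Fact (Nat.Prime 13) := ⟨by norm_num⟩

/-- The matrix of an automorphism modulo 13 (five inverts eight). -/
def modMat (g : Co0) : Matrix GolayPt GolayPt K13 := fun p q => 5 * (mat g p q : K13)

theorem five_ne : (5 : K13) ≠ 0 := by decide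

theorem two_ne : (2 : K13) ≠ 0 := by decide

theorem five_eight : (5 : K13) * 8 = 1 := by decide

theorem mat_one (p q : GolayPt) : mat 1 p q = if p = q then 8 else 0 := by
  simp [mat, eightAt_apply]

theorem mat_mul (g h : Co0) (p q : GolayPt) :
    8 * mat (g * h) p q = ∑ r, mat g p r * mat h r q := by
  show 8 * (((g * h) • eightAt q : leechLattice) : GolayPt → ℤ) p = _
  rw [mul_smul, mat_mul_vec]
  rfl

theorem modMat_one : modMat 1 = 1 := by
  ext p q
  simp only [modMat, mat_one, Matrix.one_apply]
  split <;> simp [five_eight]

theorem modMat_mul (g h : Co0) : modMat (g * h) = modMat g * modMat h := by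
  ext p q
  simp only [modMat, Matrix.mul_apply]
  have h1 : (8 : K13) * ((mat (g * h) p q : ℤ) : K13) =
      ∑ r, ((mat g p r : ℤ) : K13) * ((mat h r q : ℤ) : K13) := by
    have := congrArg (fun t : ℤ => (t : K13)) (mat_mul g h p q)
    simpa using this
  have h2 : ∀ r, (5 : K13) * ((mat g p r : ℤ) : K13) * (5 * ((mat h r q : ℤ) : K13)) =
      25 * (((mat g p r : ℤ) : K13) * ((mat h r q : ℤ) : K13)) := fun r => by ring
  rw [Finset.sum_congr rfl fun r _ => h2 r, ← Finset.mul_sum, ← h1, ← mul_assoc]
  congr 1

theorem sqNorm_sub_le (x y : GolayPt → ℤ) : sqNorm (x - y) ≤ 2 * (sqNorm x + sqNorm y) := by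
  simp only [sqNorm, ← Finset.sum_add_distrib, Finset.mul_sum, Pi.sub_apply]
  exact Finset.sum_le_sum fun i _ => by nlinarith [sq_nonneg (x i + y i)]

/-- Minkowski: an automorphism congruent to one modulo 13 is one. -/
theorem eq_one_of_modMat {g : Co0} (h : modMat g = 1) : g = 1 := by
  have hfix : ∀ a : leechLattice, sqNorm (a : GolayPt → ℤ) = 32 → g • a = a := by
    intro a ha
    refine Subtype.ext (funext fun p => ?_)
    have hmat : ∀ r q, (13 : ℤ) ∣ mat g r q - mat 1 r q := fun r q => by
      have h1 := congrFun (congrFun (h.trans modMat_one.symm) r) q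
      simp only [modMat] at h1
      have := fact13
      have h2 := mul_left_cancel₀ five_ne h1
      have := (ZMod.intCast_eq_intCast_iff' _ _ 13).mp h2
      omega
    have hdiv : ∀ r, (13 : ℤ) ∣ ((g • a : leechLattice) : GolayPt → ℤ) r -
        (a : GolayPt → ℤ) r := fun r => by
      have h1 := mat_mul_vec g a r
      have h2 := mat_mul_vec 1 a r
      rw [one_smul] at h2
      have h3 : (13 : ℤ) ∣ ∑ q, (mat g r q * (a : GolayPt → ℤ) q - mat 1 r q * (a : GolayPt → ℤ) q) :=
        Finset.dvd_sum fun q _ => by rw [← sub_mul]; exact dvd_mul_of_dvd_left (hmat r q) _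
      rw [Finset.sum_sub_distrib, ← h1, ← h2] at h3
      omega
    by_contra hne
    have hle := sqNorm_sub_le ((g • a : leechLattice) : GolayPt → ℤ) (a : GolayPt → ℤ)
    rw [sqNorm_smul, ha] at hle
    have hbig : 169 ≤ sqNorm (((g • a : leechLattice) : GolayPt → ℤ) - (a : GolayPt → ℤ)) := by
      obtain ⟨k, hk⟩ := hdiv p
      have hk0 : k ≠ 0 := by rintro rfl; exact hne (by linarith)
      refine le_trans ?_ (Finset.single_le_sum (fun r _ => sq_nonneg _) (Finset.mem_univ p))
      simp only [Pi.sub_apply, hk]
      have : 0 < k ^ 2 := by positivity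
      nlinarith
    linarith
  refine eq_of_mat_eq fun p q => ?_
  suffices g • eightAt q = eightAt q by simp [mat, this]
  obtain ⟨r, hr⟩ : ∃ r, r ≠ q := exists_ne q
  let a : GolayPt → ℤ := fun t => if t = q then 4 else if t = r then 4 else 0
  let b : GolayPt → ℤ := fun t => if t = q then 4 else if t = r then -4 else 0
  have ha : a ∈ leechLattice := by
    have : a = fun t => 4 * ((if t = q then (1 : ℤ) else 0) + (if t = r then 1 else 0)) := by
      funext t; by_cases h1 : t = q <;> by_cases h2 : t = r <;> simp_all [a]
    rw [this, four_mul_mem_iff, Finset.sum_add_distrib]; simp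
  have hb : b ∈ leechLattice := by
    have : b = fun t => 4 * ((if t = q then (1 : ℤ) else 0) - (if t = r then 1 else 0)) := by
      funext t; by_cases h1 : t = q <;> by_cases h2 : t = r <;> simp_all [b]
    rw [this, four_mul_mem_iff, Finset.sum_sub_distrib]; simp
  have hn : ∀ s : ℤ, s ^ 2 = 16 →
      ∑ t, (if t = q then 4 else if t = r then s else 0 : ℤ) ^ 2 = 32 := by
    intro s hs
    rw [Finset.sum_eq_add q r (Ne.symm hr) (fun t _ ht => by simp [ht.1, ht.2]) (by simp) (by simp)]
    simp [hr, hs]
  have key : eightAt q = (⟨a, ha⟩ : leechLattice) + ⟨b, hb⟩ := by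
    refine Subtype.ext (funext fun t => ?_)
    show (eightAt q : GolayPt → ℤ) t = a t + b t
    rw [eightAt_apply]
    by_cases h1 : t = q <;> by_cases h2 : t = r <;> simp [a, b, h1, h2, hr]
  rw [key, smul_add', hfix ⟨a, ha⟩ (hn 4 (by norm_num)), hfix ⟨b, hb⟩ (hn (-4) (by norm_num))]

/-- The stabiliser of the standard shortest vector inside the automorphism group. -/
theorem co2_fix (g : Spor.Co2) :
    (⟨(g : Equiv.Perm leechLattice), g.2.1⟩ : Co0) • Spor.leechU = Spor.leechU := g.2.2

/-- The inclusion of the stabiliser. -/
def co2Incl : Spor.Co2 →* Co0 := Subgroup.inclusion (inf_le_left : Spor.Co2 ≤ Co0)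

theorem co2Incl_injective : Function.Injective co2Incl := Subgroup.inclusion_injective _

theorem co2_dot_col (g : Spor.Co2) (q : GolayPt) :
    mat (co2Incl g) none q + mat (co2Incl g) (some 0) q =
      8 * ((if q = none then 1 else 0) + (if q = some 0 then 1 else 0)) := by
  have h := dot_smul' (co2Incl g) (eightAt q) Spor.leechU
  rw [show co2Incl g • Spor.leechU = Spor.leechU from co2_fix g] at h
  have hU : ∀ (f : GolayPt → ℤ), dotInt f (Spor.leechU : GolayPt → ℤ) =
      4 * f none + 4 * f (some 0) := by
    intro f
    show ∑ t, f t * Spor.vecU t = _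
    rw [Finset.sum_eq_add (none : GolayPt) (some 0) (by simp)
      (fun t _ ht => by simp [Spor.vecU, ht.1, ht.2]) (by simp) (by simp)]
    simp [Spor.vecU]; ring
  rw [hU, hU, eightAt_apply, eightAt_apply] at h
  simp only [eq_comm (a := q)]
  show mat (co2Incl g) none q + mat (co2Incl g) (some 0) q = _
  simp only [mat]
  split_ifs at h ⊢ <;> omega

/-- Coordinate of the extra point removed: the matrix on the orthogonal hyperplane. -/
def hypMat (g : Spor.Co2) : Matrix (ZMod 23) (ZMod 23) K13 := fun i j =>
  modMat (co2Incl g) (some i) (some j) -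
    (if j = 0 then modMat (co2Incl g) (some i) none else 0)

theorem modMat_col (g : Spor.Co2) (q : GolayPt) :
    modMat (co2Incl g) none q + modMat (co2Incl g) (some 0) q =
      (if q = none then 1 else 0) + (if q = some 0 then 1 else 0) := by
  have h := congrArg (fun t : ℤ => (5 : K13) * (t : K13)) (co2_dot_col g q)
  simp only [Int.cast_add, Int.cast_mul, Int.cast_ofNat, mul_add] at h
  simp only [modMat]
  rw [h]
  split_ifs <;> simp [five_eight]

theorem sum_option (f : GolayPt → K13) : ∑ t, f t = f none + ∑ k : ZMod 23, f (some k) :=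
  Fintype.sum_option f

theorem hypMat_one : hypMat 1 = 1 := by
  ext i j
  simp only [hypMat, map_one, modMat_one, Matrix.one_apply, Option.some.injEq]
  split_ifs <;> simp_all

theorem hypMat_mul (g h : Spor.Co2) : hypMat (g * h) = hypMat g * hypMat h := by
  ext i j
  set A := modMat (co2Incl g) with hA
  set B := modMat (co2Incl h) with hB
  let v : GolayPt → K13 := fun t => B t (some j) - (if j = 0 then B t none else 0)
  have hv : v none + v (some 0) = 0 := by
    have h1 := modMat_col h (some j)
    have h2 := modMat_col h none
    simp only [v, ← hB] at h1 h2 ⊢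
    by_cases hj : j = 0
    · subst hj
      simp only [reduceCtorEq, if_false, if_true, zero_add, add_zero] at h1 h2 ⊢
      linear_combination h1 - h2
    · simp only [reduceCtorEq, if_false, zero_add, hj, sub_zero, Option.some.injEq] at h1 ⊢
      exact h1
  have hlhs : hypMat (g * h) i j = ∑ t, A (some i) t * v t := by
    show modMat (co2Incl (g * h)) (some i) (some j) - _ = _
    rw [map_mul, modMat_mul]
    simp only [Matrix.mul_apply, v, mul_sub, Finset.sum_sub_distrib, ← hA, ← hB]
    split <;> simp
  rw [hlhs, Matrix.mul_apply, sum_option]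
  have hk : ∀ k : ZMod 23, hypMat g i k * hypMat h k j =
      A (some i) (some k) * v (some k) - (if k = 0 then A (some i) none * v (some k) else 0) := by
    intro k
    show (A (some i) (some k) - if k = 0 then A (some i) none else 0) * v (some k) = _
    split <;> ring
  rw [Finset.sum_congr rfl fun k _ => hk k, Finset.sum_sub_distrib, Finset.sum_ite_eq']
  simp only [Finset.mem_univ, if_true]
  have : v none = -v (some 0) := eq_neg_of_add_eq_zero_left hv
  rw [this]
  ring_nf

/-- The hyperplane representation as a monoid homomorphism. -/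
def hypHom : Spor.Co2 →* Matrix (ZMod 23) (ZMod 23) K13 where
  toFun := hypMat
  map_one' := hypMat_one
  map_mul' := hypMat_mul

theorem eq_one_of_hypMat {g : Spor.Co2} (h : hypMat g = 1) : g = 1 := by
  refine co2Incl_injective ((eq_one_of_modMat ?_).trans (map_one co2Incl).symm)
  set A := modMat (co2Incl g) with hA
  have hij : ∀ i j : ZMod 23, A (some i) (some j) - (if j = 0 then A (some i) none else 0) =
      if i = j then 1 else 0 := fun i j => by
    have := congrFun (congrFun h i) j
    rw [Matrix.one_apply] at this
    exact this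
  have hU : ∀ p, A p none + A p (some 0) =
      (if p = none then 1 else 0) + (if p = some 0 then 1 else 0) := by
    intro p
    have h1 := mat_mul_vec (co2Incl g) Spor.leechU p
    rw [show co2Incl g • Spor.leechU = Spor.leechU from co2_fix g] at h1
    have h2 : ∑ q, mat (co2Incl g) p q * (Spor.leechU : GolayPt → ℤ) q =
        4 * mat (co2Incl g) p none + 4 * mat (co2Incl g) p (some 0) := by
      show ∑ t, mat (co2Incl g) p t * Spor.vecU t = _
      rw [Finset.sum_eq_add (none : GolayPt) (some 0) (by simp)
        (fun t _ ht => by simp [Spor.vecU, ht.1, ht.2]) (by simp) (by simp)]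
      simp [Spor.vecU]; ring
    have h3 : mat (co2Incl g) p none + mat (co2Incl g) p (some 0) =
        8 * ((if p = none then 1 else 0) + (if p = some 0 then 1 else 0)) := by
      rw [h2] at h1
      change 8 * Spor.vecU p = _ at h1
      simp only [Spor.vecU] at h1
      split_ifs at h1 ⊢ <;> simp_all <;> omega
    have h4 := congrArg (fun t : ℤ => (5 : K13) * (t : K13)) h3
    simp only [Int.cast_add, Int.cast_mul, Int.cast_ofNat, mul_add] at h4
    simp only [hA, modMat]
    rw [h4]
    split_ifs <;> simp [five_eight]
  ext p q
  rw [Matrix.one_apply]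
  -- the rows away from the extra point
  have hsome : ∀ i : ZMod 23, ∀ q, A (some i) q = if (some i : GolayPt) = q then 1 else 0 := by
    intro i q
    have hn : A (some i) none = 0 := by
      have := fact13
      have h1 := hij i 0
      have h2 := hU (some i)
      simp only [if_true, reduceCtorEq, if_false, zero_add, Option.some.injEq] at h1 h2
      have h3 : (2 : K13) * A (some i) none = 0 := by
        linear_combination h2 - h1
      exact (mul_eq_zero.mp h3).resolve_left two_ne
    rcases q with _ | j
    · simpa using hn
    · have h1 := hij i j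
      rw [hn, ite_self, sub_zero] at h1
      rw [h1]
      simp only [Option.some.injEq]
  rcases p with _ | i
  · have h1 := modMat_col g q
    rw [← hA, hsome 0 q] at h1
    rcases q with _ | j
    · simpa using h1
    · simp only [reduceCtorEq, if_false, zero_add, Option.some.injEq] at h1 ⊢
      have e2 : (if ((0 : ZMod 23) = j) then (1 : K13) else 0) =
          if j = 0 then 1 else 0 := if_congr eq_comm rfl rfl
      linear_combination h1 - e2
  · exact hsome i q

/-- The stabiliser embeds in the general linear group of degree 23 over thirteen elements. -/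
theorem exists_embedding :
    ∃ f : Spor.Co2 →* GL (Fin 23) K13, Function.Injective f := by
  let r := (Matrix.reindexAlgEquiv K13 K13
    ((ZMod.finEquiv 23).symm.toEquiv)).toAlgHom.toRingHom.toMonoidHom
  refine ⟨(r.comp hypHom).toHomUnits, ?_⟩
  rw [injective_iff_map_eq_one]
  intro g hg
  refine eq_one_of_hypMat ?_
  have h1 : r (hypMat g) = r 1 := (congrArg Units.val hg).trans r.map_one.symm
  exact (Matrix.reindexAlgEquiv K13 K13 _).injective h1

end CfsgLib.Leech
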